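import Mathlib

/-!
# Bialgebra homomorphisms of Hopf algebras commute with antipodes; transport of Hopf ideals
(helper2)
-/

set_option autoImplicit false
open scoped TensorProduct
open WithConv

namespace Groth.Agent.Helper2.HopfLib

universe u v w

section antipode

variable {R : Type u} [CommSemiring R] {A : Type v} {B : Type w} [Semiring A] [Semiring B]
  [HopfAlgebra R A] [HopfAlgebra R B]

/-- a bialgebra homomorphism between Hopf algebras commutes with the antipodes -/
theorem bialgHom_antipode (f : A →ₐc[R] B) :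
    (f : A →ₐ[R] B).toLinearMap ∘ₗ HopfAlgebra.antipode R =
      HopfAlgebra.antipode R ∘ₗ (f : A →ₐ[R] B).toLinearMap := by
  have h1 : toConv ((f : A →ₐ[R] B).toLinearMap ∘ₗ HopfAlgebra.antipode R (A := A)) *
      toConv (f : A →ₐ[R] B).toLinearMap = 1 := by
    apply WithConv.ofConv_injective
    have := LinearMap.algHom_comp_convMul_distrib (f : A →ₐ[R] B)
      (toConv (HopfAlgebra.antipode R (A := A))) (toConv (LinearMap.id : A →ₗ[R] A))
    rw [LinearMap.antipode_mul_id] at this
    rw [toConv_ofConv, toConv_ofConv, LinearMap.comp_id] at this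
    rw [← this]
    ext a
    simp only [LinearMap.coe_comp, Function.comp_apply, LinearMap.convOne_apply]
    exact AlgHom.commutes (f : A →ₐ[R] B) _
  have h2 : toConv (f : A →ₐ[R] B).toLinearMap *
      toConv (HopfAlgebra.antipode R (A := B) ∘ₗ (f : A →ₐ[R] B).toLinearMap) = 1 := by
    apply WithConv.ofConv_injective
    have := LinearMap.convMul_comp_coalgHom_distrib
      (toConv (LinearMap.id : B →ₗ[R] B)) (toConv (HopfAlgebra.antipode R (A := B)))
      (f : A →ₗc[R] B)
    rw [LinearMap.id_mul_antipode] at this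
    refine Eq.trans (Eq.symm this) ?_
    ext a
    simp only [LinearMap.coe_comp, Function.comp_apply, LinearMap.convOne_apply]
    congr 1
    exact CoalgHomClass.counit_comp_apply f a
  have h3 := congrArg (fun x => x * toConv (HopfAlgebra.antipode R (A := B) ∘ₗ
    (f : A →ₐ[R] B).toLinearMap)) h1
  simp only [mul_assoc, h2, mul_one, one_mul] at h3
  exact congrArg WithConv.ofConv h3

theorem bialgHom_antipode_apply (f : A →ₐc[R] B) (a : A) :
    f (HopfAlgebra.antipode R a) = HopfAlgebra.antipode R (f a) :=
  congrArg (fun g : A →ₗ[R] B => g a) (bialgHom_antipode f)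

end antipode

section transport

variable {R : Type u} [CommRing R] {A : Type v} {B : Type w} [CommRing A] [CommRing B]
  [HopfAlgebra R A] [HopfAlgebra R B]

/-- the preimage of a Hopf ideal under a bialgebra isomorphism is a Hopf ideal -/
theorem isHopfIdeal_comap (Θ : A ≃ₐc[R] B) (J : Ideal B) [hJ : J.IsHopfIdeal R] :
    (J.comap Θ).IsHopfIdeal R := by
  have hmem : ∀ x : A, x ∈ J.comap Θ ↔ Θ x ∈ J := fun x => Iff.rfl
  refine { counit_eq_zero := ?_, map_mkQ_comul_eq_zero := ?_, antipode_mem := ?_ }
  · intro x hx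
    have h1 : Coalgebra.counit (R := R) (Θ x) = 0 :=
      hJ.counit_eq_zero (show Θ x ∈ J.restrictScalars R from hx)
    rw [← h1]
    exact (CoalgHomClass.counit_comp_apply Θ x).symm
  · intro x hx
    have hle : J.restrictScalars R ≤
        ((J.comap Θ).restrictScalars R).comap (Θ.symm : B ≃ₗ[R] A).toLinearMap := by
      intro b hb
      show Θ (Θ.symm b) ∈ J
      rw [BialgEquiv.apply_symm_apply]
      exact hb
    let ψ : (B ⧸ J.restrictScalars R) →ₗ[R] (A ⧸ (J.comap Θ).restrictScalars R) :=
      (J.restrictScalars R).mapQ ((J.comap Θ).restrictScalars R)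
        (Θ.symm : B ≃ₗ[R] A).toLinearMap hle
    have e1 : ((J.comap Θ).restrictScalars R).mkQ =
        ψ ∘ₗ (J.restrictScalars R).mkQ ∘ₗ (Θ : A ≃ₗ[R] B).toLinearMap := by
      refine LinearMap.ext fun a => ?_
      show _ = ((J.comap Θ).restrictScalars R).mkQ (Θ.symm (Θ a))
      rw [BialgEquiv.symm_apply_apply]
    rw [e1, TensorProduct.map_comp, TensorProduct.map_comp, LinearMap.comp_apply,
      LinearMap.comp_apply]
    have e2 : TensorProduct.map (Θ : A ≃ₗ[R] B).toLinearMap (Θ : A ≃ₗ[R] B).toLinearMap
        (Coalgebra.comul (R := R) x) = Coalgebra.comul (R := R) (Θ x) :=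
      CoalgHomClass.map_comp_comul_apply Θ x
    rw [e2, hJ.map_mkQ_comul_eq_zero (show Θ x ∈ J.restrictScalars R from hx), map_zero]
  · intro x hx
    rw [hmem]
    have := bialgHom_antipode_apply (Θ : A →ₐc[R] B) x
    have h2 : Θ (HopfAlgebra.antipode R x) = HopfAlgebra.antipode R (Θ x) := this
    rw [h2]
    exact hJ.antipode_mem hx

end transport

end Groth.Agent.Helper2.HopfLib
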