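import Mathlib
import Groth.Prelude.Def_HopfRep
import Groth.Prelude.Def_GLin

/-!
# Coactions of finite free Hopf algebras: integrality over the invariants (helper2)
-/

set_option autoImplicit false
universe u v w w' w''
open TensorProduct Polynomial

namespace Groth.Agent.Helper2.HopfLib

section mat
variable {k : Type u} [CommRing k] {A : Type v} [CommRing A] [Algebra k A]
  {ι : Type w'} [Fintype ι] [DecidableEq ι] (𝒷 : Module.Basis ι k A)

/-- left multiplication matrix on `R ⊗ A` with respect to the base-changed basis -/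
noncomputable def mat (R : Type w) [CommRing R] [Algebra k R] :
    R ⊗[k] A →ₐ[R] Matrix ι ι R :=
  Algebra.leftMulMatrix (Algebra.TensorProduct.basis R 𝒷)

lemma mat_tmul (R : Type w) [CommRing R] [Algebra k R] (r : R) (a : A) (i j : ι) :
    mat 𝒷 R (r ⊗ₜ a) i j = r * algebraMap k R (𝒷.repr (a * 𝒷 j) i) := by
  unfold mat
  rw [Algebra.leftMulMatrix_eq_repr_mul, Algebra.TensorProduct.basis_apply,
    Algebra.TensorProduct.tmul_mul_tmul, mul_one, Algebra.TensorProduct.basis_repr_tmul]
  simp

lemma mat_map {R : Type w} {R' : Type w''} [CommRing R] [CommRing R'] [Algebra k R]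
    [Algebra k R'] (φ : R →ₐ[k] R') (b : R ⊗[k] A) :
    (mat 𝒷 R b).map φ = mat 𝒷 R' (Algebra.TensorProduct.map φ (AlgHom.id k A) b) := by
  induction b using TensorProduct.induction_on with
  | zero => 
    ext i j
    simp
  | tmul r a =>
    ext i j
    rw [Matrix.map_apply, mat_tmul, Algebra.TensorProduct.map_tmul, mat_tmul]
    simp
  | add x y hx hy =>
    rw [map_add, map_add, map_add, ← hx, ← hy]
    ext i j
    simp

lemma charpoly_map {R : Type w} {R' : Type w''} [CommRing R] [CommRing R'] [Algebra k R]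
    [Algebra k R'] (φ : R →ₐ[k] R') (b : R ⊗[k] A) :
    (mat 𝒷 R b).charpoly.map (φ : R →+* R') =
      (mat 𝒷 R' (Algebra.TensorProduct.map φ (AlgHom.id k A) b)).charpoly := by
  rw [← mat_map, ← Matrix.charpoly_map]
  rfl

lemma charpoly_algEquiv {R : Type w} [CommRing R] [Algebra k R]
    (Γ : R ⊗[k] A ≃ₐ[R] R ⊗[k] A) (y : R ⊗[k] A) :
    (mat 𝒷 R (Γ y)).charpoly = (mat 𝒷 R y).charpoly := by
  haveI : Module.Free R (R ⊗[k] A) := Module.Free.of_basis (Algebra.TensorProduct.basis R 𝒷)
  haveI : Module.Finite R (R ⊗[k] A) := Module.Finite.of_basis (Algebra.TensorProduct.basis R 𝒷)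
  unfold mat
  rw [Algebra.leftMulMatrix_apply, Algebra.leftMulMatrix_apply, LinearMap.charpoly_toMatrix,
    LinearMap.charpoly_toMatrix]
  have h : Algebra.lmul R (R ⊗[k] A) (Γ y) =
      Γ.toLinearEquiv.conj (Algebra.lmul R (R ⊗[k] A) y) := by
    ext x
    simp [LinearEquiv.conj_apply]
  rw [h, LinearEquiv.charpoly_conj]

lemma aeval_charpoly {R : Type w} [CommRing R] [Algebra k R] (b : R ⊗[k] A) :
    Polynomial.aeval b (mat 𝒷 R b).charpoly = 0 := by
  have h1 := Matrix.aeval_self_charpoly (mat 𝒷 R b)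
  rw [Polynomial.aeval_algHom_apply] at h1
  unfold mat at h1 ⊢
  exact Algebra.leftMulMatrix_injective _ (by rw [h1, map_zero])

end mat

section galois
open WithConv
variable {k : Type u} [CommRing k] {A : Type v} [CommRing A] [HopfAlgebra k A]
  {R' : Type w} [CommRing R'] [Algebra k R']

/-- the `R'`-algebra endomorphism of `R' ⊗ A` determined by `θ : A → R' ⊗ A` -/
noncomputable def Gam (θ : A →ₐ[k] R' ⊗[k] A) : R' ⊗[k] A →ₐ[R'] R' ⊗[k] A :=
  Algebra.TensorProduct.lift (Algebra.ofId R' (R' ⊗[k] A)) θ (fun _ _ => Commute.all _ _)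

lemma Gam_tmul (θ : A →ₐ[k] R' ⊗[k] A) (r : R') (a : A) :
    Gam θ (r ⊗ₜ a) = (r ⊗ₜ (1 : A)) * θ a := by
  unfold Gam
  rw [Algebra.TensorProduct.lift_tmul]
  rfl

lemma Gam_comp_includeRight (θ : A →ₐ[k] R' ⊗[k] A) :
    ((Gam θ).restrictScalars k).comp (Algebra.TensorProduct.includeRight : A →ₐ[k] R' ⊗[k] A) =
      θ := by
  ext a
  simp [Gam_tmul, ← Algebra.TensorProduct.one_def]

lemma Gam_comp_includeLeft (θ : A →ₐ[k] R' ⊗[k] A) (φ₀ : A →ₐ[k] R') :
    ((Gam θ).restrictScalars k).comp
      ((Algebra.TensorProduct.includeLeft : R' →ₐ[k] R' ⊗[k] A).comp φ₀) =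
      (Algebra.TensorProduct.includeLeft : R' →ₐ[k] R' ⊗[k] A).comp φ₀ := by
  ext a
  simp [Gam_tmul]

/-- `a ↦ Σ φ₀(a₁) ⊗ a₂` -/
noncomputable def tw (φ₀ : A →ₐ[k] R') : A →ₐ[k] R' ⊗[k] A :=
  (toConv ((Algebra.TensorProduct.includeLeft : R' →ₐ[k] R' ⊗[k] A).comp φ₀) *
    toConv (Algebra.TensorProduct.includeRight : A →ₐ[k] R' ⊗[k] A)).ofConv

lemma Gam_comp_tw (θ : A →ₐ[k] R' ⊗[k] A) (φ₀ : A →ₐ[k] R') :
    ((Gam θ).restrictScalars k).comp (tw φ₀) =
      (toConv ((Algebra.TensorProduct.includeLeft : R' →ₐ[k] R' ⊗[k] A).comp φ₀) *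
        toConv θ).ofConv := by
  unfold tw
  rw [AlgHom.comp_convMul_distrib]
  simp only [ofConv_toConv]
  rw [Gam_comp_includeLeft, Gam_comp_includeRight]

/-- the antipode gives left inverses for the convolution product -/
lemma conv_inv_mul {P : Type w'} [CommRing P] [Algebra k P] (f : A →ₐ[k] P) :
    toConv (f.comp (HopfAlgebra.antipodeAlgHom k A)) * toConv f = 1 := by
  have h1 := AlgHom.comp_convMul_distrib f (toConv (HopfAlgebra.antipodeAlgHom k A))
    (toConv (AlgHom.id k A))
  rw [AlgHom.antipode_id_cancel] at h1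
  simp only [ofConv_toConv, AlgHom.comp_id] at h1
  have h2 : toConv (f.comp (HopfAlgebra.antipodeAlgHom k A)) * toConv f =
      toConv (f.comp (1 : WithConv (A →ₐ[k] A)).ofConv) := by
    rw [h1]
  rw [h2]
  apply WithConv.ofConv_injective
  ext a
  simp [AlgHom.convOne_def]

lemma conv_mul_inv {P : Type w'} [CommRing P] [Algebra k P] (f : A →ₐ[k] P) :
    toConv f * toConv (f.comp (HopfAlgebra.antipodeAlgHom k A)) = 1 := by
  set g := toConv (f.comp (HopfAlgebra.antipodeAlgHom k A)) with hg
  have h1 : g * toConv f = 1 := conv_inv_mul f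
  have h2 : toConv ((f.comp (HopfAlgebra.antipodeAlgHom k A)).comp
      (HopfAlgebra.antipodeAlgHom k A)) * g = 1 := conv_inv_mul _
  set g' := toConv ((f.comp (HopfAlgebra.antipodeAlgHom k A)).comp
      (HopfAlgebra.antipodeAlgHom k A)) with hg'
  have h3 : g' = toConv f := by
    calc g' = g' * (g * toConv f) := by rw [h1, mul_one]
      _ = (g' * g) * toConv f := (mul_assoc _ _ _).symm
      _ = toConv f := by rw [h2, one_mul]
  rw [← h3]
  exact h2

lemma Gam_includeRight : Gam (Algebra.TensorProduct.includeRight : A →ₐ[k] R' ⊗[k] A) =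
    AlgHom.id R' (R' ⊗[k] A) := by
  apply Algebra.TensorProduct.ext
  · ext
  · ext a
    simp [Gam_tmul]

lemma Gam_tw_comp (φ₀ ψ₀ : A →ₐ[k] R')
    (h : toConv ((Algebra.TensorProduct.includeLeft : R' →ₐ[k] R' ⊗[k] A).comp ψ₀) *
      toConv ((Algebra.TensorProduct.includeLeft : R' →ₐ[k] R' ⊗[k] A).comp φ₀) = 1) :
    (Gam (tw φ₀)).comp (Gam (tw ψ₀)) = AlgHom.id R' (R' ⊗[k] A) := by
  apply Algebra.TensorProduct.ext
  · ext
  · have h1 : (((Gam (tw φ₀)).comp (Gam (tw ψ₀))).restrictScalars k).comp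
        (Algebra.TensorProduct.includeRight : A →ₐ[k] R' ⊗[k] A) =
        ((Gam (tw φ₀)).restrictScalars k).comp (((Gam (tw ψ₀)).restrictScalars k).comp
          (Algebra.TensorProduct.includeRight : A →ₐ[k] R' ⊗[k] A)) := rfl
    rw [h1, Gam_comp_includeRight, Gam_comp_tw]
    unfold tw
    rw [toConv_ofConv, ← mul_assoc, h, one_mul]
    rfl

/-- the Galois automorphism of `R' ⊗ A` attached to a point `φ₀` of the group -/
noncomputable def GamEquiv (φ₀ : A →ₐ[k] R') : R' ⊗[k] A ≃ₐ[R'] R' ⊗[k] A :=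
  AlgEquiv.ofAlgHom (Gam (tw φ₀)) (Gam (tw (φ₀.comp (HopfAlgebra.antipodeAlgHom k A))))
    (Gam_tw_comp _ _ (by
      have := conv_inv_mul ((Algebra.TensorProduct.includeLeft : R' →ₐ[k] R' ⊗[k] A).comp φ₀)
      exact this))
    (Gam_tw_comp _ _ (by
      have := conv_mul_inv ((Algebra.TensorProduct.includeLeft : R' →ₐ[k] R' ⊗[k] A).comp φ₀)
      exact this))

lemma GamEquiv_apply (φ₀ : A →ₐ[k] R') (x : R' ⊗[k] A) : GamEquiv φ₀ x = Gam (tw φ₀) x := rfl

end galois

section coaction
open WithConv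
variable (k : Type u) [CommRing k] (A : Type v) [CommRing A] [HopfAlgebra k A]
  (R : Type w) [CommRing R] [Algebra k R] [HopfRep.Comod k A R] [GLin.IsCoactAlg k A R]

/-- `(ρ ⊗ id) ∘ ρ = Γ ∘ (s ⊗ id) ∘ ρ` where `Γ` is the Galois automorphism -/
lemma coact_coact (r : R) :
    Algebra.TensorProduct.map (GLin.coactAlgHom k A R) (AlgHom.id k A)
      (GLin.coactAlgHom k A R r) =
    GamEquiv (Algebra.TensorProduct.includeRight : A →ₐ[k] R ⊗[k] A)
      (Algebra.TensorProduct.map (Algebra.TensorProduct.includeLeft : R →ₐ[k] R ⊗[k] A)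
        (AlgHom.id k A) (GLin.coactAlgHom k A R r)) := by
  have hco := LinearMap.congr_fun (HopfRep.Comod.coassoc (k := k) (A := A) (V := R)) r
  simp only [LinearMap.coe_comp, LinearEquiv.coe_coe, Function.comp_apply] at hco
  have h1 : ∀ x : R ⊗[k] A, Algebra.TensorProduct.map (GLin.coactAlgHom k A R) (AlgHom.id k A) x =
      (HopfRep.Comod.coact (k := k) (A := A) (V := R)).rTensor A x := by
    intro x
    induction x using TensorProduct.induction_on with
    | zero => simp
    | tmul r a => simp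
    | add x y hx hy => rw [map_add, map_add, hx, hy]
  have h2 : ∀ x : R ⊗[k] A,
      GamEquiv (Algebra.TensorProduct.includeRight : A →ₐ[k] R ⊗[k] A)
        (Algebra.TensorProduct.map (Algebra.TensorProduct.includeLeft : R →ₐ[k] R ⊗[k] A)
          (AlgHom.id k A) x) =
      (TensorProduct.assoc k R A A).symm
        ((CoalgebraStruct.comul (R := k) (A := A)).lTensor R x) := by
    intro x
    induction x using TensorProduct.induction_on with
    | zero => simp
    | tmul r a =>
      rw [GamEquiv_apply, Algebra.TensorProduct.map_tmul, Gam_tmul, LinearMap.lTensor_tmul]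
      unfold tw
      rw [AlgHom.convMul_apply]
      simp only [ofConv_toConv, AlgHom.id_apply]
      generalize CoalgebraStruct.comul (R := k) a = y
      induction y using TensorProduct.induction_on with
      | zero => simp
      | tmul a₁ a₂ => simp
      | add y z hy hz => rw [map_add, mul_add, hy, hz, TensorProduct.tmul_add, map_add]
    | add x y hx hy => simp only [map_add, hx, hy]
  rw [h1, h2, GLin.coactAlgHom_apply, ← hco, LinearEquiv.symm_apply_apply]

/-- the retraction `r ⊗ a ↦ ε(a) r` of `R ⊗ A` onto `R` -/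
noncomputable def eR : R ⊗[k] A →ₐ[R] R :=
  Algebra.TensorProduct.lift (AlgHom.id R R)
    ((Algebra.ofId k R).comp (Bialgebra.counitAlgHom k A)) (fun _ _ => Commute.all _ _)

lemma eR_coact (r : R) : eR k A R (GLin.coactAlgHom k A R r) = r := by
  have h1 := LinearMap.congr_fun (HopfRep.Comod.counit_comp (k := k) (A := A) (V := R)) r
  simp only [LinearMap.coe_comp, Function.comp_apply, LinearMap.flip_apply,
    TensorProduct.mk_apply] at h1
  have h2 : ∀ x : R ⊗[k] A, eR k A R x =
      TensorProduct.rid k R ((CoalgebraStruct.counit (R := k) (A := A)).lTensor R x) := by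
    intro x
    induction x using TensorProduct.induction_on with
    | zero => simp
    | tmul r a =>
      simp [eR, Algebra.smul_def, mul_comm]
    | add x y hx hy => rw [map_add, map_add, map_add, hx, hy]
  rw [h2, GLin.coactAlgHom_apply, h1]
  simp

/-- `R` is integral over the invariants of a coaction of a finite free Hopf algebra -/
theorem isIntegral_invariants [Module.Free k A] [Module.Finite k A] (r : R) :
    IsIntegral (GLin.invariants k A R) r := by
  classical
  let 𝒷 := Module.Free.chooseBasis k A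
  set ρ := GLin.coactAlgHom k A R with hρ
  set χ := (mat 𝒷 R (ρ r)).charpoly with hχ
  have hmonic : χ.Monic := Matrix.charpoly_monic _
  have hroot : Polynomial.aeval r χ = 0 := by
    have h1 := aeval_charpoly 𝒷 (ρ r)
    have h2 := congrArg (eR k A R) h1
    rw [map_zero, ← Polynomial.aeval_algHom_apply, eR_coact] at h2
    exact h2
  have hinv : χ.map (ρ : R →+* R ⊗[k] A) =
      χ.map ((Algebra.TensorProduct.includeLeft : R →ₐ[k] R ⊗[k] A) : R →+* R ⊗[k] A) := by
    rw [hχ, charpoly_map, charpoly_map, hρ, coact_coact, charpoly_algEquiv]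
  have hcoeff : ∀ n, χ.coeff n ∈ GLin.invariants k A R := by
    intro n
    rw [GLin.mem_invariants_iff]
    have h1 := congrArg (fun q => q.coeff n) hinv
    simp only [Polynomial.coeff_map] at h1
    exact h1
  have hsub : (↑χ.coeffs : Set R) ⊆ (GLin.invariants k A R).toSubring := by
    intro x hx
    rw [Finset.mem_coe, Polynomial.mem_coeffs_iff] at hx
    obtain ⟨n, -, rfl⟩ := hx
    exact hcoeff n
  refine ⟨χ.toSubring _ hsub, (Polynomial.monic_toSubring _ _ _).2 hmonic, ?_⟩
  have h3 : (χ.toSubring _ hsub).map ((GLin.invariants k A R).toSubring.subtype) = χ :=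
    Polynomial.map_toSubring _ _ _
  have h4 : algebraMap (GLin.invariants k A R) R = (GLin.invariants k A R).toSubring.subtype := rfl
  rw [h4, ← Polynomial.eval_map, h3]
  exact hroot

end coaction

end Groth.Agent.Helper2.HopfLib
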