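import Mathlib

/-!
# Transport of a Hopf algebra structure along an injective algebra map whose image is a
sub-Hopf-algebra (over a field) (helper2)
-/

set_option autoImplicit false
open scoped TensorProduct

namespace Groth.Agent.Helper2.HopfSub

universe u v w

open Algebra.TensorProduct in
section

variable {k : Type u} [Field k] {A : Type v} [CommRing A] [HopfAlgebra k A]
  {B : Type w} [CommRing B] [Algebra k B] (ι : B →ₐ[k] A)

/-- the tensor square of `ι` -/
noncomputable abbrev ι₂ : B ⊗[k] B →ₐ[k] A ⊗[k] A := map ι ι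

/-- the tensor cube of `ι` -/
noncomputable abbrev ι₃ : B ⊗[k] (B ⊗[k] B) →ₐ[k] A ⊗[k] (A ⊗[k] A) := map ι (map ι ι)

variable {ι}

lemma ι₂_injective (hι : Function.Injective ι) : Function.Injective (ι₂ ι) :=
  TensorProduct.map_injective_of_flat_flat ι.toLinearMap ι.toLinearMap hι hι

lemma ι₃_injective (hι : Function.Injective ι) : Function.Injective (ι₃ ι) :=
  TensorProduct.map_injective_of_flat_flat ι.toLinearMap (ι₂ ι).toLinearMap hι (ι₂_injective hι)

variable (hι : Function.Injective ι)
  (hΔ : ∀ b : B, Coalgebra.comul (R := k) (ι b) ∈ (ι₂ ι).range)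

/-- the induced comultiplication -/
noncomputable def comulB : B →ₐ[k] B ⊗[k] B :=
  ((AlgEquiv.ofInjective (ι₂ ι) (ι₂_injective hι)).symm : (ι₂ ι).range →ₐ[k] B ⊗[k] B).comp
    (((Bialgebra.comulAlgHom k A).comp ι).codRestrict (ι₂ ι).range hΔ)

lemma ι₂_comulB (b : B) : ι₂ ι (comulB hι hΔ b) = Coalgebra.comul (R := k) (ι b) := by
  unfold comulB
  rw [AlgHom.comp_apply]
  have := (AlgEquiv.ofInjective (ι₂ ι) (ι₂_injective hι)).apply_symm_apply
    ((((Bialgebra.comulAlgHom k A).comp ι).codRestrict (ι₂ ι).range hΔ) b)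
  exact congrArg Subtype.val this

lemma ι₂_comp_comulB : (ι₂ ι).comp (comulB hι hΔ) = (Bialgebra.comulAlgHom k A).comp ι :=
  AlgHom.ext fun b => ι₂_comulB hι hΔ b

variable (ι) in
/-- the induced counit -/
noncomputable def counitB : B →ₐ[k] k := (Bialgebra.counitAlgHom k A).comp ι

omit [Field k] in
lemma coassoc_alg {k : Type u} [CommRing k] {A : Type v} [CommRing A] [Bialgebra k A] (a : A) :
    (Algebra.TensorProduct.assoc k k k A A A)
      ((map (Bialgebra.comulAlgHom k A) (AlgHom.id k A)) (Coalgebra.comul (R := k) a)) =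
    (map (AlgHom.id k A) (Bialgebra.comulAlgHom k A)) (Coalgebra.comul (R := k) a) := by
  have h1 : ∀ t : A ⊗[k] A, (map (Bialgebra.comulAlgHom k A) (AlgHom.id k A)) t =
      (Coalgebra.comul (R := k) (A := A)).rTensor A t := by
    intro t
    induction t using TensorProduct.induction_on with
    | zero => simp
    | add s t hs ht => rw [map_add, map_add, hs, ht]
    | tmul c d => rfl
  have h2 : ∀ t : A ⊗[k] A, (map (AlgHom.id k A) (Bialgebra.comulAlgHom k A)) t =
      (Coalgebra.comul (R := k) (A := A)).lTensor A t := by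
    intro t
    induction t using TensorProduct.induction_on with
    | zero => simp
    | add s t hs ht => rw [map_add, map_add, hs, ht]
    | tmul c d => rfl
  rw [h1, h2]
  exact Coalgebra.coassoc_apply a

lemma coassocB :
    (Algebra.TensorProduct.assoc k k k B B B).toAlgHom.comp
      ((map (comulB hι hΔ) (.id k B)).comp (comulB hι hΔ)) =
    (map (.id k B) (comulB hι hΔ)).comp (comulB hι hΔ) := by
  have hinj : Function.Injective (ι₃ ι) := ι₃_injective hι
  apply AlgHom.ext
  intro b
  apply hinj
  -- left side
  have e1 : (ι₃ ι).comp ((Algebra.TensorProduct.assoc k k k B B B).toAlgHom.comp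
      (map (comulB hι hΔ) (.id k B))) =
      ((Algebra.TensorProduct.assoc k k k A A A).toAlgHom.comp
        (map (Bialgebra.comulAlgHom k A) (.id k A))).comp (ι₂ ι) := by
    apply Algebra.TensorProduct.ext'
    intro x y
    simp only [AlgHom.comp_apply, map_tmul, AlgHom.id_apply]
    have h0 : ∀ t : B ⊗[k] B, (ι₃ ι) ((Algebra.TensorProduct.assoc k k k B B B) (t ⊗ₜ[k] y)) =
        (Algebra.TensorProduct.assoc k k k A A A) ((ι₂ ι) t ⊗ₜ[k] ι y) := by
      intro t
      induction t using TensorProduct.induction_on with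
      | zero => simp
      | add s t hs ht => simp only [TensorProduct.add_tmul, map_add, hs, ht]
      | tmul c d => simp
    rw [Bialgebra.comulAlgHom_apply, ← ι₂_comulB hι hΔ x]
    exact h0 _
  have e2 : (ι₃ ι).comp (map (.id k B) (comulB hι hΔ)) =
      (map (.id k A) (Bialgebra.comulAlgHom k A)).comp (ι₂ ι) := by
    apply Algebra.TensorProduct.ext'
    intro x y
    simp only [AlgHom.comp_apply, map_tmul, AlgHom.id_apply]
    rw [Bialgebra.comulAlgHom_apply, ← ι₂_comulB hι hΔ y]
  have l := congrArg (fun F => F (comulB hι hΔ b)) e1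
  have r := congrArg (fun F => F (comulB hι hΔ b)) e2
  simp only [AlgHom.comp_apply] at l r
  simp only [AlgHom.comp_apply]
  rw [l, r, ι₂_comulB]
  exact coassoc_alg (ι b)

lemma rTensorB :
    (map (counitB ι) (.id k B)).comp (comulB hι hΔ) =
      ((Algebra.TensorProduct.lid k B).symm : B →ₐ[k] k ⊗[k] B) := by
  apply AlgHom.ext
  intro b
  apply (Algebra.TensorProduct.lid k B).injective
  apply hι
  have h0 : ∀ t : B ⊗[k] B, ι ((Algebra.TensorProduct.lid k B) ((map (counitB ι) (.id k B)) t)) =
      (Algebra.TensorProduct.lid k A) ((Coalgebra.counit (R := k) (A := A)).rTensor A (ι₂ ι t)) := by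
    intro t
    induction t using TensorProduct.induction_on with
    | zero => simp
    | add s t hs ht => simp only [map_add, hs, ht]
    | tmul c d => simp [counitB]
  rw [AlgHom.comp_apply, h0, ι₂_comulB, Coalgebra.rTensor_counit_comul]
  simp

lemma lTensorB :
    (map (.id k B) (counitB ι)).comp (comulB hι hΔ) =
      ((Algebra.TensorProduct.rid k k B).symm : B →ₐ[k] B ⊗[k] k) := by
  apply AlgHom.ext
  intro b
  apply (Algebra.TensorProduct.rid k k B).injective
  apply hι
  have h0 : ∀ t : B ⊗[k] B, ι ((Algebra.TensorProduct.rid k k B) ((map (.id k B) (counitB ι)) t)) =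
      (Algebra.TensorProduct.rid k k A) ((Coalgebra.counit (R := k) (A := A)).lTensor A (ι₂ ι t)) := by
    intro t
    induction t using TensorProduct.induction_on with
    | zero => simp
    | add s t hs ht => simp only [map_add, hs, ht]
    | tmul c d => simp [counitB]
  rw [AlgHom.comp_apply, h0, ι₂_comulB, Coalgebra.lTensor_counit_comul]
  simp

/-- the induced bialgebra structure -/
noncomputable abbrev bialgebraB : Bialgebra k B :=
  Bialgebra.ofAlgHom (comulB hι hΔ) (counitB ι) (coassocB hι hΔ) (rTensorB hι hΔ) (lTensorB hι hΔ)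

variable (hS : ∀ b : B, HopfAlgebra.antipode k (ι b) ∈ ι.range)

/-- the induced antipode -/
noncomputable def antipodeB : B →ₗ[k] B :=
  ((LinearEquiv.ofInjective ι.toLinearMap hι).symm : LinearMap.range ι.toLinearMap →ₗ[k] B) ∘ₗ
    ((HopfAlgebra.antipode k (A := A)) ∘ₗ ι.toLinearMap).codRestrict (LinearMap.range ι.toLinearMap)
      (fun b => by
        obtain ⟨c, hc⟩ := hS b
        exact ⟨c, hc⟩)

lemma ι_antipodeB (b : B) : ι (antipodeB hι hS b) = HopfAlgebra.antipode k (ι b) := by
  unfold antipodeB
  rw [LinearMap.comp_apply]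
  have := (LinearEquiv.ofInjective ι.toLinearMap hι).apply_symm_apply
    ((((HopfAlgebra.antipode k (A := A)) ∘ₗ ι.toLinearMap).codRestrict
      (LinearMap.range ι.toLinearMap) (fun b => by
        obtain ⟨c, hc⟩ := hS b
        exact ⟨c, hc⟩)) b)
  exact congrArg Subtype.val this

/-- the induced Hopf algebra structure -/
noncomputable abbrev hopfAlgebraB : HopfAlgebra k B :=
  letI := bialgebraB hι hΔ
  { antipode := antipodeB hι hS
    mul_antipode_rTensor_comul := by
      refine LinearMap.ext fun b => ?_
      apply hι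
      have h0 : ∀ t : B ⊗[k] B, ι (LinearMap.mul' k B ((antipodeB hι hS).rTensor B t)) =
          LinearMap.mul' k A ((HopfAlgebra.antipode k (A := A)).rTensor A (ι₂ ι t)) := by
        intro t
        induction t using TensorProduct.induction_on with
        | zero => simp
        | add s t hs ht => simp only [map_add, hs, ht]
        | tmul c d => simp [ι_antipodeB]
      show ι (LinearMap.mul' k B ((antipodeB hι hS).rTensor B (comulB hι hΔ b))) =
        ι (algebraMap k B (counitB ι b))
      rw [h0, ι₂_comulB, HopfAlgebra.mul_antipode_rTensor_comul_apply, AlgHom.commutes]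
      rfl
    mul_antipode_lTensor_comul := by
      refine LinearMap.ext fun b => ?_
      apply hι
      have h0 : ∀ t : B ⊗[k] B, ι (LinearMap.mul' k B ((antipodeB hι hS).lTensor B t)) =
          LinearMap.mul' k A ((HopfAlgebra.antipode k (A := A)).lTensor A (ι₂ ι t)) := by
        intro t
        induction t using TensorProduct.induction_on with
        | zero => simp
        | add s t hs ht => simp only [map_add, hs, ht]
        | tmul c d => simp [ι_antipodeB]
      show ι (LinearMap.mul' k B ((antipodeB hι hS).lTensor B (comulB hι hΔ b))) =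
        ι (algebraMap k B (counitB ι b))
      rw [h0, ι₂_comulB, HopfAlgebra.mul_antipode_lTensor_comul_apply, AlgHom.commutes]
      rfl }

/-- `ι` as a bialgebra homomorphism for the induced structure -/
noncomputable def ιBialg : letI := hopfAlgebraB hι hΔ hS; B →ₐc[k] A :=
  letI := hopfAlgebraB hι hΔ hS
  BialgHom.ofAlgHom ι (AlgHom.ext fun _ => rfl) (ι₂_comp_comulB hι hΔ)

lemma ιBialg_apply (b : B) : ιBialg hι hΔ hS b = ι b := rfl

lemma counit_eq (b : B) : letI := hopfAlgebraB hι hΔ hS
    Coalgebra.counit (R := k) b = Coalgebra.counit (R := k) (ι b) := rfl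

end

end Groth.Agent.Helper2.HopfSub
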