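import Mathlib
import Groth.Agent.Lib.Helper2.Hopf.FiniteCoaction
import Groth.Agent.Lib.Helper2.Grpd.Global

/-!
# The ring-level groupoid of a coaction of a finite projective Hopf algebra (helper2)
-/

set_option autoImplicit false
universe u v
open CategoryTheory CategoryTheory.Limits TensorProduct

namespace Groth.Agent.Helper2.HopfLib

open Groth.Agent.Helper2.GrpdLib

section pushout
variable {k : Type u} [CommRing k] (H : Type v) [CommRing H] [Algebra k H]
  {X Y : Type v} [CommRing X] [CommRing Y] [Algebra k X] [Algebra k Y]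

/-- `- ⊗ H` of a ring map gives a pushout square -/
lemma isPushout_rTensor (φ : X →ₐ[k] Y) :
    IsPushout (CommRingCat.ofHom (φ : X →+* Y))
      (CommRingCat.ofHom ((Algebra.TensorProduct.includeLeft : X →ₐ[k] X ⊗[k] H) : X →+* X ⊗[k] H))
      (CommRingCat.ofHom ((Algebra.TensorProduct.includeLeft : Y →ₐ[k] Y ⊗[k] H) : Y →+* Y ⊗[k] H))
      (CommRingCat.ofHom ((Algebra.TensorProduct.map φ (AlgHom.id k H) : X ⊗[k] H →ₐ[k] Y ⊗[k] H) :
        X ⊗[k] H →+* Y ⊗[k] H)) := by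
  letI : Algebra X Y := (φ : X →+* Y).toAlgebra
  haveI : IsScalarTower k X Y := IsScalarTower.of_algebraMap_eq fun x => (φ.commutes x).symm
  letI : Algebra (X ⊗[k] H) (Y ⊗[k] H) :=
    ((Algebra.TensorProduct.map φ (AlgHom.id k H) : X ⊗[k] H →ₐ[k] Y ⊗[k] H) :
        X ⊗[k] H →+* Y ⊗[k] H).toAlgebra
  haveI : IsScalarTower X (X ⊗[k] H) (Y ⊗[k] H) := IsScalarTower.of_algebraMap_eq fun x => by
    simp [Algebra.TensorProduct.algebraMap_apply, RingHom.algebraMap_toAlgebra]
  haveI : Algebra.IsPushout X Y (X ⊗[k] H) (Y ⊗[k] H) := by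
    refine Algebra.IsPushout.tensorProduct_tensorProduct k H X Y ?_
    ext h
    simp [RingHom.algebraMap_toAlgebra]
  exact CommRingCat.isPushout_of_isPushout X Y (X ⊗[k] H) (Y ⊗[k] H)

end pushout

/-- `B` is a direct summand of a finite free module over `A` through `s` -/
def HasPres {A B : Type*} [CommRing A] [CommRing B] (s : A →+* B) : Prop :=
  letI := s.toAlgebra
  ∃ (n : ℕ) (p : (Fin n → A) →ₗ[A] B) (i : B →ₗ[A] (Fin n → A)), p ∘ₗ i = LinearMap.id

lemma pres_of_algebraMap_eq {A B : Type*} [CommRing A] [CommRing B] [inst₁ : Algebra A B]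
    (s : A →+* B) (hs : algebraMap A B = s) {n : ℕ} (f : (Fin n → A) →ₗ[A] B)
    (g : B →ₗ[A] (Fin n → A)) (hfg : ∀ x, f (g x) = x) : HasPres s := by
  have h12 : ∀ (r : A) (y : B), r • y = s r * y := fun r y => by
    rw [← hs]
    exact Algebra.smul_def r y
  obtain ⟨f', hf'⟩ : ∃ f' : (Fin n → A) → B, f' = f := ⟨_, rfl⟩
  obtain ⟨g', hg'⟩ : ∃ g' : B → (Fin n → A), g' = g := ⟨_, rfl⟩
  have fadd : ∀ x y, f' (x + y) = f' x + f' y := by
    intro x y; rw [hf']; exact f.map_add x y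
  have fsmul : ∀ (r : A) x, f' (r • x) = s r * f' x := by
    intro r x; rw [hf']; exact (f.map_smul r x).trans (h12 r (f x))
  have gadd : ∀ x y, g' (x + y) = g' x + g' y := by
    intro x y; rw [hg']; exact g.map_add x y
  have gsmul : ∀ (r : A) (x : B), g' (s r * x) = r • g' x := by
    intro r x; rw [hg', ← h12, g.map_smul]
  have hfg' : ∀ x, f' (g' x) = x := by
    intro x; rw [hf', hg']; exact hfg x
  clear hf' hg' hfg h12 f g
  clear hs
  clear inst₁
  unfold HasPres
  letI inst₂ := s.toAlgebra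
  refine ⟨n, { toFun := f', map_add' := fadd, map_smul' := fun r x => fsmul r x },
    { toFun := g', map_add' := gadd, map_smul' := fun r x => gsmul r x }, ?_⟩
  ext x : 1
  exact hfg' x

section RG
variable (k : Type u) [CommRing k] (H : Type v) [CommRing H] [HopfAlgebra k H]
  (R : Type v) [CommRing R] [Algebra k R] [HopfRep.Comod k H R] [GLin.IsCoactAlg k H R]

/-- source: `r ↦ r ⊗ 1` -/
noncomputable abbrev sC : R →ₐ[k] R ⊗[k] H := Algebra.TensorProduct.includeLeft
/-- target: the coaction -/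
noncomputable abbrev tC : R →ₐ[k] R ⊗[k] H := GLin.coactAlgHom k H R
/-- unit -/
noncomputable abbrev eC : R ⊗[k] H →ₐ[k] R := (eR k H R).restrictScalars k
/-- second projection -/
noncomputable abbrev p1C : R ⊗[k] H →ₐ[k] (R ⊗[k] H) ⊗[k] H := Algebra.TensorProduct.includeLeft
/-- first projection -/
noncomputable abbrev p0C : R ⊗[k] H →ₐ[k] (R ⊗[k] H) ⊗[k] H :=
  Algebra.TensorProduct.map (tC k H R) (AlgHom.id k H)
/-- the Galois automorphism, over `k` -/
noncomputable abbrev GamK : (R ⊗[k] H) ⊗[k] H →ₐ[k] (R ⊗[k] H) ⊗[k] H :=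
  ((GamEquiv (Algebra.TensorProduct.includeRight : H →ₐ[k] R ⊗[k] H)) :
    (R ⊗[k] H) ⊗[k] H →ₐ[R ⊗[k] H] (R ⊗[k] H) ⊗[k] H).restrictScalars k
/-- composition -/
noncomputable abbrev cC : R ⊗[k] H →ₐ[k] (R ⊗[k] H) ⊗[k] H :=
  (GamK k H R).comp (Algebra.TensorProduct.map (sC k H R) (AlgHom.id k H))

omit [HopfRep.Comod k H R] [GLin.IsCoactAlg k H R] in
lemma exists_pres [Module.Finite k H] [Module.Projective k H] :
    HasPres ((sC k H R : R →ₐ[k] R ⊗[k] H) : R →+* R ⊗[k] H) := by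
  obtain ⟨n, f, g, -, -, hfg⟩ := Module.Finite.exists_comp_eq_id_of_projective R (R ⊗[k] H)
  exact pres_of_algebraMap_eq _ rfl f g (fun x => LinearMap.congr_fun hfg x)

theorem isRG_coaction [Module.Finite k H] [Module.Projective k H] :
    IsRG (sC k H R : R →+* R ⊗[k] H) (tC k H R : R →+* R ⊗[k] H) (eC k H R : R ⊗[k] H →+* R)
      (p0C k H R : R ⊗[k] H →+* (R ⊗[k] H) ⊗[k] H) (p1C k H R : R ⊗[k] H →+* (R ⊗[k] H) ⊗[k] H)
      (cC k H R : R ⊗[k] H →+* (R ⊗[k] H) ⊗[k] H) := by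
  refine ⟨?_, ?_, ?_, ?_, ?_, ?_, ?_, exists_pres k H R⟩
  · ext r
    simp
  · ext r
    simp [GamEquiv_apply, Gam_tmul]
  · ext r
    simp only [RingHom.coe_comp, RingHom.coe_coe, Function.comp_apply, AlgHom.coe_comp,
      AlgHom.coe_restrictScalars', AlgEquiv.coe_algHom]
    exact (coact_coact k H R r).symm
  · ext r
    simp [eR]
  · ext r
    exact eR_coact k H R r
  · exact (isPushout_rTensor H (tC k H R)).flip
  · have h1 := (isPushout_rTensor H (sC k H R)).flip
    refine h1.of_iso (Iso.refl _) (Iso.refl _) (Iso.refl _)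
      (GamEquiv (Algebra.TensorProduct.includeRight : H →ₐ[k] R ⊗[k] H)).toRingEquiv.toCommRingCatIso
      ?_ ?_ ?_ ?_
    · simp
    · simp
    · rw [Iso.refl_hom, Category.id_comp]
      rfl
    · rw [Iso.refl_hom, Category.id_comp]
      refine CommRingCat.hom_ext (RingHom.ext fun x => ?_)
      show GamEquiv (Algebra.TensorProduct.includeRight : H →ₐ[k] R ⊗[k] H) (x ⊗ₜ 1) = x ⊗ₜ 1
      rw [GamEquiv_apply, Gam_tmul, map_one, mul_one]

end RG

end Groth.Agent.Helper2.HopfLib
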