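import Groth.Agent.Lib.Helper2.Hopf.SimpleInf

/-!
# Simple multiplicative finite commutative group schemes (helper2)
-/

set_option autoImplicit false
open MvPolynomial
open scoped TensorProduct

namespace Groth.Agent.Helper2.HopfLib

section points

variable {k : Type*} [Field k] [IsAlgClosed k] {D : Type*} [CommRing D] [Algebra k D]
  [Module.Finite k D]

/-- every maximal ideal of a finite algebra over an algebraically closed field is the kernel of a
rational point -/
lemma exists_algHom_ker_eq (m : Ideal D) [m.IsMaximal] : ∃ χ : D →ₐ[k] k, RingHom.ker χ = m := by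
  letI : Field (D ⧸ m) := Ideal.Quotient.field m
  haveI : Algebra.IsIntegral k (D ⧸ m) := Algebra.IsIntegral.of_finite k (D ⧸ m)
  have hbij : Function.Bijective (algebraMap k (D ⧸ m)) :=
    IsAlgClosed.algebraMap_bijective_of_isIntegral
  let e : k ≃ₐ[k] (D ⧸ m) := AlgEquiv.ofBijective (Algebra.ofId k (D ⧸ m)) hbij
  refine ⟨(e.symm : (D ⧸ m) →ₐ[k] k).comp (Ideal.Quotient.mkₐ k m), ?_⟩
  ext a
  rw [RingHom.mem_ker, AlgHom.comp_apply]
  show e.symm (Ideal.Quotient.mk m a) = 0 ↔ _
  rw [map_eq_zero_iff _ e.symm.injective, Ideal.Quotient.eq_zero_iff_mem]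

/-- a reduced finite algebra of dimension `> 1` over an algebraically closed field has a rational
point other than a given one -/
theorem exists_algHom_ne [IsReduced D] (ε : D →ₐ[k] k) (hD : 1 < Module.finrank k D) :
    ∃ χ : D →ₐ[k] k, χ ≠ ε := by
  by_contra hcon
  simp only [not_exists, not_not] at hcon
  haveI : IsArtinianRing D := IsArtinianRing.of_finite k D
  have hmax : ∀ m : Ideal D, m.IsMaximal → m = RingHom.ker ε := by
    intro m hm
    obtain ⟨χ, hχ⟩ := exists_algHom_ker_eq (k := k) m
    rw [← hχ, hcon χ]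
  have hker_max : (RingHom.ker ε).IsMaximal :=
    RingHom.ker_isMaximal_of_surjective ε (fun c => ⟨algebraMap k D c, by simp⟩)
  have hjac : Ideal.jacobson (⊥ : Ideal D) = RingHom.ker ε := by
    apply le_antisymm
    · exact sInf_le ⟨bot_le, hker_max⟩
    · refine le_sInf ?_
      rintro J ⟨-, hJ⟩
      rw [hmax J hJ]
  obtain ⟨n, hn⟩ := IsArtinianRing.isNilpotent_jacobson_bot (R := D)
  have hker : RingHom.ker ε = ⊥ := by
    rw [eq_bot_iff]
    intro a ha
    have h1 : a ^ n ∈ (RingHom.ker ε) ^ n := Ideal.pow_mem_pow ha n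
    rw [← hjac, hn] at h1
    have h2 : IsNilpotent a := ⟨n, h1⟩
    exact (Submodule.mem_bot D).mpr h2.eq_zero
  have hinj : Function.Injective ε.toLinearMap := by
    rw [← LinearMap.ker_eq_bot]
    ext a
    rw [LinearMap.mem_ker, Submodule.mem_bot]
    constructor
    · intro h
      have : a ∈ RingHom.ker ε := h
      rw [hker] at this
      exact this
    · rintro rfl
      exact map_zero _
  have := LinearMap.finrank_le_finrank_of_injective hinj
  rw [Module.finrank_self] at this
  omega

end points

section grouplike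

universe u v

variable {k : Type u} [Field k] {A : Type v} [CommRing A] [HopfAlgebra k A]
  [Coalgebra.IsCocomm k A] [Module.Finite k A]

/-- a rational point of the Cartier dual is evaluation at a group-like element -/
theorem exists_groupLike_of_algHom (χ : CartDual.D k A →ₐ[k] k) :
    ∃ g : A, (∀ φ : CartDual.D k A, φ g = χ φ) ∧ IsGroupLikeElem k g := by
  set lam : Module.Dual k (Module.Dual k A) :=
    χ.toLinearMap ∘ₗ (CartDual.toDual k A).symm.toLinearMap with hlam
  set g : A := (Module.evalEquiv k A).symm lam with hg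
  have hgφ : ∀ φ : CartDual.D k A, φ g = χ φ := by
    intro φ
    have h1 := Module.apply_evalEquiv_symm_apply k A (CartDual.toDual k A φ) lam
    rw [← hg] at h1
    rw [hlam, LinearMap.comp_apply, LinearEquiv.coe_coe, LinearEquiv.symm_apply_apply] at h1
    exact h1
  refine ⟨g, hgφ, ⟨?_, ?_⟩⟩
  · have h1 := hgφ 1
    rw [map_one] at h1
    rw [← h1]
    simp [LinearMap.convOne_apply]
  · rw [← sub_eq_zero, ← Module.forall_dual_apply_eq_zero_iff k]
    intro f
    obtain ⟨y, rfl⟩ := (CartDual.ev₂ k A).surjective f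
    induction y using TensorProduct.induction_on with
    | zero => simp only [map_zero, LinearMap.zero_apply]
    | tmul φ ψ =>
      have h1 : CartDual.ev₂ k A (φ ⊗ₜ ψ) (Coalgebra.comul (R := k) g) = χ (φ * ψ) := by
        rw [← hgφ, CartDual.ev₂_tmul_eq']
        rfl
      rw [map_sub, h1, CartDual.ev₂_tmul, map_mul, hgφ, hgφ, sub_self]
    | add y z hy hz =>
      rw [map_add, LinearMap.add_apply, hy, hz, add_zero]

end grouplike

section main

universe u v

variable {k : Type u} [Field k] {A : Type v} [CommRing A] [HopfAlgebra k A]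

/-- the principal ideal generated by `g - 1`, `g` group-like, is a Hopf ideal -/
theorem isHopfIdeal_span_groupLike_sub_one {g : A} (hg : IsGroupLikeElem k g) :
    (Ideal.span {g - 1}).IsHopfIdeal k := by
  have h1 : Ideal.span {g - 1} ≤ RingHom.ker (Bialgebra.counitAlgHom k A) := by
    rw [Ideal.span_le, Set.singleton_subset_iff, SetLike.mem_coe, mem_augI_iff, map_sub,
      hg.counit_eq_one, Bialgebra.counit_one, sub_self]
  have h2 : Ideal.span {g - 1} ≤
      Ideal.comap (HopfAlgebra.antipodeAlgHom k A) (Ideal.span {g - 1}) := by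
    rw [Ideal.span_le, Set.singleton_subset_iff, SetLike.mem_coe, Ideal.mem_comap]
    show HopfAlgebra.antipode k (g - 1) ∈ _
    have e : HopfAlgebra.antipode k (g - 1) = -(HopfAlgebra.antipode k g) * (g - 1) := by
      rw [map_sub, HopfAlgebra.antipode_one]
      have := hg.antipode_mul_cancel
      linear_combination this
    rw [e]
    exact Ideal.mul_mem_left _ _ (Ideal.subset_span rfl)
  have h3 : Ideal.span {g - 1} ≤ RingHom.ker
      ((Algebra.TensorProduct.map (Ideal.Quotient.mkₐ k (Ideal.span {g - 1}))
        (Ideal.Quotient.mkₐ k (Ideal.span {g - 1}))).comp (Bialgebra.comulAlgHom k A)) := by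
    rw [Ideal.span_le, Set.singleton_subset_iff, SetLike.mem_coe, RingHom.mem_ker,
      AlgHom.comp_apply]
    show (Algebra.TensorProduct.map (Ideal.Quotient.mkₐ k (Ideal.span {g - 1}))
      (Ideal.Quotient.mkₐ k (Ideal.span {g - 1}))) (Coalgebra.comul (R := k) (g - 1)) = 0
    have hmk : Ideal.Quotient.mkₐ k (Ideal.span {g - 1}) g = 1 := by
      have h0 : Ideal.Quotient.mkₐ k (Ideal.span {g - 1}) (g - 1) = 0 :=
        Ideal.Quotient.eq_zero_iff_mem.mpr (Ideal.subset_span rfl)
      rw [map_sub, map_one, sub_eq_zero] at h0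
      exact h0
    rw [map_sub, hg.comul_eq_tmul_self, Bialgebra.comul_one, map_sub,
      Algebra.TensorProduct.map_tmul, hmk, map_one, Algebra.TensorProduct.one_def, sub_self]
  refine { counit_eq_zero := ?_, map_mkQ_comul_eq_zero := ?_, antipode_mem := ?_ }
  · intro y hy
    exact h1 hy
  · intro y hy
    exact RingHom.mem_ker.mp (h3 hy)
  · intro y hy
    exact h2 hy

/-- a simple connected finite commutative group scheme with étale dual over an algebraically
closed field is `μ_p` -/
theorem simple_multiplicative [IsAlgClosed k] [Coalgebra.IsCocomm k A] [Module.Finite k A]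
    [IsLocalRing A] (p : ℕ) [Fact p.Prime] [CharP k p]
    (hdual : IsReduced (CartDual.D k A)) (hA : 1 < Module.finrank k A)
    (hsimple : ∀ I : Ideal A, I.IsHopfIdeal k → I = ⊥ ∨ I = augI k A) :
    ∃ g : A, IsGroupLikeElem k g ∧ g ^ p = 1 ∧
      LinearIndependent k (fun i : Fin p => g ^ (i : ℕ)) ∧ Module.finrank k A = p := by
  haveI := hdual
  have hD : 1 < Module.finrank k (CartDual.D k A) := by rw [finrank_cartDual]; exact hA
  obtain ⟨χ, hχ⟩ := exists_algHom_ne (k := k) (D := CartDual.D k A)
    (Bialgebra.counitAlgHom k (CartDual.D k A)) hD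
  obtain ⟨g, hgφ, hg⟩ := exists_groupLike_of_algHom χ
  have hg1 : g ≠ 1 := by
    intro h
    apply hχ
    ext φ
    rw [← hgφ φ, h]
    rfl
  have h1 := heightOne_of_simple p hA hsimple
  have hspan : Ideal.span {g - 1} = augI k A := by
    rcases hsimple _ (isHopfIdeal_span_groupLike_sub_one hg) with h | h
    · exfalso
      apply hg1
      have : g - 1 ∈ Ideal.span {g - 1} := Ideal.subset_span rfl
      rw [h] at this
      exact sub_eq_zero.mp this
    · exact h
  obtain ⟨hfr, -⟩ := heightOne_principal p hA h1 (g - 1) hspan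
  haveI : CharP A p := charP_of_injective_algebraMap (algebraMap k A).injective p
  have hgp : g ^ p = 1 := by
    have h2 : (g - 1) ^ p = 0 := h1 _ (by
      rw [map_sub, hg.counit_eq_one, Bialgebra.counit_one, sub_self])
    rw [sub_pow_char, one_pow, sub_eq_zero] at h2
    exact h2
  refine ⟨g, hg, hgp, ?_, hfr⟩
  -- the powers of `g` are distinct group-like elements
  have hord : orderOf g = p := by
    have hdvd : orderOf g ∣ p := orderOf_dvd_of_pow_eq_one hgp
    rcases (Nat.dvd_prime (Fact.out : p.Prime)).mp hdvd with h | h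
    · exfalso
      exact hg1 (orderOf_eq_one_iff.mp h)
    · exact h
  have hinj : Function.Injective (fun i : Fin p => (⟨g ^ (i : ℕ), hg.pow⟩ :
      {a : A // IsGroupLikeElem k a})) := by
    intro i j hij
    have h2 : g ^ (i : ℕ) = g ^ (j : ℕ) := congrArg Subtype.val hij
    have h3 := pow_injOn_Iio_orderOf (x := g)
      (by rw [Set.mem_Iio, hord]; exact i.2) (by rw [Set.mem_Iio, hord]; exact j.2) h2
    exact Fin.ext h3
  have hli := (linearIndepOn_isGroupLikeElem (R := k) (A := A))
  exact hli.comp _ hinj

end main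

end Groth.Agent.Helper2.HopfLib
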