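import Mathlib
import Groth.Prelude.Def_ConstGrp
import Groth.Agent.Lib.Helper2.Hopf.SimpleMult

/-!
# Finite reduced algebras over an algebraically closed field are algebras of functions on their
points; finite étale Hopf algebras are constant (helper2)
-/

set_option autoImplicit false
open scoped TensorProduct
open WithConv

namespace Groth.Agent.Helper2.HopfLib

universe u v

section pts

variable {k : Type u} [Field k] {A : Type v} [CommRing A] [Algebra k A] [Module.Finite k A]

/-- evaluation at all rational points -/
noncomputable def evPts : A →ₐ[k] ((A →ₐ[k] k) → k) := AlgHom.pi (fun χ => χ)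

lemma evPts_apply (a : A) (χ : A →ₐ[k] k) : evPts a χ = χ a := rfl

lemma evPts_surjective : Function.Surjective (evPts (k := k) (A := A)) := by
  classical
  haveI : Finite (A →ₐ[k] k) := inferInstance
  letI : Fintype (A →ₐ[k] k) := Fintype.ofFinite _
  have h : Function.Surjective (evPts (k := k) (A := A)).toLinearMap := by
    rw [← LinearMap.dualMap_injective_iff, injective_iff_map_eq_zero]
    intro l hl
    have hli := linearIndependent_algHom_toLinearMap k A k
    rw [Fintype.linearIndependent_iff] at hli
    have h0 : ∑ χ : A →ₐ[k] k, l (Pi.single χ 1) • χ.toLinearMap = 0 := by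
      refine LinearMap.ext fun a => ?_
      have h1 := congrArg (fun f : Module.Dual k A => f a) hl
      simp only [LinearMap.dualMap_apply, LinearMap.zero_apply] at h1
      rw [LinearMap.sum_apply, LinearMap.zero_apply, ← h1]
      have h2 : (evPts (k := k) (A := A)).toLinearMap a =
          ∑ χ : A →ₐ[k] k, χ a • (Pi.single χ (1 : k) : (A →ₐ[k] k) → k) := by
        funext ψ
        rw [Finset.sum_apply, Finset.sum_eq_single ψ]
        · simp [evPts_apply]
        · intro χ _ hχ
          simp [Pi.single_eq_of_ne (Ne.symm hχ)]
        · intro h; exact absurd (Finset.mem_univ ψ) h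
      rw [h2, map_sum]
      refine Finset.sum_congr rfl fun χ _ => ?_
      rw [map_smul, LinearMap.smul_apply, smul_eq_mul, smul_eq_mul, mul_comm]
      rfl
    have h3 := hli _ h0
    refine (Pi.basisFun k (A →ₐ[k] k)).ext fun χ => ?_
    rw [Pi.basisFun_apply, h3 χ, LinearMap.zero_apply]
  exact h

lemma evPts_injective [IsAlgClosed k] [IsReduced A] :
    Function.Injective (evPts (k := k) (A := A)) := by
  rw [injective_iff_map_eq_zero]
  intro a ha
  haveI : IsArtinianRing A := IsArtinianRing.of_finite k A
  have hmem : a ∈ Ideal.jacobson (⊥ : Ideal A) := by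
    rw [Ideal.jacobson, Ideal.mem_sInf]
    rintro J ⟨-, hJ⟩
    haveI := hJ
    obtain ⟨χ, hχ⟩ := exists_algHom_ker_eq (k := k) J
    rw [← hχ, RingHom.mem_ker]
    exact congrFun ha χ
  obtain ⟨n, hn⟩ := IsArtinianRing.isNilpotent_jacobson_bot (R := A)
  have h1 : a ^ n ∈ (Ideal.jacobson (⊥ : Ideal A)) ^ n := Ideal.pow_mem_pow hmem n
  rw [hn] at h1
  have h2 : IsNilpotent a := ⟨n, h1⟩
  exact h2.eq_zero

/-- a finite reduced algebra over an algebraically closed field is the algebra of functions on
its set of rational points -/
noncomputable def evPtsEquiv [IsAlgClosed k] [IsReduced A] : A ≃ₐ[k] ((A →ₐ[k] k) → k) :=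
  AlgEquiv.ofBijective evPts ⟨evPts_injective, evPts_surjective⟩

lemma card_pts [IsAlgClosed k] [IsReduced A] :
    Nat.card (A →ₐ[k] k) = Module.finrank k A := by
  haveI : Finite (A →ₐ[k] k) := inferInstance
  letI : Fintype (A →ₐ[k] k) := Fintype.ofFinite _
  rw [(evPtsEquiv (k := k) (A := A)).toLinearEquiv.finrank_eq, Module.finrank_pi,
    Nat.card_eq_fintype_card]

end pts

section pairinj

variable (R : Type u) [CommRing R] (G : Type v) [Group G] [Fintype G] [DecidableEq G]

lemma eq_sum_pair (t : ConstGrp.F R G ⊗[R] ConstGrp.F R G) :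
    t = ∑ a : G, ∑ b : G, (ConstGrp.pair R G t (a, b)) • (ConstGrp.e R a ⊗ₜ[R] ConstGrp.e R b) := by
  induction t using TensorProduct.induction_on with
  | zero => simp
  | add x y hx hy =>
    conv_lhs => rw [hx, hy]
    rw [← Finset.sum_add_distrib]
    refine Finset.sum_congr rfl fun a _ => ?_
    rw [← Finset.sum_add_distrib]
    refine Finset.sum_congr rfl fun b _ => ?_
    rw [map_add, ConstGrp.add_apply, add_smul]
  | tmul x y =>
    conv_lhs => rw [ConstGrp.eq_sum_smul_e x, ConstGrp.eq_sum_smul_e y]
    rw [TensorProduct.sum_tmul]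
    refine Finset.sum_congr rfl fun a _ => ?_
    rw [TensorProduct.tmul_sum]
    refine Finset.sum_congr rfl fun b _ => ?_
    rw [ConstGrp.pair_tmul, TensorProduct.smul_tmul_smul]

lemma pair_injective : Function.Injective (ConstGrp.pair R G) := by
  rw [injective_iff_map_eq_zero]
  intro t ht
  rw [eq_sum_pair R G t, ht]
  simp

end pairinj

section functor

universe w

variable (R : Type u) [CommRing R] {G : Type v} {H : Type w} [Group G] [Fintype G] [DecidableEq G]
  [Group H] [Fintype H] [DecidableEq H]

/-- the algebra isomorphism of function algebras induced by a bijection -/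
def constCongrAlg (e : G ≃ H) : ConstGrp.F R G ≃ₐ[R] ConstGrp.F R H where
  toFun f := fun h => f (e.symm h)
  invFun f' := fun g => f' (e g)
  left_inv f := by funext g; simp
  right_inv f' := by funext h; simp
  map_mul' _ _ := rfl
  map_add' _ _ := rfl
  commutes' _ := rfl

lemma constCongrAlg_apply (e : G ≃ H) (f : ConstGrp.F R G) (h : H) :
    constCongrAlg R e f h = f (e.symm h) := rfl

/-- isomorphic groups have isomorphic Hopf algebras of functions -/
noncomputable def constCongr (e : G ≃* H) : ConstGrp.F R G ≃ₐc[R] ConstGrp.F R H :=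
  BialgEquiv.ofAlgEquiv (constCongrAlg R e.toEquiv)
    (by
      refine AlgHom.ext fun f => ?_
      show (constCongrAlg R e.toEquiv f) 1 = f 1
      rw [constCongrAlg_apply]
      show f (e.symm 1) = f 1
      rw [map_one])
    (by
      refine AlgHom.ext fun f => ?_
      apply pair_injective R H
      funext hh
      obtain ⟨h, h'⟩ := hh
      show ConstGrp.pair R H (Algebra.TensorProduct.map (constCongrAlg R e.toEquiv : _ →ₐ[R] _)
          (constCongrAlg R e.toEquiv : _ →ₐ[R] _) (Coalgebra.comul (R := R) f)) (h, h') =
        ConstGrp.pair R H (Coalgebra.comul (R := R) (constCongrAlg R e.toEquiv f)) (h, h')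
      rw [ConstGrp.pair_comul, constCongrAlg_apply]
      have key : ((ConstGrp.ev R (h, h')).comp (ConstGrp.pair R H)).comp
          (Algebra.TensorProduct.map (constCongrAlg R e.toEquiv : _ →ₐ[R] _)
            (constCongrAlg R e.toEquiv : _ →ₐ[R] _)) =
          (ConstGrp.ev R (e.symm h, e.symm h')).comp (ConstGrp.pair R G) := by
        apply Algebra.TensorProduct.ext'
        intro x y
        simp [constCongrAlg_apply]
      have h2 := congrArg (fun F : ConstGrp.F R G ⊗[R] ConstGrp.F R G →ₐ[R] R =>
        F (Coalgebra.comul (R := R) f)) key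
      refine h2.trans ?_
      show ConstGrp.pair R G (Coalgebra.comul (R := R) f) (e.symm h, e.symm h') = _
      rw [ConstGrp.pair_comul]
      show f (e.symm h * e.symm h') = f (e.symm (h * h'))
      rw [map_mul])

end functor

section hopf

variable {k : Type u} [Field k] [IsAlgClosed k] {A : Type v} [CommRing A] [HopfAlgebra k A]
  [Module.Finite k A] [IsReduced A]

variable (k A) in
/-- the group of rational points -/
abbrev Pts : Type (max u v) := WithConv (A →ₐ[k] k)

noncomputable instance instFintypePts : Fintype (Pts k A) :=
  haveI : Finite (A →ₐ[k] k) := inferInstance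
  Fintype.ofEquiv (A →ₐ[k] k) (WithConv.equiv _).symm

variable (k A) in
/-- the algebra map from `A` to functions on its points -/
noncomputable def thetaHom : A →ₐ[k] ConstGrp.F k (Pts k A) :=
  (ConstGrp.equivFun k (Pts k A)).symm.toAlgHom.comp (AlgHom.pi (fun g : Pts k A => g.ofConv))

lemma thetaHom_apply (a : A) (g : Pts k A) : thetaHom k A a g = g.ofConv a := rfl

lemma thetaHom_bijective : Function.Bijective (thetaHom k A) := by
  constructor
  · rw [injective_iff_map_eq_zero]
    intro a ha
    apply evPts_injective (k := k)
    rw [map_zero]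
    funext χ
    exact congrFun ha (toConv χ)
  · intro f
    obtain ⟨a, ha⟩ := evPts_surjective (k := k) (A := A) (fun χ => f (toConv χ))
    refine ⟨a, ?_⟩
    funext g
    exact congrFun ha g.ofConv

open Classical in
/-- a finite reduced commutative Hopf algebra over an algebraically closed field is the Hopf
algebra of functions on its group of points -/
noncomputable def thetaEquiv : A ≃ₐc[k] ConstGrp.F k (Pts k A) :=
  BialgEquiv.ofAlgEquiv (AlgEquiv.ofBijective (thetaHom k A) thetaHom_bijective)
    (by
      refine AlgHom.ext fun a => ?_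
      show (thetaHom k A a) 1 = Coalgebra.counit (R := k) a
      rw [thetaHom_apply]
      rfl)
    (by
      refine AlgHom.ext fun a => ?_
      apply pair_injective k (Pts k A)
      funext gh
      obtain ⟨g, h⟩ := gh
      show ConstGrp.pair k (Pts k A)
          (Algebra.TensorProduct.map (thetaHom k A) (thetaHom k A) (Coalgebra.comul (R := k) a)) (g, h) =
        ConstGrp.pair k (Pts k A) (Coalgebra.comul (R := k) (thetaHom k A a)) (g, h)
      rw [ConstGrp.pair_comul, thetaHom_apply, AlgHom.convMul_apply]
      have key : ((ConstGrp.ev k (g, h)).comp (ConstGrp.pair k (Pts k A))).comp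
          (Algebra.TensorProduct.map (thetaHom k A) (thetaHom k A)) =
          Algebra.TensorProduct.lift g.ofConv h.ofConv (fun _ _ => Commute.all _ _) := by
        apply Algebra.TensorProduct.ext'
        intro x y
        simp [thetaHom_apply]
      exact congrArg (fun F : A ⊗[k] A →ₐ[k] k => F (Coalgebra.comul (R := k) a)) key)

end hopf

end Groth.Agent.Helper2.HopfLib
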