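import Mathlib
import Groth.Agent.Lib.Helper2.Hopf.SimpleMult

/-!
# Translation by a rational point; a finite group scheme over an algebraically closed field whose
augmentation ideal is idempotent is reduced (helper2)
-/

set_option autoImplicit false
open scoped TensorProduct
open WithConv

namespace Groth.Agent.Helper2.HopfLib

universe u v

section translate

variable {k : Type u} [Field k] {A : Type v} [CommRing A] [HopfAlgebra k A]

/-- translation by a rational point: `a ↦ Σ φ(a₁) a₂` -/
noncomputable def trP (φ : A →ₐ[k] k) : A →ₐ[k] A :=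
  (toConv ((Algebra.ofId k A).comp φ) * toConv (AlgHom.id k A)).ofConv

lemma comp_trP (ψ φ : A →ₐ[k] k) : ψ.comp (trP φ) = (toConv φ * toConv ψ).ofConv := by
  unfold trP
  rw [AlgHom.comp_convMul_distrib]
  have : ψ.comp ((Algebra.ofId k A).comp φ) = φ := by
    ext a
    simp
  rw [toConv_ofConv, toConv_ofConv, this, AlgHom.comp_id]

lemma trP_comp (χ ψ : A →ₐ[k] k) :
    (trP χ).comp (trP ψ) = trP ((toConv ψ * toConv χ).ofConv) := by
  have h1 : (trP χ).comp ((Algebra.ofId k A).comp ψ) = (Algebra.ofId k A).comp ψ := by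
    ext a
    simp
  have h2 : (Algebra.ofId k A).comp ((toConv ψ * toConv χ).ofConv) =
      (toConv ((Algebra.ofId k A).comp ψ) * toConv ((Algebra.ofId k A).comp χ)).ofConv := by
    rw [AlgHom.comp_convMul_distrib]
  have e : (trP χ).comp (trP ψ) = (toConv ((trP χ).comp ((Algebra.ofId k A).comp ψ)) *
      toConv ((trP χ).comp (AlgHom.id k A))).ofConv := by
    show (trP χ).comp
      ((toConv ((Algebra.ofId k A).comp ψ) * toConv (AlgHom.id k A)).ofConv) = _
    rw [AlgHom.comp_convMul_distrib]
  rw [e, h1, AlgHom.comp_id]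
  unfold trP
  rw [h2, toConv_ofConv, toConv_ofConv, mul_assoc]

lemma trP_counit : trP (Bialgebra.counitAlgHom k A) = AlgHom.id k A := by
  unfold trP
  have : toConv ((Algebra.ofId k A).comp (Bialgebra.counitAlgHom k A)) = 1 := rfl
  rw [this, one_mul]

lemma trP_inv_comp (χ : A →ₐ[k] k) :
    (trP ((toConv χ)⁻¹).ofConv).comp (trP χ) = AlgHom.id k A := by
  rw [trP_comp, toConv_ofConv, mul_inv_cancel]
  exact trP_counit

lemma counit_trP (φ : A →ₐ[k] k) (a : A) : Coalgebra.counit (R := k) (trP φ a) = φ a := by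
  have h := comp_trP (Bialgebra.counitAlgHom k A) φ
  have h1 : toConv (Bialgebra.counitAlgHom k A) = (1 : WithConv (A →ₐ[k] k)) := by
    rw [AlgHom.convOne_def]
    congr 1
  rw [h1, mul_one] at h
  exact congrArg (fun g : A →ₐ[k] k => g a) h

lemma apply_trP_inv (χ : A →ₐ[k] k) (a : A) :
    χ (trP ((toConv χ)⁻¹).ofConv a) = Coalgebra.counit (R := k) a := by
  have h := comp_trP χ ((toConv χ)⁻¹).ofConv
  rw [toConv_ofConv, inv_mul_cancel] at h
  exact congrArg (fun g : A →ₐ[k] k => g a) h

/-- over an algebraically closed field, a finite group scheme whose augmentation ideal is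
idempotent is reduced -/
theorem isReduced_of_augI_idem [IsAlgClosed k] [Module.Finite k A]
    (h : augI k A ≤ (augI k A) ^ 2) : IsReduced A := by
  haveI : IsNoetherianRing A := IsNoetherianRing.of_finite k A
  have hmax : ∀ m : Ideal A, m.IsMaximal → m ≤ m ^ 2 := by
    intro m hm
    obtain ⟨χ, hχ⟩ := exists_algHom_ker_eq (k := k) m
    intro a ha
    have ha0 : χ a = 0 := by
      rw [← hχ] at ha
      exact ha
    have hb : trP χ a ∈ augI k A := (mem_augI_iff _).mpr (by rw [counit_trP, ha0])
    have hb2 := h hb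
    have ea : a = trP ((toConv χ)⁻¹).ofConv (trP χ a) := by
      have := congrArg (fun g : A →ₐ[k] A => g a) (trP_inv_comp χ)
      exact this.symm
    rw [ea]
    have hmap : (augI k A).map (trP ((toConv χ)⁻¹).ofConv) ≤ m := by
      rw [Ideal.map_le_iff_le_comap]
      intro c hc
      rw [Ideal.mem_comap, ← hχ, RingHom.mem_ker, apply_trP_inv]
      exact (mem_augI_iff c).mp hc
    have h3 : trP ((toConv χ)⁻¹).ofConv (trP χ a) ∈
        ((augI k A) ^ 2).map (trP ((toConv χ)⁻¹).ofConv) := Ideal.mem_map_of_mem _ hb2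
    rw [Ideal.map_pow] at h3
    exact Ideal.pow_right_mono hmap 2 h3
  constructor
  intro a ha
  by_contra hne
  have hann : (Submodule.span A ({a} : Set A)).annihilator ≠ ⊤ := by
    intro htop
    have h1 : (1 : A) ∈ (Submodule.span A ({a} : Set A)).annihilator := by
      rw [htop]; trivial
    rw [Submodule.mem_annihilator_span_singleton, one_smul] at h1
    exact hne h1
  obtain ⟨m, hm, hle⟩ := Ideal.exists_le_maximal _ hann
  have hidem : IsIdempotentElem m := by
    show m * m = m
    rw [← pow_two]
    exact le_antisymm (Ideal.pow_le_self two_ne_zero) (hmax m hm)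
  obtain ⟨e, he, hme⟩ := (Ideal.isIdempotentElem_iff_of_fg m (IsNoetherian.noetherian m)).mp hidem
  have ham : a ∈ m := by
    obtain ⟨n, hn⟩ := ha
    exact hm.isPrime.mem_of_pow_mem n (by rw [hn]; exact m.zero_mem)
  rw [hme, Submodule.mem_span_singleton] at ham
  obtain ⟨c, hc⟩ := ham
  have h1 : (1 - e) ∈ (Submodule.span A ({a} : Set A)).annihilator := by
    rw [Submodule.mem_annihilator_span_singleton, ← hc, smul_eq_mul, smul_eq_mul]
    have : (1 - e) * (c * e) = c * (e - e * e) := by ring
    rw [this, he.eq, sub_self, mul_zero]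
  have h2 : (1 - e) ∈ m := hle h1
  have h3 : e ∈ m := by
    rw [hme]
    exact Submodule.mem_span_singleton_self e
  have h4 : (1 : A) ∈ m := by
    have : (1 : A) = (1 - e) + e := by ring
    rw [this]
    exact m.add_mem h2 h3
  exact hm.ne_top ((Ideal.eq_top_iff_one m).mpr h4)

end translate

end Groth.Agent.Helper2.HopfLib
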