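import Groth.Agent.Lib.Helper2.Hopf.FrobKernel
import Groth.Prelude.Def_CartDual

/-!
# Simple infinitesimal finite commutative group schemes (helper2)
-/

set_option autoImplicit false
open MvPolynomial
open scoped TensorProduct

namespace Groth.Agent.Helper2.HopfLib

section general

variable {k : Type*} [Field k] {H : Type*} [CommRing H] [HopfAlgebra k H]

lemma augI_ne_bot [Module.Finite k H] (hH : 1 < Module.finrank k H) : augI k H ≠ ⊥ := by
  intro h
  have hinj : Function.Injective (Coalgebra.counit (R := k) (A := H)) := by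
    rw [injective_iff_map_eq_zero]
    intro a ha
    have : a ∈ augI k H := (mem_augI_iff a).mpr ha
    rw [h] at this
    exact this
  have := LinearMap.finrank_le_finrank_of_injective hinj
  rw [Module.finrank_self] at this
  omega

lemma augI_ne_top : augI k H ≠ ⊤ := by
  intro h
  have : (1 : H) ∈ augI k H := by rw [h]; trivial
  rw [mem_augI_iff, Bialgebra.counit_one] at this
  exact one_ne_zero this

lemma not_augI_le_sq [Module.Finite k H] [IsLocalRing H] (hH : 1 < Module.finrank k H) :
    ¬ (augI k H ≤ (augI k H) ^ 2) := by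
  intro h
  haveI : IsNoetherianRing H := IsNoetherianRing.of_finite k H
  apply augI_ne_bot hH
  refine Submodule.eq_bot_of_le_smul_of_le_jacobson_bot (augI k H) (augI k H)
    (IsNoetherian.noetherian _) ?_ ?_
  · rw [smul_eq_mul, ← pow_two]
    exact h
  · rw [IsLocalRing.jacobson_eq_maximalIdeal ⊥ bot_ne_top]
    exact IsLocalRing.le_maximalIdeal augI_ne_top

/-- a local finite Hopf algebra of dimension `> 1` has a nonzero point derivation -/
lemma exists_pointDer_ne_zero [Module.Finite k H] [IsLocalRing H]
    (hH : 1 < Module.finrank k H) :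
    ∃ d : H →ₗ[k] k, d ≠ 0 ∧ ∀ a b, d (a * b) =
      Coalgebra.counit (R := k) a * d b + d a * Coalgebra.counit (R := k) b := by
  have hns : ¬ Subsingleton (augI k H).Cotangent := by
    rw [Ideal.cotangent_subsingleton_iff]
    intro hid
    apply not_augI_le_sq hH
    rw [pow_two]
    exact le_of_eq hid.symm
  rw [not_subsingleton_iff_nontrivial] at hns
  obtain ⟨v, hv⟩ := exists_ne (0 : (augI k H).Cotangent)
  obtain ⟨θ, hθ⟩ : ∃ θ : Module.Dual k (augI k H).Cotangent, θ v ≠ 0 := by
    by_contra hcon
    simp only [not_exists, not_not] at hcon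
    exact hv ((Module.forall_dual_apply_eq_zero_iff k v).mp hcon)
  obtain ⟨y, rfl⟩ := (augI k H).toCotangent_surjective v
  refine ⟨pointDer θ, ?_, pointDer_mul θ⟩
  intro h0
  apply hθ
  rw [← pointDer_apply_of_mem θ y.2, h0]
  rfl

end general

section dualprim

universe u v

variable {k : Type u} [Field k] {A : Type v} [CommRing A] [HopfAlgebra k A]
  [Coalgebra.IsCocomm k A] [Module.Finite k A]

lemma finrank_cartDual : Module.finrank k (CartDual.D k A) = Module.finrank k A := by
  rw [(CartDual.toDual k A).finrank_eq, Subspace.dual_finrank_eq]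

/-- if the dual of a finite commutative group scheme is connected and nontrivial, the group has a
nonzero primitive function -/
theorem exists_primitive_of_dual_local (hdual : IsLocalRing (CartDual.D k A))
    (hA : 1 < Module.finrank k A) :
    ∃ x : A, x ≠ 0 ∧ Coalgebra.comul (R := k) x = x ⊗ₜ[k] (1 : A) + (1 : A) ⊗ₜ[k] x := by
  haveI := hdual
  have hD : 1 < Module.finrank k (CartDual.D k A) := by rw [finrank_cartDual]; exact hA
  obtain ⟨d, hd0, hdmul⟩ := exists_pointDer_ne_zero (k := k) (H := CartDual.D k A) hD
  set lam : Module.Dual k (Module.Dual k A) := d ∘ₗ (CartDual.toDual k A).symm.toLinearMap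
    with hlam
  set x : A := (Module.evalEquiv k A).symm lam with hx
  have hxφ : ∀ φ : CartDual.D k A, φ x = d φ := by
    intro φ
    have h1 := Module.apply_evalEquiv_symm_apply k A (CartDual.toDual k A φ) lam
    rw [← hx] at h1
    rw [hlam, LinearMap.comp_apply, LinearEquiv.coe_coe, LinearEquiv.symm_apply_apply] at h1
    exact h1
  refine ⟨x, ?_, ?_⟩
  · intro h0
    apply hd0
    ext φ
    rw [← hxφ φ, h0, LinearMap.zero_apply]
    exact map_zero _
  · rw [← sub_eq_zero, ← Module.forall_dual_apply_eq_zero_iff k]
    intro g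
    obtain ⟨y, rfl⟩ := (CartDual.ev₂ k A).surjective g
    induction y using TensorProduct.induction_on with
    | zero => simp only [map_zero, LinearMap.zero_apply]
    | tmul φ ψ =>
      have h1 : CartDual.ev₂ k A (φ ⊗ₜ ψ) (Coalgebra.comul (R := k) x) = d (φ * ψ) := by
        rw [← hxφ, CartDual.ev₂_tmul_eq']
        rfl
      rw [map_sub, map_add, h1, CartDual.ev₂_tmul, CartDual.ev₂_tmul, hdmul, hxφ, hxφ,
        CartDual.coalgebra_counit_apply, CartDual.coalgebra_counit_apply]
      ring
    | add y z hy hz =>
      rw [map_add, LinearMap.add_apply, hy, hz, add_zero]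

end dualprim

section simple

universe u v

variable {k : Type u} [Field k] {A : Type v} [CommRing A] [HopfAlgebra k A]

lemma counit_eq_zero_of_primitive [Nontrivial A] {x : A}
    (hx : Coalgebra.comul (R := k) x = x ⊗ₜ[k] (1 : A) + (1 : A) ⊗ₜ[k] x) :
    Coalgebra.counit (R := k) x = 0 := by
  have h1 := Coalgebra.rTensor_counit_comul (R := k) x
  rw [hx, map_add, LinearMap.rTensor_tmul, LinearMap.rTensor_tmul, Bialgebra.counit_one] at h1
  have h2 : (Coalgebra.counit (R := k) x) ⊗ₜ[k] (1 : A) = 0 := by
    have := sub_eq_zero.mpr h1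
    simpa using this
  have h3 := congrArg (TensorProduct.lid k A) h2
  rw [TensorProduct.lid_tmul, map_zero, ← Algebra.algebraMap_eq_smul_one] at h3
  exact (map_eq_zero_iff _ (algebraMap k A).injective).mp h3

lemma antipode_of_primitive [Nontrivial A] {x : A}
    (hx : Coalgebra.comul (R := k) x = x ⊗ₜ[k] (1 : A) + (1 : A) ⊗ₜ[k] x) :
    HopfAlgebra.antipode k x = -x := by
  have h1 := HopfAlgebra.mul_antipode_rTensor_comul_apply (R := k) x
  rw [hx, map_add, LinearMap.rTensor_tmul, LinearMap.rTensor_tmul, map_add,
    LinearMap.mul'_apply, LinearMap.mul'_apply, HopfAlgebra.antipode_one, mul_one, one_mul,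
    counit_eq_zero_of_primitive hx, map_zero] at h1
  exact eq_neg_of_add_eq_zero_left h1

/-- the principal ideal generated by a primitive element is a Hopf ideal -/
theorem isHopfIdeal_span_primitive [Nontrivial A] {x : A}
    (hx : Coalgebra.comul (R := k) x = x ⊗ₜ[k] (1 : A) + (1 : A) ⊗ₜ[k] x) :
    (Ideal.span {x}).IsHopfIdeal k := by
  have h1 : Ideal.span {x} ≤ RingHom.ker (Bialgebra.counitAlgHom k A) := by
    rw [Ideal.span_le, Set.singleton_subset_iff, SetLike.mem_coe]
    exact (mem_augI_iff x).mpr (counit_eq_zero_of_primitive hx)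
  have h2 : Ideal.span {x} ≤ Ideal.comap (HopfAlgebra.antipodeAlgHom k A) (Ideal.span {x}) := by
    rw [Ideal.span_le, Set.singleton_subset_iff, SetLike.mem_coe, Ideal.mem_comap]
    show HopfAlgebra.antipode k x ∈ _
    rw [antipode_of_primitive hx]
    exact neg_mem (Ideal.subset_span rfl)
  have h3 : Ideal.span {x} ≤ RingHom.ker
      ((Algebra.TensorProduct.map (Ideal.Quotient.mkₐ k (Ideal.span {x}))
        (Ideal.Quotient.mkₐ k (Ideal.span {x}))).comp (Bialgebra.comulAlgHom k A)) := by
    rw [Ideal.span_le, Set.singleton_subset_iff, SetLike.mem_coe, RingHom.mem_ker,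
      AlgHom.comp_apply]
    show (Algebra.TensorProduct.map (Ideal.Quotient.mkₐ k (Ideal.span {x}))
      (Ideal.Quotient.mkₐ k (Ideal.span {x}))) (Coalgebra.comul (R := k) x) = 0
    have hmk : Ideal.Quotient.mkₐ k (Ideal.span {x}) x = 0 :=
      Ideal.Quotient.eq_zero_iff_mem.mpr (Ideal.subset_span rfl)
    rw [hx, map_add, Algebra.TensorProduct.map_tmul, Algebra.TensorProduct.map_tmul, hmk,
      TensorProduct.zero_tmul, TensorProduct.tmul_zero, add_zero]
  refine { counit_eq_zero := ?_, map_mkQ_comul_eq_zero := ?_, antipode_mem := ?_ }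
  · intro y hy
    exact h1 hy
  · intro y hy
    exact RingHom.mem_ker.mp (h3 hy)
  · intro y hy
    exact h2 hy

end simple

section principal

variable {k : Type*} [Field k] {H : Type*} [CommRing H] [HopfAlgebra k H]

/-- a local Hopf algebra of height at most one with principal augmentation ideal has dimension
`p`, with the powers of the generator as a basis -/
theorem heightOne_principal [Module.Finite k H] [IsLocalRing H] (p : ℕ) [Fact p.Prime]
    [CharP k p] (hH : 1 < Module.finrank k H)
    (h1 : ∀ f : H, Coalgebra.counit (R := k) f = 0 → f ^ p = 0)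
    (x : H) (hx : Ideal.span {x} = augI k H) :
    Module.finrank k H = p ∧ LinearIndependent k (fun i : Fin p => x ^ (i : ℕ)) := by
  have hp : 0 < p := (Fact.out : p.Prime).pos
  have hxI : x ∈ augI k H := by rw [← hx]; exact Ideal.subset_span rfl
  set v := (augI k H).toCotangent ⟨x, hxI⟩ with hv
  -- every cotangent vector is a multiple of `v`
  have hmult : ∀ w : (augI k H).Cotangent, ∃ c : k, w = c • v := by
    intro w
    obtain ⟨⟨a, ha⟩, rfl⟩ := (augI k H).toCotangent_surjective w
    have ha' : a ∈ Ideal.span {x} := by rw [hx]; exact ha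
    obtain ⟨c, rfl⟩ := Ideal.mem_span_singleton'.mp ha'
    refine ⟨Coalgebra.counit (R := k) c, ?_⟩
    rw [hv, ← LinearMap.map_smul_of_tower, Ideal.toCotangent_eq]
    have e : ((⟨c * x, ha⟩ : augI k H) : H) -
        ((Coalgebra.counit (R := k) c • (⟨x, hxI⟩ : augI k H) : augI k H) : H) =
        (c - algebraMap k H (Coalgebra.counit (R := k) c)) * x := by
      simp only [Submodule.coe_smul_of_tower, Algebra.smul_def]
      ring
    rw [e, pow_two]
    exact Ideal.mul_mem_mul (sub_counit_mem c) hxI
  have hvne : v ≠ 0 := by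
    intro hv0
    have hsub : Subsingleton (augI k H).Cotangent := by
      refine ⟨fun w w' => ?_⟩
      obtain ⟨c, rfl⟩ := hmult w
      obtain ⟨c', rfl⟩ := hmult w'
      rw [hv0, smul_zero, smul_zero]
    rw [Ideal.cotangent_subsingleton_iff] at hsub
    apply not_augI_le_sq hH
    rw [pow_two]
    exact le_of_eq hsub.symm
  have hli : LinearIndependent k (fun _ : Fin 1 => v) := by
    rw [linearIndependent_unique_iff]
    exact hvne
  have hsp : ⊤ ≤ Submodule.span k (Set.range (fun _ : Fin 1 => v)) := by
    intro w _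
    obtain ⟨c, rfl⟩ := hmult w
    exact Submodule.smul_mem _ _ (Submodule.subset_span ⟨0, rfl⟩)
  set b := Module.Basis.mk hli hsp with hb
  have hbij := heightOne_monFam_bijective p h1 b (fun _ : Fin 1 => x) (fun _ => hxI)
    (fun j => by rw [hb, Module.Basis.mk_apply])
  refine ⟨?_, ?_⟩
  · rw [finrank_of_monFam_bijective (R := k) (p - 1) _ hbij, Nat.sub_add_cancel hp, pow_one]
  · have hli2 : LinearIndependent k (monFam k (p - 1) (fun _ : Fin 1 => x)) := hbij.1
    let e : Fin p → RestrExp 1 (p - 1) := fun i =>
      ⟨Finsupp.single 0 (i : ℕ), fun j => by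
        rw [Finsupp.single_apply]
        split_ifs
        · have := i.2
          omega
        · exact Nat.zero_le _⟩
    have he : Function.Injective e := by
      intro i j hij
      have h2 := congrArg (fun s : RestrExp 1 (p - 1) => s.1 0) hij
      simp only [e, Finsupp.single_eq_same] at h2
      exact Fin.ext h2
    have h3 := hli2.comp e he
    convert h3 using 1
    funext i
    show x ^ (i : ℕ) = aeval (fun _ : Fin 1 => x) (monomial (Finsupp.single 0 (i : ℕ)) (1 : k))
    rw [aeval_monomial, map_one, one_mul,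
      Finsupp.prod_single_index (h := fun (_ : Fin 1) (e : ℕ) => x ^ e) (pow_zero _)]

end principal

section main

universe u v

variable {k : Type u} [Field k] {A : Type v} [CommRing A] [HopfAlgebra k A]

/-- a simple local finite group scheme in characteristic `p` has height at most one -/
lemma heightOne_of_simple [Module.Finite k A] [IsLocalRing A] (p : ℕ) [Fact p.Prime] [CharP k p]
    (hA : 1 < Module.finrank k A)
    (hsimple : ∀ I : Ideal A, I.IsHopfIdeal k → I = ⊥ ∨ I = augI k A) :
    ∀ f : A, Coalgebra.counit (R := k) f = 0 → f ^ p = 0 := by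
  have hfrob : frobI k A p = ⊥ := by
    rcases hsimple _ (isHopfIdeal_frobI (k := k) (A := A) p) with h | h
    · exact h
    · exfalso
      apply not_augI_le_sq hA
      have := frobI_le_augI_sq (k := k) (A := A) p
      rwa [h] at this
  intro f hf
  have := pow_mem_frobI (k := k) p ((mem_augI_iff f).mpr hf)
  rwa [hfrob] at this

/-- a simple bi-infinitesimal finite commutative group scheme is `α_p` -/
theorem simple_biinfinitesimal [Coalgebra.IsCocomm k A] [Module.Finite k A] [IsLocalRing A]
    (p : ℕ) [Fact p.Prime] [CharP k p]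
    (hdual : IsLocalRing (CartDual.D k A)) (hA : 1 < Module.finrank k A)
    (hsimple : ∀ I : Ideal A, I.IsHopfIdeal k → I = ⊥ ∨ I = augI k A) :
    ∃ x : A, Coalgebra.comul (R := k) x = x ⊗ₜ[k] (1 : A) + (1 : A) ⊗ₜ[k] x ∧ x ^ p = 0 ∧
      LinearIndependent k (fun i : Fin p => x ^ (i : ℕ)) ∧ Module.finrank k A = p := by
  obtain ⟨x, hx0, hxΔ⟩ := exists_primitive_of_dual_local hdual hA
  have h1 := heightOne_of_simple p hA hsimple
  have hspan : Ideal.span {x} = augI k A := by
    rcases hsimple _ (isHopfIdeal_span_primitive hxΔ) with h | h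
    · exfalso
      apply hx0
      have : x ∈ Ideal.span {x} := Ideal.subset_span rfl
      rw [h] at this
      exact this
    · exact h
  obtain ⟨hfr, hli⟩ := heightOne_principal p hA h1 x hspan
  exact ⟨x, hxΔ, h1 x (counit_eq_zero_of_primitive hxΔ), hli, hfr⟩

end main

end Groth.Agent.Helper2.HopfLib
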