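import Mathlib
import Groth.Prelude.Def_CartDual
import Groth.Agent.Lib.Helper2.Hopf.SimpleInf

/-!
# The triangular pairing argument: a finite group scheme with a point derivation `d` and a function
`x` with `d x = 1` whose dual is spanned by powers of `d` is commutative (helper2)
-/

set_option autoImplicit false
open scoped TensorProduct
open WithConv

namespace Groth.Agent.Helper2.HopfLib

universe u v

section dualcomm

variable {k : Type u} [Field k] {A : Type v} [CommRing A] [HopfAlgebra k A] [Module.Finite k A]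

/-- if the dual algebra is commutative, the Hopf algebra is cocommutative -/
theorem isCocomm_of_dual_comm (h : ∀ φ ψ : CartDual.D k A, φ * ψ = ψ * φ) :
    Coalgebra.IsCocomm k A := by
  refine ⟨?_⟩
  refine LinearMap.ext fun a => ?_
  rw [LinearMap.comp_apply]
  have key : ∀ y : CartDual.D k A ⊗[k] CartDual.D k A,
      CartDual.ev₂ k A y ((TensorProduct.comm k A A) (Coalgebra.comul (R := k) a)) =
        CartDual.ev₂ k A y (Coalgebra.comul (R := k) a) := by
    intro y
    induction y using TensorProduct.induction_on with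
    | zero => simp
    | add y z hy hz => rw [map_add, LinearMap.add_apply, LinearMap.add_apply, hy, hz]
    | tmul φ ψ =>
      have h1 : ∀ t : A ⊗[k] A, CartDual.ev₂ k A (φ ⊗ₜ ψ) (TensorProduct.comm k A A t) =
          CartDual.ev₂ k A (ψ ⊗ₜ φ) t := by
        intro t
        induction t using TensorProduct.induction_on with
        | zero => simp
        | add s t hs ht => rw [map_add, map_add, hs, ht, map_add]
        | tmul b c => simp [mul_comm]
      rw [h1, CartDual.ev₂_tmul_eq', CartDual.ev₂_tmul_eq']
      show (ψ * φ) a = (φ * ψ) a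
      rw [h φ ψ]
  by_contra hne
  have hsub : (TensorProduct.comm k A A) (Coalgebra.comul (R := k) a) -
      Coalgebra.comul (R := k) a ≠ 0 := sub_ne_zero.mpr hne
  apply hsub
  rw [← Module.forall_dual_apply_eq_zero_iff k]
  intro l
  obtain ⟨y, rfl⟩ := (CartDual.ev₂ k A).surjective l
  rw [map_sub, sub_eq_zero]
  exact key y

end dualcomm

section tri

variable {k : Type u} [Field k] {A : Type v} [CommRing A] [HopfAlgebra k A] [Module.Finite k A]

lemma one_D_apply (c : A) : (1 : CartDual.D k A) c = Coalgebra.counit (R := k) c := by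
  simp [LinearMap.convOne_apply]

lemma comul_of_pointDer (d : CartDual.D k A)
    (hd : ∀ a b : A, d (a * b) =
      Coalgebra.counit (R := k) a * d b + d a * Coalgebra.counit (R := k) b) :
    Coalgebra.comul (R := k) d =
      d ⊗ₜ[k] (1 : CartDual.D k A) + (1 : CartDual.D k A) ⊗ₜ[k] d := by
  apply (CartDual.ev₂ k A).injective
  apply TensorProduct.ext'
  intro a b
  rw [CartDual.ev₂_coalgebra_comul_tmul, map_add, LinearMap.add_apply, CartDual.ev₂_tmul,
    CartDual.ev₂_tmul, hd, one_D_apply, one_D_apply]
  ring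

lemma comul_pow_of_primitive (d : CartDual.D k A)
    (hd : Coalgebra.comul (R := k) d =
      d ⊗ₜ[k] (1 : CartDual.D k A) + (1 : CartDual.D k A) ⊗ₜ[k] d) (n : ℕ) :
    Coalgebra.comul (R := k) (d ^ n) =
      ∑ s ∈ Finset.range (n + 1), (n.choose s : k) • ((d ^ s) ⊗ₜ[k] (d ^ (n - s))) := by
  have h1 : Coalgebra.comul (R := k) (d ^ n) = (Coalgebra.comul (R := k) d) ^ n :=
    map_pow (Bialgebra.comulAlgHom k (CartDual.D k A)) d n
  rw [h1, hd]
  have hc : Commute (d ⊗ₜ[k] (1 : CartDual.D k A)) ((1 : CartDual.D k A) ⊗ₜ[k] d) := by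
    show _ * _ = _ * _
    simp only [Algebra.TensorProduct.tmul_mul_tmul, mul_one, one_mul]
  have hadd := @Commute.add_pow (CartDual.D k A ⊗[k] CartDual.D k A) inferInstance _ _ hc n
  rw [hadd]
  refine Finset.sum_congr rfl fun s _ => ?_
  rw [Algebra.TensorProduct.tmul_pow, Algebra.TensorProduct.tmul_pow, one_pow, one_pow,
    Algebra.TensorProduct.tmul_mul_tmul, mul_one, one_mul, ← nsmul_eq_mul',
    Nat.cast_smul_eq_nsmul]

lemma pow_apply_mul (d : CartDual.D k A)
    (hd : Coalgebra.comul (R := k) d =
      d ⊗ₜ[k] (1 : CartDual.D k A) + (1 : CartDual.D k A) ⊗ₜ[k] d) (n : ℕ) (a b : A) :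
    (d ^ n) (a * b) =
      ∑ s ∈ Finset.range (n + 1), (n.choose s : k) * ((d ^ s) a * (d ^ (n - s)) b) := by
  rw [← CartDual.ev₂_coalgebra_comul_tmul, comul_pow_of_primitive d hd n, map_sum,
    LinearMap.sum_apply]
  refine Finset.sum_congr rfl fun s _ => ?_
  rw [map_smul, LinearMap.smul_apply, CartDual.ev₂_tmul, smul_eq_mul]

lemma tri (d : CartDual.D k A)
    (hd : Coalgebra.comul (R := k) d =
      d ⊗ₜ[k] (1 : CartDual.D k A) + (1 : CartDual.D k A) ⊗ₜ[k] d)
    (x : A) (hx0 : Coalgebra.counit (R := k) x = 0) (hx1 : d x = 1) :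
    ∀ j : ℕ, (∀ n, n < j → (d ^ n) (x ^ j) = 0) ∧ (d ^ j) (x ^ j) = (j.factorial : k) := by
  intro j
  induction j with
  | zero =>
    refine ⟨fun n hn => absurd hn (Nat.not_lt_zero n), ?_⟩
    rw [pow_zero, pow_zero, one_D_apply, Bialgebra.counit_one, Nat.factorial_zero, Nat.cast_one]
  | succ j ih =>
    have hzero : ∀ n s : ℕ, n - s < j → s ∈ Finset.range (n + 1) →
        (n.choose s : k) * ((d ^ s) x * (d ^ (n - s)) (x ^ j)) = 0 := by
      intro n s hns _
      rw [ih.1 (n - s) hns, mul_zero, mul_zero]
    have hs0 : ∀ n : ℕ, (n.choose 0 : k) * ((d ^ 0) x * (d ^ (n - 0)) (x ^ j)) = 0 := by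
      intro n
      rw [pow_zero, one_D_apply, hx0, zero_mul, mul_zero]
    constructor
    · intro n hn
      rw [show x ^ (j + 1) = x * x ^ j from pow_succ' x j, pow_apply_mul d hd]
      refine Finset.sum_eq_zero fun s hs => ?_
      have hsn := Finset.mem_range.mp hs
      by_cases h0 : s = 0
      · rw [h0]; exact hs0 n
      · exact hzero n s (by omega) hs
    · rw [show x ^ (j + 1) = x * x ^ j from pow_succ' x j, pow_apply_mul d hd,
        Finset.sum_eq_single 1]
      · rw [pow_one, hx1, one_mul, Nat.add_sub_cancel, ih.2, Nat.choose_one_right,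
          Nat.factorial_succ, Nat.cast_mul]
      · intro s hs hs1
        have hsn := Finset.mem_range.mp hs
        by_cases h0 : s = 0
        · rw [h0]; exact hs0 (j + 1)
        · exact hzero (j + 1) s (by omega) hs
      · intro h
        exact absurd (Finset.mem_range.mpr (by omega)) h

lemma linearIndependent_pow_of_tri (p : ℕ) (d : CartDual.D k A)
    (hd : Coalgebra.comul (R := k) d =
      d ⊗ₜ[k] (1 : CartDual.D k A) + (1 : CartDual.D k A) ⊗ₜ[k] d)
    (x : A) (hx0 : Coalgebra.counit (R := k) x = 0) (hx1 : d x = 1)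
    (hfac : ∀ j, j < p → (j.factorial : k) ≠ 0) :
    LinearIndependent k (fun n : Fin p => d ^ (n : ℕ)) := by
  rw [Fintype.linearIndependent_iff]
  intro c hc
  have htri := tri d hd x hx0 hx1
  -- downward induction
  have key : ∀ t : ℕ, ∀ n : Fin p, p - t ≤ (n : ℕ) → c n = 0 := by
    intro t
    induction t with
    | zero =>
      intro n hn
      exact absurd n.2 (by omega)
    | succ t ih =>
      intro n hn
      by_cases hn' : p - t ≤ (n : ℕ)
      · exact ih n hn'
      · have hev := congrArg (fun φ : CartDual.D k A => φ (x ^ (n : ℕ))) hc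
        have hsum : (∑ i : Fin p, c i • d ^ (i : ℕ) : CartDual.D k A) (x ^ (n : ℕ)) =
            ∑ i : Fin p, c i * (d ^ (i : ℕ)) (x ^ (n : ℕ)) := by
          have := map_sum ((LinearMap.applyₗ (x ^ (n : ℕ))) ∘ₗ (CartDual.toDual k A).toLinearMap)
            (fun i : Fin p => c i • d ^ (i : ℕ)) Finset.univ
          exact this
        have hev' : ∑ i : Fin p, c i * (d ^ (i : ℕ)) (x ^ (n : ℕ)) = 0 := by
          rw [← hsum]
          exact hev
        rw [Finset.sum_eq_single n] at hev'
        · rw [(htri n).2] at hev'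
          exact (mul_eq_zero.mp hev').resolve_right (hfac n n.2)
        · intro i _ hin
          by_cases hlt : (i : ℕ) < (n : ℕ)
          · rw [(htri n).1 i hlt, mul_zero]
          · have : c i = 0 := ih i (by
              have : (i : ℕ) ≠ (n : ℕ) := fun h => hin (Fin.ext h)
              omega)
            rw [this, zero_mul]
        · intro h
          exact absurd (Finset.mem_univ n) h
  intro n
  exact key p n (by omega)

/-- the triangular pairing argument -/
theorem isCocomm_of_pointDer (p : ℕ) (hp : Module.finrank k A = p) (d : CartDual.D k A)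
    (hder : ∀ a b : A, d (a * b) =
      Coalgebra.counit (R := k) a * d b + d a * Coalgebra.counit (R := k) b)
    (x : A) (hx0 : Coalgebra.counit (R := k) x = 0) (hx1 : d x = 1)
    (hfac : ∀ j, j < p → (j.factorial : k) ≠ 0) : Coalgebra.IsCocomm k A := by
  have hd := comul_of_pointDer d hder
  have hli := linearIndependent_pow_of_tri p d hd x hx0 hx1 hfac
  have hspan : Submodule.span k (Set.range (fun n : Fin p => d ^ (n : ℕ))) = ⊤ := by
    apply hli.span_eq_top_of_card_eq_finrank'
    rw [Fintype.card_fin, (CartDual.toDual k A).finrank_eq, Subspace.dual_finrank_eq, hp]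
  apply isCocomm_of_dual_comm
  have h1 : ∀ φ : CartDual.D k A, ∀ m : ℕ, φ * d ^ m = d ^ m * φ := by
    intro φ m
    have hφ : φ ∈ Submodule.span k (Set.range (fun n : Fin p => d ^ (n : ℕ))) := by
      rw [hspan]; trivial
    induction hφ using Submodule.span_induction with
    | mem y hy =>
      obtain ⟨n, rfl⟩ := hy
      show d ^ (n : ℕ) * d ^ m = d ^ m * d ^ (n : ℕ)
      rw [← pow_add, ← pow_add, add_comm]
    | zero => rw [zero_mul, mul_zero]
    | add y z _ _ hy hz => rw [add_mul, mul_add, hy, hz]
    | smul c y _ hy => rw [smul_mul_assoc, mul_smul_comm, hy]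
  intro φ ψ
  have hψ : ψ ∈ Submodule.span k (Set.range (fun n : Fin p => d ^ (n : ℕ))) := by
    rw [hspan]; trivial
  induction hψ using Submodule.span_induction with
  | mem y hy =>
    obtain ⟨n, rfl⟩ := hy
    exact h1 φ n
  | zero => rw [zero_mul, mul_zero]
  | add y z _ _ hy hz => rw [add_mul, mul_add, hy, hz]
  | smul c y _ hy => rw [smul_mul_assoc, mul_smul_comm, hy]

end tri

end Groth.Agent.Helper2.HopfLib
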