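import Mathlib
import Groth.Agent.Lib.Helper2.Hopf.CoactRG

/-!
# The translation coaction of a quotient Hopf algebra (helper2)
-/

set_option autoImplicit false
universe u v
open CategoryTheory CategoryTheory.Limits TensorProduct

namespace Groth.Agent.Helper2.HopfLib

section trans
variable {k : Type u} [CommRing k] {A : Type v} [CommRing A] [Bialgebra k A]
  {H : Type v} [CommRing H] [Bialgebra k H] (π : A →ₐc[k] H)

/-- the coaction `a ↦ Σ a₁ ⊗ π(a₂)` as an algebra map -/
noncomputable def transHom : A →ₐ[k] A ⊗[k] H :=
  (Algebra.TensorProduct.map (AlgHom.id k A) (π : A →ₐ[k] H)).comp (Bialgebra.comulAlgHom k A)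

lemma lTensor_eq_map (y : A ⊗[k] A) :
    ((π : A →ₗ[k] H).lTensor A) y = Algebra.TensorProduct.map (AlgHom.id k A) (π : A →ₐ[k] H) y := by
  induction y using TensorProduct.induction_on with
  | zero => simp
  | tmul a b => simp
  | add x y hx hy => rw [map_add, map_add, hx, hy]

/-- right translation by `Spec H` on `Spec A` -/
noncomputable def transComod : HopfRep.Comod k H A where
  coact := ((π : A →ₗ[k] H).lTensor A) ∘ₗ CoalgebraStruct.comul
  coassoc := by
    have h1 : ∀ y : A ⊗[k] A,
        (TensorProduct.assoc k A H H)
          (((((π : A →ₗ[k] H).lTensor A) ∘ₗ CoalgebraStruct.comul).rTensor H)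
            (((π : A →ₗ[k] H).lTensor A) y)) =
        (TensorProduct.map LinearMap.id (TensorProduct.map (π : A →ₗ[k] H) (π : A →ₗ[k] H)))
          ((TensorProduct.assoc k A A A)
            ((CoalgebraStruct.comul (R := k) (A := A)).rTensor A y)) := by
      intro y
      induction y using TensorProduct.induction_on with
      | zero => simp
      | tmul a₁ a₂ =>
        simp only [LinearMap.lTensor_tmul, LinearMap.rTensor_tmul, LinearMap.coe_comp,
          Function.comp_apply]
        generalize CoalgebraStruct.comul (R := k) a₁ = z
        induction z using TensorProduct.induction_on with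
        | zero => simp
        | tmul b b' => simp
        | add z w hz hw => simp only [map_add, TensorProduct.add_tmul, hz, hw]
      | add x y hx hy => simp only [map_add, hx, hy]
    have h2 : ∀ y : A ⊗[k] A,
        ((CoalgebraStruct.comul (R := k) (A := H)).lTensor A) (((π : A →ₗ[k] H).lTensor A) y) =
        (TensorProduct.map LinearMap.id (TensorProduct.map (π : A →ₗ[k] H) (π : A →ₗ[k] H)))
          ((CoalgebraStruct.comul (R := k) (A := A)).lTensor A y) := by
      intro y
      induction y using TensorProduct.induction_on with
      | zero => simp
      | tmul a₁ a₂ =>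
        simp only [LinearMap.lTensor_tmul, TensorProduct.map_tmul, LinearMap.id_apply]
        congr 1
        exact (CoalgHomClass.map_comp_comul_apply π a₂).symm
      | add x y hx hy => simp only [map_add, hx, hy]
    ext a
    simp only [LinearMap.coe_comp, LinearEquiv.coe_coe, Function.comp_apply]
    rw [h1, h2]
    congr 1
    exact LinearMap.congr_fun (Coalgebra.coassoc (R := k) (A := A)) a
  counit_comp := by
    ext a
    simp only [LinearMap.coe_comp, Function.comp_apply, LinearMap.flip_apply,
      TensorProduct.mk_apply]
    have h3 : ∀ y : A ⊗[k] A,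
        ((CoalgebraStruct.counit (R := k) (A := H)).lTensor A) (((π : A →ₗ[k] H).lTensor A) y) =
        ((CoalgebraStruct.counit (R := k) (A := A)).lTensor A) y := by
      intro y
      induction y using TensorProduct.induction_on with
      | zero => simp
      | tmul a₁ a₂ =>
        simp only [LinearMap.lTensor_tmul]
        congr 1
        exact CoalgHomClass.counit_comp_apply π a₂
      | add x y hx hy => simp only [map_add, hx, hy]
    rw [h3]
    exact LinearMap.congr_fun (Coalgebra.lTensor_counit_comp_comul (R := k) (A := A)) a

lemma transComod_coact (a : A) :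
    letI := transComod π
    HopfRep.Comod.coact (k := k) (A := H) a = transHom π a := by
  show ((π : A →ₗ[k] H).lTensor A) (CoalgebraStruct.comul a) = _
  rw [lTensor_eq_map]
  rfl

lemma transCoactAlg : letI := transComod π; GLin.IsCoactAlg k H A := by
  letI := transComod π
  refine ⟨?_, ?_⟩
  · rw [transComod_coact, map_one]
  · intro f g
    rw [transComod_coact, transComod_coact, transComod_coact, map_mul]

end trans

end Groth.Agent.Helper2.HopfLib
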