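import Mathlib
import Groth.Agent.Lib.Helper2.Hopf.TransCoact
import Groth.Agent.Lib.Helper2.Grpd.GlobalEq
import Groth.Agent.Lib.Helper2.Alg.SemilocalFree

/-!
# A Hopf algebra is locally free over the invariants of a finite quotient Hopf algebra (helper2)
-/

set_option autoImplicit false
universe u v
open CategoryTheory CategoryTheory.Limits TensorProduct

namespace Groth.Agent.Helper2.HopfLib

open Groth.Agent.Helper2.GrpdLib

/-- the `A`-span (through `s`) of the image of `t` is everything -/
def SpanTop {A B : Type*} [CommRing A] [CommRing B] (s t : A →+* B) : Prop :=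
  letI := s.toAlgebra
  Submodule.span A (Set.range t) = ⊤

lemma spanTop_of_forall {A B : Type*} [CommRing A] [CommRing B] (s t : A →+* B)
    (h : ∀ w : B, w ∈ AddSubmonoid.closure {x : B | ∃ r a, x = s r * t a}) : SpanTop s t := by
  unfold SpanTop
  letI := s.toAlgebra
  rw [eq_top_iff]
  intro w hwtop
  clear hwtop
  have hw := h w
  induction hw using AddSubmonoid.closure_induction with
  | mem x hx =>
    obtain ⟨r, a, rfl⟩ := hx
    have : s r * t a = r • t a := (Algebra.smul_def r (t a)).symm
    rw [this]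
    exact Submodule.smul_mem _ _ (Submodule.subset_span ⟨a, rfl⟩)
  | zero => exact Submodule.zero_mem _
  | add x y _ _ hx hy => exact Submodule.add_mem _ hx hy

section
variable {k : Type u} [CommRing k] {A : Type v} [CommRing A] [HopfAlgebra k A]
  {H : Type v} [CommRing H] [HopfAlgebra k H] (π : A →ₐc[k] H)

/-- the translates of functions on `G` span the functions on `G × H` -/
lemma trans_span (hπ : Function.Surjective π) :
    SpanTop (((Algebra.TensorProduct.includeLeft : A →ₐ[k] A ⊗[k] H)) : A →+* A ⊗[k] H)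
      (transHom π : A →+* A ⊗[k] H) := by
  apply spanTop_of_forall
  intro w
  have hsurj : Function.Surjective
      (Algebra.TensorProduct.map (AlgHom.id k A) (π : A →ₐ[k] H)) := by
    intro w
    induction w using TensorProduct.induction_on with
    | zero => exact ⟨0, map_zero _⟩
    | tmul a h =>
      obtain ⟨a', rfl⟩ := hπ h
      exact ⟨a ⊗ₜ a', by simp⟩
    | add x y hx hy =>
      obtain ⟨x', rfl⟩ := hx
      obtain ⟨y', rfl⟩ := hy
      exact ⟨x' + y', map_add _ _ _⟩
  obtain ⟨y, rfl⟩ := hsurj w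
  obtain ⟨z, rfl⟩ := (GamEquiv (AlgHom.id k A)).surjective y
  rw [GamEquiv_apply]
  induction z using TensorProduct.induction_on with
  | zero =>
    rw [map_zero, map_zero]
    exact AddSubmonoid.zero_mem _
  | tmul r a =>
    rw [Gam_tmul, map_mul]
    have h1 : tw (AlgHom.id k A) a = CoalgebraStruct.comul (R := k) a := by
      unfold tw
      rw [AlgHom.convMul_apply]
      simp only [WithConv.ofConv_toConv, AlgHom.comp_id]
      have := Algebra.TensorProduct.lift_includeLeft_includeRight (R := k) (S := k) (A := A)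
        (B := A)
      exact AlgHom.congr_fun this _
    rw [h1]
    have h2 : Algebra.TensorProduct.map (AlgHom.id k A) (π : A →ₐ[k] H)
        (CoalgebraStruct.comul (R := k) a) = transHom π a := rfl
    rw [h2]
    have h3 : Algebra.TensorProduct.map (AlgHom.id k A) (π : A →ₐ[k] H) (r ⊗ₜ[k] (1 : A)) =
        r ⊗ₜ[k] (1 : H) := by simp
    rw [h3]
    exact AddSubmonoid.subset_closure ⟨r, a, rfl⟩
  | add x y hx hy =>
    rw [map_add, map_add]
    exact AddSubmonoid.add_mem _ hx hy

variable [Module.Finite k H] [Module.Projective k H]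
  {K : Type v} [CommRing K] [Algebra K A]

/-- flatness over the invariants and the torsor property -/
theorem trans_flat_and_bij (hπ : Function.Surjective π)
    (hK₁ : ∀ κ : K, transHom π (algebraMap K A κ) = algebraMap K A κ ⊗ₜ[k] (1 : H))
    (hK₂ : ∀ a : A, transHom π a = a ⊗ₜ[k] (1 : H) → a ∈ Set.range (algebraMap K A))
    (hinj : Function.Injective (algebraMap K A)) :
    Module.Flat K A ∧ ∀ φ : A ⊗[K] A → A ⊗[k] H, (∀ y z, φ (y + z) = φ y + φ z) → φ 0 = 0 →
      (∀ a a', φ (a ⊗ₜ a') = transHom π a * (a' ⊗ₜ[k] (1 : H))) → Function.Bijective φ := by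
  letI := transComod π
  haveI := transCoactAlg π
  have h := isRG_coaction k H A
  have ht : ∀ a, (tC k H A) a = transHom π a := fun a => transComod_coact π a
  have hspan : SpanTop ((sC k H A : A →ₐ[k] A ⊗[k] H) : A →+* A ⊗[k] H)
      ((tC k H A : A →ₐ[k] A ⊗[k] H) : A →+* A ⊗[k] H) := by
    have h1 := trans_span π hπ
    have h2 : ((tC k H A : A →ₐ[k] A ⊗[k] H) : A →+* A ⊗[k] H) = (transHom π : A →+* A ⊗[k] H) :=
      RingHom.ext ht
    rw [h2]
    exact h1
  obtain ⟨hflat, hbij⟩ := h.flat_and_bij_of (K := K)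
    (fun κ => by
      show (algebraMap K A κ) ⊗ₜ[k] (1 : H) = (tC k H A) (algebraMap K A κ)
      rw [ht, hK₁])
    (fun a ha => by
      apply hK₂
      have : (a ⊗ₜ[k] (1 : H) : A ⊗[k] H) = (tC k H A) a := ha
      rw [← ht, ← this])
    hinj hspan
  refine ⟨hflat, ?_⟩
  intro φ hadd hzero hφ
  refine hbij φ hadd hzero (fun a a' => ?_)
  rw [hφ]
  show transHom π a * _ = (tC k H A) a * _
  rw [ht]
  rfl

/-- the rank of `A` over the invariants is the rank of `H` -/
theorem trans_rank (hπ : Function.Surjective π)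
    (hK₁ : ∀ κ : K, transHom π (algebraMap K A κ) = algebraMap K A κ ⊗ₜ[k] (1 : H))
    (hK₂ : ∀ a : A, transHom π a = a ⊗ₜ[k] (1 : H) → a ∈ Set.range (algebraMap K A))
    (hinj : Function.Injective (algebraMap K A)) [Module.Finite K A] (𝔮 : PrimeSpectrum A) :
    Module.rankAtStalk (R := K) A (𝔮.comap (algebraMap K A)) =
      Module.rankAtStalk (R := k) H (𝔮.comap (algebraMap k A)) := by
  obtain ⟨hflat, hbij⟩ := trans_flat_and_bij π hπ hK₁ hK₂ hinj
  let sAdd : A →+ A ⊗[k] H :=
    ((Algebra.TensorProduct.includeLeft : A →ₐ[k] A ⊗[k] H) : A →+* A ⊗[k] H).toAddMonoidHom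
  let tAdd : A →+ A ⊗[k] H := (transHom π : A →+* A ⊗[k] H).toAddMonoidHom
  let f : A →+ A →+ A ⊗[k] H := ((AddMonoidHom.mul (R := A ⊗[k] H)).comp sAdd).compl₂ tAdd
  have hf : ∀ a' a, f a' a = (a' ⊗ₜ[k] (1 : H)) * transHom π a := fun a' a => rfl
  have hbal : ∀ (κ : K) (a' a : A), f (κ • a') a = f a' (κ • a) := by
    intro κ a' a
    rw [hf, hf, Algebra.smul_def, Algebra.smul_def, map_mul, hK₁]
    have h0 : ((algebraMap K A κ * a') ⊗ₜ[k] (1 : H) : A ⊗[k] H) =
        (algebraMap K A κ ⊗ₜ[k] (1 : H)) * (a' ⊗ₜ[k] (1 : H)) := by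
      rw [Algebra.TensorProduct.tmul_mul_tmul, mul_one]
    rw [h0]
    ring
  let μ₀ : A ⊗[K] A →+ A ⊗[k] H := TensorProduct.liftAddHom f hbal
  have hμ₀ : ∀ a' a, μ₀ (a' ⊗ₜ a) = (a' ⊗ₜ[k] (1 : H)) * transHom π a := fun a' a => rfl
  have hsm : ∀ (r : A) (y : A ⊗[k] H), r • y = (r ⊗ₜ[k] (1 : H)) * y := by
    intro r y
    rw [Algebra.smul_def, Algebra.TensorProduct.algebraMap_apply, Algebra.algebraMap_self,
      RingHom.id_apply]
  let μ : A ⊗[K] A →ₗ[A] A ⊗[k] H :=
    { toFun := μ₀
      map_add' := μ₀.map_add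
      map_smul' := by
        intro r x
        simp only [RingHom.id_apply]
        induction x using TensorProduct.induction_on with
        | zero => simp
        | tmul a' a =>
          rw [TensorProduct.smul_tmul', hμ₀, hμ₀, hsm, smul_eq_mul, ← mul_assoc,
            Algebra.TensorProduct.tmul_mul_tmul, mul_one]
        | add x y hx hy => rw [smul_add, map_add, map_add, hx, hy, smul_add] }
  have hμbij : Function.Bijective μ := by
    have h1 := hbij (fun x => μ₀ (TensorProduct.comm K A A x))
      (fun y z => by simp only [map_add])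
      (by simp only [map_zero])
      (fun a a' => by
        simp only [TensorProduct.comm_tmul]
        rw [hμ₀, mul_comm])
    have h2 : (μ : A ⊗[K] A → A ⊗[k] H) =
        (fun x => μ₀ (TensorProduct.comm K A A x)) ∘ (TensorProduct.comm K A A).symm := by
      funext x
      simp only [Function.comp_apply, LinearEquiv.apply_symm_apply]
      rfl
    rw [h2]
    exact h1.comp (TensorProduct.comm K A A).symm.bijective
  let e : A ⊗[K] A ≃ₗ[A] A ⊗[k] H := LinearEquiv.ofBijective μ hμbij
  have h3 := congrFun (Module.rankAtStalk_eq_of_equiv e) 𝔮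
  rw [Module.rankAtStalk_baseChange, Module.rankAtStalk_baseChange] at h3
  exact h3

end

end Groth.Agent.Helper2.HopfLib
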