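import Mathlib
import Groth.Agent.S15059
import Groth.Agent.Lib.Helper2.Hopf.PrimeOrderTri
import Groth.Agent.Lib.Helper2.Hopf.PointTranslate
import Groth.Agent.Lib.Helper2.Hopf.EtalePoints

/-!
# Finite group schemes of prime order over an algebraically closed field are commutative (helper2)
-/

set_option autoImplicit false
open scoped TensorProduct
open WithConv

namespace Groth.Agent.Helper2.HopfLib

universe u v w

section transfer

variable {R : Type u} [CommRing R] {A : Type v} {B : Type w} [CommRing A] [CommRing B]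
  [Bialgebra R A] [Bialgebra R B]

theorem isCocomm_of_bialgEquiv (Θ : A ≃ₐc[R] B) (hB : Coalgebra.IsCocomm R B) :
    Coalgebra.IsCocomm R A := by
  refine ⟨?_⟩
  refine LinearMap.ext fun a => ?_
  rw [LinearMap.comp_apply]
  have hinj : Function.Injective
      (TensorProduct.map (Θ : A ≃ₗ[R] B).toLinearMap (Θ : A ≃ₗ[R] B).toLinearMap) :=
    (TensorProduct.congr (Θ : A ≃ₗ[R] B) (Θ : A ≃ₗ[R] B)).injective
  apply hinj
  have e2 : ∀ a : A, TensorProduct.map (Θ : A ≃ₗ[R] B).toLinearMap (Θ : A ≃ₗ[R] B).toLinearMap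
      (Coalgebra.comul (R := R) a) = Coalgebra.comul (R := R) (Θ a) :=
    fun a => CoalgHomClass.map_comp_comul_apply Θ a
  have e3 : ∀ t : A ⊗[R] A,
      TensorProduct.map (Θ : A ≃ₗ[R] B).toLinearMap (Θ : A ≃ₗ[R] B).toLinearMap
        ((TensorProduct.comm R A A) t) =
      (TensorProduct.comm R B B)
        (TensorProduct.map (Θ : A ≃ₗ[R] B).toLinearMap (Θ : A ≃ₗ[R] B).toLinearMap t) := by
    intro t
    induction t using TensorProduct.induction_on with
    | zero => simp
    | add s t hs ht => simp only [map_add, hs, ht]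
    | tmul b c => simp
  rw [LinearEquiv.coe_coe, e3, e2]
  exact congrArg (fun f : B →ₗ[R] B ⊗[R] B => f (Θ a)) hB.comm_comp_comul

end transfer

section constcomm

variable (R : Type u) [CommRing R] (G : Type v) [Group G] [Fintype G] [DecidableEq G]

theorem constGrp_isCocomm (h : ∀ a b : G, a * b = b * a) :
    Coalgebra.IsCocomm R (ConstGrp.F R G) := by
  refine ⟨?_⟩
  refine LinearMap.ext fun f => ?_
  rw [LinearMap.comp_apply]
  apply pair_injective R G
  funext ab
  obtain ⟨a, b⟩ := ab
  have e3 : ∀ t : ConstGrp.F R G ⊗[R] ConstGrp.F R G,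
      ConstGrp.pair R G ((TensorProduct.comm R _ _) t) (a, b) = ConstGrp.pair R G t (b, a) := by
    intro t
    induction t using TensorProduct.induction_on with
    | zero => simp
    | add s t hs ht => simp only [map_add, ConstGrp.add_apply, hs, ht]
    | tmul x y => simp [mul_comm]
  rw [LinearEquiv.coe_coe, e3, ConstGrp.pair_comul, ConstGrp.pair_comul, h]

end constcomm

section primeorder

variable {k : Type u} [Field k] {A : Type v} [CommRing A] [HopfAlgebra k A] [Module.Finite k A]

lemma exists_pointDer_one (h : ¬ augI k A ≤ (augI k A) ^ 2) :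
    ∃ (x : A) (d : CartDual.D k A), Coalgebra.counit (R := k) x = 0 ∧ d x = 1 ∧
      ∀ a b : A, d (a * b) =
        Coalgebra.counit (R := k) a * d b + d a * Coalgebra.counit (R := k) b := by
  obtain ⟨x, hxI, hx2⟩ := Set.not_subset.mp h
  have hv : (augI k A).toCotangent ⟨x, hxI⟩ ≠ 0 := by
    rw [Ne, Ideal.toCotangent_eq_zero]
    exact hx2
  obtain ⟨φ, hφ⟩ : ∃ φ : Module.Dual k (augI k A).Cotangent,
      φ ((augI k A).toCotangent ⟨x, hxI⟩) ≠ 0 := by
    by_contra hcon
    simp only [not_exists, not_not] at hcon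
    exact hv ((Module.forall_dual_apply_eq_zero_iff k _).mp hcon)
  refine ⟨x, toConv (pointDer ((φ ((augI k A).toCotangent ⟨x, hxI⟩))⁻¹ • φ)),
    (mem_augI_iff x).mp hxI, ?_, pointDer_mul _⟩
  show pointDer ((φ ((augI k A).toCotangent ⟨x, hxI⟩))⁻¹ • φ) x = 1
  rw [pointDer_apply_of_mem _ hxI, LinearMap.smul_apply, smul_eq_mul, inv_mul_cancel₀ hφ]

/-- Lagrange: the order of a closed subgroup scheme divides the order of the group -/
lemma finrank_quotient_dvd (I : Ideal A) [I.IsHopfIdeal k] :
    Module.finrank k (A ⧸ I) ∣ Module.finrank k A := by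
  have h := Groth.Agent.S15059.result k A I ⟨⊥, Ideal.isPrime_bot⟩
  simp only [Module.rankAtStalk_eq_finrank_of_free, Pi.natCast_apply, Nat.cast_id] at h
  exact ⟨_, h⟩

lemma frob_pow_dvd (ℓ : ℕ) [Fact ℓ.Prime] [CharP k ℓ] :
    ℓ ^ Module.finrank k (augI k A).Cotangent ∣ Module.finrank k A := by
  haveI := isHopfIdeal_frobI (k := k) (A := A) ℓ
  have h1 := finrank_heightOne (k := k) (H := A ⧸ frobI k A ℓ) ℓ
    (heightOne_quotient ℓ (frobI k A ℓ) (fun a ha => pow_mem_frobI ℓ ha))
  rw [finrank_cotangent_quotient (frobI k A ℓ) (frobI_le_augI_sq ℓ)] at h1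
  rw [← h1]
  exact finrank_quotient_dvd (frobI k A ℓ)

lemma finrank_cotangent_pos (h : ¬ augI k A ≤ (augI k A) ^ 2) :
    0 < Module.finrank k (augI k A).Cotangent := by
  obtain ⟨x, hxI, hx2⟩ := Set.not_subset.mp h
  have hv : (augI k A).toCotangent ⟨x, hxI⟩ ≠ 0 := by
    rw [Ne, Ideal.toCotangent_eq_zero]
    exact hx2
  haveI : IsNoetherianRing A := IsNoetherianRing.of_finite k A
  haveI : Module.Finite k (augI k A).Cotangent := finite_cotangent_augI
  exact Module.finrank_pos_iff_exists_ne_zero.mpr ⟨_, hv⟩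

lemma factorial_ne_zero_of_prime_order (p : ℕ) (hp : p.Prime) (hA : Module.finrank k A = p)
    (h : ¬ augI k A ≤ (augI k A) ^ 2) : ∀ j, j < p → ((j.factorial : ℕ) : k) ≠ 0 := by
  obtain ⟨ℓ, hℓ⟩ := CharP.exists k
  rcases CharP.char_is_prime_or_zero k ℓ with hprime | h0
  · haveI : Fact ℓ.Prime := ⟨hprime⟩
    have hdvd := frob_pow_dvd (k := k) (A := A) ℓ
    rw [hA] at hdvd
    have hpos := finrank_cotangent_pos h
    have hℓp : ℓ = p := by
      have h1 : ℓ ∣ p := dvd_trans (dvd_pow_self ℓ (by omega)) hdvd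
      exact (Nat.prime_dvd_prime_iff_eq hprime hp).mp h1
    subst hℓp
    intro j hj hzero
    rw [CharP.cast_eq_zero_iff k ℓ, hprime.dvd_factorial] at hzero
    omega
  · subst h0
    haveI : CharZero k := CharP.charP_to_charZero k
    intro j _
    exact Nat.cast_ne_zero.mpr (Nat.factorial_ne_zero j)

lemma card_Pts' [IsAlgClosed k] [IsReduced A] : Nat.card (Pts k A) = Module.finrank k A :=
  (Nat.card_congr (WithConv.equiv _)).trans card_pts

open Classical in
/-- a finite group scheme of prime order over an algebraically closed field is commutative -/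
theorem isCocomm_of_prime_order [IsAlgClosed k] (p : ℕ) (hp : p.Prime)
    (hA : Module.finrank k A = p) : Coalgebra.IsCocomm k A := by
  by_cases h : augI k A ≤ (augI k A) ^ 2
  · haveI := isReduced_of_augI_idem h
    have hcard : Nat.card (Pts k A) = p := card_Pts'.trans hA
    haveI : Fact p.Prime := ⟨hp⟩
    haveI : IsCyclic (Pts k A) := isCyclic_of_prime_card hcard
    have hcomm : ∀ a b : Pts k A, a * b = b * a := by
      letI : CommGroup (Pts k A) := IsCyclic.commGroup
      intro a b
      exact mul_comm a b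
    exact isCocomm_of_bialgEquiv (thetaEquiv (k := k) (A := A))
      (constGrp_isCocomm k (Pts k A) hcomm)
  · obtain ⟨x, d, hx0, hx1, hder⟩ := exists_pointDer_one h
    exact isCocomm_of_pointDer p hA d hder x hx0 hx1
      (factorial_ne_zero_of_prime_order p hp hA h)

end primeorder

end Groth.Agent.Helper2.HopfLib
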