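import Mathlib
import Groth.Prelude.Def_CartDual
import Groth.Agent.Lib.Helper2.Hopf.PrimeOrder

/-!
# A finite locally free group scheme of prime order over any ring is commutative (helper2)

Part 1: descent of cocommutativity along base change, reduction to local rings.
-/

set_option autoImplicit false
open scoped TensorProduct
open WithConv

namespace Groth.Agent.Helper2.CommP

universe u v w

section descent

variable {R : Type u} [CommRing R] {A : Type v} [CommRing A] [HopfAlgebra R A]
  (S : Type w) [CommRing S] [Algebra R S]

open TensorProduct.AlgebraTensorModule in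
lemma ttt_eq_distrib (t : A ⊗[R] A) :
    tensorTensorTensorComm R S R S S S A A (((1 : S) ⊗ₜ[S] (1 : S)) ⊗ₜ[R] t) =
      distribBaseChange R S A A ((1 : S) ⊗ₜ[R] t) := by
  induction t using TensorProduct.induction_on with
  | zero => simp
  | add s t hs ht => rw [TensorProduct.tmul_add, map_add, hs, ht, TensorProduct.tmul_add, map_add]
  | tmul b c =>
    rw [tensorTensorTensorComm_tmul, distribBaseChange_tmul]

open TensorProduct.AlgebraTensorModule in
lemma comul_bc (a : A) :
    Coalgebra.comul (R := S) ((1 : S) ⊗ₜ[R] a) =
      distribBaseChange R S A A ((1 : S) ⊗ₜ[R] Coalgebra.comul (R := R) a) := by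
  rw [TensorProduct.comul_tmul]
  have : Coalgebra.comul (R := S) (1 : S) = (1 : S) ⊗ₜ[S] (1 : S) := rfl
  rw [this]
  exact ttt_eq_distrib S _

open TensorProduct.AlgebraTensorModule in
lemma comm_distrib (s : S) (t : A ⊗[R] A) :
    TensorProduct.comm S (S ⊗[R] A) (S ⊗[R] A) (distribBaseChange R S A A (s ⊗ₜ[R] t)) =
      distribBaseChange R S A A (s ⊗ₜ[R] (TensorProduct.comm R A A t)) := by
  induction t using TensorProduct.induction_on with
  | zero => simp
  | add x y hx hy => rw [TensorProduct.tmul_add, map_add, map_add, hx, hy, map_add,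
      TensorProduct.tmul_add, map_add]
  | tmul b c =>
    rw [distribBaseChange_tmul, TensorProduct.comm_tmul, TensorProduct.comm_tmul,
      distribBaseChange_tmul]
    have e1 : s ⊗ₜ[R] b = s • ((1 : S) ⊗ₜ[R] b) := by
      rw [TensorProduct.smul_tmul', smul_eq_mul, mul_one]
    have e2 : s ⊗ₜ[R] c = s • ((1 : S) ⊗ₜ[R] c) := by
      rw [TensorProduct.smul_tmul', smul_eq_mul, mul_one]
    rw [e1, e2, TensorProduct.smul_tmul]

/-- descent of cocommutativity: the base-changed identity -/
lemma descent [Coalgebra.IsCocomm S (S ⊗[R] A)] (a : A) :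
    (1 : S) ⊗ₜ[R] (TensorProduct.comm R A A (Coalgebra.comul (R := R) a)) =
      (1 : S) ⊗ₜ[R] Coalgebra.comul (R := R) a := by
  apply (TensorProduct.AlgebraTensorModule.distribBaseChange R S A A).injective
  rw [← comm_distrib, ← comul_bc]
  exact Coalgebra.comm_comul S _

end descent

section localize

variable {R : Type u} [CommRing R] {A : Type v} [CommRing A] [HopfAlgebra R A]

/-- cocommutativity can be checked after localizing at every maximal ideal -/
theorem isCocomm_of_localization
    (h : ∀ (P : Ideal R) [P.IsMaximal],
      Coalgebra.IsCocomm (Localization.AtPrime P) (Localization.AtPrime P ⊗[R] A)) :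
    Coalgebra.IsCocomm R A := by
  refine ⟨?_⟩
  refine LinearMap.ext fun a => ?_
  rw [LinearMap.comp_apply]
  refine Module.eq_of_localization_maximal
    (fun P _ => Localization.AtPrime P ⊗[R] (A ⊗[R] A))
    (fun P _ => TensorProduct.mk R (Localization.AtPrime P) (A ⊗[R] A) 1) _ _ ?_
  intro P hP
  haveI := h P
  exact descent (Localization.AtPrime P) a

end localize

end Groth.Agent.Helper2.CommP
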