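import Mathlib
import Groth.Prelude.Def_CartDual
import Groth.Agent.Lib.Helper2.Hopf.CommP5

/-!
# A finite locally free group scheme of prime order over any ring is commutative (helper2)

Part 6: assembly.
-/

set_option autoImplicit false
open scoped TensorProduct
open WithConv

namespace Groth.Agent.Helper2.CommP

universe u v w

section loc

variable {R : Type u} [CommRing R] [IsLocalRing R] {A : Type v} [CommRing A] [HopfAlgebra R A]
  [Module.Finite R A] [Module.Free R A]

/-- a finite free group scheme of prime order over a local ring is commutative -/
theorem isCocomm_local (p : ℕ) (hp : p.Prime) (hrk : Module.finrank R A = p) :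
    Coalgebra.IsCocomm R A := by
  by_cases h : HopfLib.augI (IsLocalRing.ResidueField R) (IsLocalRing.ResidueField R ⊗[R] A) ≤
      (HopfLib.augI (IsLocalRing.ResidueField R) (IsLocalRing.ResidueField R ⊗[R] A)) ^ 2
  · exact isCocomm_of_etale (comm_comul_sub_mem p hp hrk) (aug_le_of_fibre h)
  · exact isCocomm_of_inf p hp hrk h

end loc

/-- a finite locally free group scheme of prime order over any ring is commutative -/
theorem isCocomm_of_rank_prime (R : Type u) [CommRing R] (p : ℕ) (hpp : p.Prime) (A : Type v)
    [CommRing A] [HopfAlgebra R A] [Module.Finite R A] [Module.Projective R A]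
    (hp : ∀ q : PrimeSpectrum R, Module.rankAtStalk A q = p) :
    Coalgebra.IsCocomm R A := by
  apply isCocomm_of_localization
  intro P hP
  haveI : Module.Free (Localization.AtPrime P) (Localization.AtPrime P ⊗[R] A) :=
    Module.free_of_flat_of_isLocalRing
  apply isCocomm_local p hpp
  have h1 := Module.rankAtStalk_baseChange (R := R) (M := A) (S := Localization.AtPrime P)
    (IsLocalRing.closedPoint (Localization.AtPrime P))
  rw [hp, Module.rankAtStalk_eq_finrank_of_free] at h1
  exact h1

end Groth.Agent.Helper2.CommP
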