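import Mathlib
import Groth.Agent.Lib.Helper2.Hopf.FiniteCoaction

/-!
# The kernel torsor isomorphism `A ⊗[A''] A ≃ A ⊗[R] A/J` (helper2)

For a homomorphism of Hopf algebras `A'' → A` with `J` the ideal generated by the image of the
augmentation ideal of `A''`, the shear map induces an isomorphism of `A`-algebras
`A ⊗[A''] A ≃ A ⊗[R] (A ⧸ J)`.
-/

set_option autoImplicit false
open scoped TensorProduct
open WithConv

namespace Groth.Agent.Helper2.HopfLib

universe u v

section torsor

variable {R : Type u} [CommRing R] {A A'' : Type v} [CommRing A] [HopfAlgebra R A]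
  [CommRing A''] [HopfAlgebra R A''] [Algebra A'' A] [IsScalarTower R A'' A]

omit [CommRing A''] [HopfAlgebra R A''] [Algebra A'' A] [IsScalarTower R A'' A] in
lemma tw_id_apply (b : A) : tw (AlgHom.id R A) b = Coalgebra.comul (R := R) b := by
  unfold tw
  rw [AlgHom.convMul_apply]
  generalize Coalgebra.comul (R := R) b = y
  induction y using TensorProduct.induction_on with
  | zero => simp
  | tmul a₁ a₂ => simp
  | add y z hy hz => simp only [map_add, hy, hz]

omit [CommRing A''] [HopfAlgebra R A''] [Algebra A'' A] [IsScalarTower R A'' A] in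
lemma tw_antipode_apply (b : A) : tw (HopfAlgebra.antipodeAlgHom R A) b =
    Algebra.TensorProduct.map (HopfAlgebra.antipodeAlgHom R A) (AlgHom.id R A)
      (Coalgebra.comul (R := R) b) := by
  unfold tw
  rw [AlgHom.convMul_apply]
  generalize Coalgebra.comul (R := R) b = y
  induction y using TensorProduct.induction_on with
  | zero => simp
  | tmul a₁ a₂ => simp
  | add y z hy hz => simp only [map_add, hy, hz]

variable (R A A'') in
/-- the canonical surjection `A ⊗[R] A → A ⊗[A''] A` -/
noncomputable def canT : A ⊗[R] A →ₐ[A] A ⊗[A''] A :=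
  Algebra.TensorProduct.mapOfCompatibleSMul A'' R A A A

lemma canT_tmul (a b : A) : canT R A A'' (a ⊗ₜ b) = a ⊗ₜ b := rfl

lemma canT_surjective : Function.Surjective (canT R A A'') :=
  Algebra.TensorProduct.mapOfCompatibleSMul_surjective A'' R A A A

variable (R A A'') in
/-- the kernel ideal: generated by the image of the augmentation ideal of `A''` -/
noncomputable def kerIdeal : Ideal A :=
  (RingHom.ker (Bialgebra.counitAlgHom R A'')).map (algebraMap A'' A)

variable (R A A'') in
/-- the projection `A ⊗[R] A → A ⊗[R] A/J` -/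
noncomputable def projT : A ⊗[R] A →ₐ[A] A ⊗[R] (A ⧸ kerIdeal R A A'') :=
  Algebra.TensorProduct.map (AlgHom.id A A) (Ideal.Quotient.mkₐ R (kerIdeal R A A''))

omit [IsScalarTower R A'' A] in
lemma projT_tmul (a b : A) : projT R A A'' (a ⊗ₜ b) =
    a ⊗ₜ Ideal.Quotient.mk (kerIdeal R A A'') b := rfl

omit [IsScalarTower R A'' A] in
lemma projT_surjective : Function.Surjective (projT R A A'') := by
  intro x
  induction x using TensorProduct.induction_on with
  | zero => exact ⟨0, map_zero _⟩
  | tmul a b =>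
    obtain ⟨b', rfl⟩ := Ideal.Quotient.mk_surjective b
    exact ⟨a ⊗ₜ b', rfl⟩
  | add x y hx hy =>
    obtain ⟨x', rfl⟩ := hx
    obtain ⟨y', rfl⟩ := hy
    exact ⟨x' + y', map_add _ _ _⟩

/-- in `A/J`, elements of `A''` become scalars -/
lemma mk_algebraMap (c : A'') : Ideal.Quotient.mk (kerIdeal R A A'') (algebraMap A'' A c) =
    algebraMap R (A ⧸ kerIdeal R A A'') (Bialgebra.counitAlgHom R A'' c) := by
  have h1 : c - algebraMap R A'' (Bialgebra.counitAlgHom R A'' c) ∈
      RingHom.ker (Bialgebra.counitAlgHom R A'') := by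
    rw [RingHom.mem_ker, map_sub, AlgHom.commutes, Algebra.algebraMap_self, RingHom.id_apply,
      sub_self]
  have h2 : algebraMap A'' A (c - algebraMap R A'' (Bialgebra.counitAlgHom R A'' c)) ∈
      kerIdeal R A A'' := Ideal.mem_map_of_mem _ h1
  have h3 := Ideal.Quotient.eq_zero_iff_mem.mpr h2
  rw [map_sub, map_sub, sub_eq_zero] at h3
  rw [h3, ← IsScalarTower.algebraMap_apply R A'' A]
  rfl

variable (R A) in
/-- the shear automorphism `a ⊗ b ↦ Σ a b₁ ⊗ b₂` -/
noncomputable def shear : A ⊗[R] A ≃ₐ[A] A ⊗[R] A := GamEquiv (AlgHom.id R A)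

omit [CommRing A''] [HopfAlgebra R A''] [Algebra A'' A] [IsScalarTower R A'' A] in
lemma shear_one_tmul (b : A) : shear R A (1 ⊗ₜ b) = Coalgebra.comul (R := R) b := by
  unfold shear
  rw [GamEquiv_apply, Gam_tmul, tw_id_apply]
  exact one_mul _

omit [CommRing A''] [HopfAlgebra R A''] [Algebra A'' A] [IsScalarTower R A'' A] in
lemma shear_symm_one_tmul (b : A) : (shear R A).symm (1 ⊗ₜ b) =
    Algebra.TensorProduct.map (HopfAlgebra.antipodeAlgHom R A) (AlgHom.id R A)
      (Coalgebra.comul (R := R) b) := by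
  have h1 : (shear R A).symm (1 ⊗ₜ b) =
      Gam (tw ((AlgHom.id R A).comp (HopfAlgebra.antipodeAlgHom R A))) (1 ⊗ₜ b) := rfl
  rw [h1, Gam_tmul, AlgHom.id_comp, tw_antipode_apply]
  exact one_mul _

section compat

variable (hΔ : (Bialgebra.comulAlgHom R A).comp (IsScalarTower.toAlgHom R A'' A) =
      (Algebra.TensorProduct.map (IsScalarTower.toAlgHom R A'' A)
        (IsScalarTower.toAlgHom R A'' A)).comp (Bialgebra.comulAlgHom R A''))
  (hε : (Bialgebra.counitAlgHom R A).comp (IsScalarTower.toAlgHom R A'' A) =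
      Bialgebra.counitAlgHom R A'')

include hΔ in
lemma comul_algebraMap (c : A'') : Coalgebra.comul (R := R) (algebraMap A'' A c) =
    Algebra.TensorProduct.map (IsScalarTower.toAlgHom R A'' A) (IsScalarTower.toAlgHom R A'' A)
      (Coalgebra.comul (R := R) c) := AlgHom.congr_fun hΔ c

include hε in
lemma counit_algebraMap (c : A'') : Coalgebra.counit (R := R) (algebraMap A'' A c) =
    Coalgebra.counit (R := R) c := AlgHom.congr_fun hε c

lemma projT_map_map (y : A'' ⊗[R] A'') :
    projT R A A'' (Algebra.TensorProduct.map (IsScalarTower.toAlgHom R A'' A)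
      (IsScalarTower.toAlgHom R A'' A) y) =
    Algebra.TensorProduct.map (IsScalarTower.toAlgHom R A'' A)
      (Algebra.ofId R (A ⧸ kerIdeal R A A''))
      ((Coalgebra.counit (R := R) (A := A'')).lTensor A'' y) := by
  induction y using TensorProduct.induction_on with
  | zero => simp
  | tmul c₁ c₂ =>
    rw [Algebra.TensorProduct.map_tmul, projT_tmul, LinearMap.lTensor_tmul,
      Algebra.TensorProduct.map_tmul]
    congr 1
    exact mk_algebraMap c₂
  | add y z hy hz => simp only [map_add, hy, hz]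

include hΔ in
/-- compatibility (a): `b ↦ Σ b₁ ⊗ b̄₂` is `A''`-linear -/
lemma projT_shear_algebraMap (c : A'') :
    projT R A A'' (shear R A (1 ⊗ₜ algebraMap A'' A c)) = algebraMap A'' A c ⊗ₜ 1 := by
  rw [shear_one_tmul, comul_algebraMap hΔ, projT_map_map, Coalgebra.lTensor_counit_comul,
    Algebra.TensorProduct.map_tmul, map_one]
  rfl

lemma canT_map_map (y : A'' ⊗[R] A'') :
    canT R A A'' (Algebra.TensorProduct.map (HopfAlgebra.antipodeAlgHom R A) (AlgHom.id R A)
      (Algebra.TensorProduct.map (IsScalarTower.toAlgHom R A'' A)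
        (IsScalarTower.toAlgHom R A'' A) y)) =
    (LinearMap.mul' R A ((HopfAlgebra.antipode R).rTensor A
      (Algebra.TensorProduct.map (IsScalarTower.toAlgHom R A'' A)
        (IsScalarTower.toAlgHom R A'' A) y))) ⊗ₜ[A''] (1 : A) := by
  induction y using TensorProduct.induction_on with
  | zero => simp
  | tmul c₁ c₂ =>
    rw [Algebra.TensorProduct.map_tmul, Algebra.TensorProduct.map_tmul, canT_tmul,
      LinearMap.rTensor_tmul, LinearMap.mul'_apply]
    have h1 : (AlgHom.id R A) (IsScalarTower.toAlgHom R A'' A c₂) = c₂ • (1 : A) := by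
      rw [Algebra.smul_def, mul_one]; rfl
    rw [h1, ← TensorProduct.smul_tmul, Algebra.smul_def, mul_comm]
    rfl
  | add y z hy hz => simp only [map_add, hy, hz, TensorProduct.add_tmul]

include hΔ hε in
/-- compatibility (b) -/
lemma canT_shear_symm_algebraMap (c : A'') :
    canT R A A'' ((shear R A).symm (1 ⊗ₜ algebraMap A'' A c)) =
      algebraMap R (A ⊗[A''] A) (Coalgebra.counit (R := R) c) := by
  rw [shear_symm_one_tmul, comul_algebraMap hΔ, canT_map_map, ← comul_algebraMap hΔ,
    HopfAlgebra.mul_antipode_rTensor_comul_apply, counit_algebraMap hε]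
  rw [Algebra.TensorProduct.algebraMap_apply]

/-- `b ↦ Σ b₁ ⊗ b̄₂` as an `A''`-algebra map -/
noncomputable def torsorG : A →ₐ[A''] A ⊗[R] (A ⧸ kerIdeal R A A'') :=
  { toRingHom := ((projT R A A'').toRingHom.comp (shear R A).toAlgHom.toRingHom).comp
      (Algebra.TensorProduct.includeRight : A →ₐ[R] A ⊗[R] A).toRingHom
    commutes' := fun c => by
      rw [Algebra.TensorProduct.algebraMap_apply]
      exact projT_shear_algebraMap hΔ c }

lemma torsorG_apply (b : A) : torsorG hΔ b = projT R A A'' (shear R A (1 ⊗ₜ b)) := rfl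

/-- the map `A ⊗[A''] A → A ⊗[R] A/J`, `a ⊗ b ↦ Σ a b₁ ⊗ b̄₂` -/
noncomputable def torsorHom : A ⊗[A''] A →ₐ[A] A ⊗[R] (A ⧸ kerIdeal R A A'') :=
  Algebra.TensorProduct.lift (Algebra.ofId A _) (torsorG hΔ) (fun _ _ => Commute.all _ _)

lemma torsorHom_comp_canT :
    (torsorHom hΔ).comp (canT R A A'') = (projT R A A'').comp (shear R A).toAlgHom := by
  apply Algebra.TensorProduct.ext
  · ext
  · ext b
    show torsorHom hΔ (canT R A A'' (1 ⊗ₜ b)) = projT R A A'' (shear R A (1 ⊗ₜ b))
    rw [canT_tmul]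
    unfold torsorHom
    rw [Algebra.TensorProduct.lift_tmul, map_one, one_mul, torsorG_apply]

/-- `b ↦ Σ S(b₁) ⊗ b₂ ∈ A ⊗[A''] A` -/
noncomputable def torsorInvG₀ : A →ₐ[R] A ⊗[A''] A :=
  (((canT R A A'').comp (shear R A).symm.toAlgHom).restrictScalars R).comp
    (Algebra.TensorProduct.includeRight : A →ₐ[R] A ⊗[R] A)

omit [IsScalarTower R A'' A] in
lemma torsorInvG₀_apply [IsScalarTower R A'' A] (b : A) :
    torsorInvG₀ (R := R) (A := A) (A'' := A'') b =
      canT R A A'' ((shear R A).symm (1 ⊗ₜ b)) := rfl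

include hΔ hε in
lemma torsorInvG₀_mem (a : A) (ha : a ∈ kerIdeal R A A'') :
    torsorInvG₀ (R := R) (A := A) (A'' := A'') a = 0 := by
  have h1 : kerIdeal R A A'' ≤ RingHom.ker (torsorInvG₀ (R := R) (A := A) (A'' := A'')) := by
    unfold kerIdeal
    rw [Ideal.map_le_iff_le_comap]
    intro c hc
    rw [Ideal.mem_comap, RingHom.mem_ker]
    rw [RingHom.mem_ker] at hc
    rw [torsorInvG₀_apply, canT_shear_symm_algebraMap hΔ hε]
    have h2 : Coalgebra.counit (R := R) c = 0 := hc
    rw [h2, map_zero]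
  exact h1 ha

/-- the map `A/J → A ⊗[A''] A` -/
noncomputable def torsorInvG : (A ⧸ kerIdeal R A A'') →ₐ[R] A ⊗[A''] A :=
  Ideal.Quotient.liftₐ (kerIdeal R A A'') torsorInvG₀ (torsorInvG₀_mem hΔ hε)

/-- the inverse map `A ⊗[R] A/J → A ⊗[A''] A`, `a ⊗ b̄ ↦ Σ a S(b₁) ⊗ b₂` -/
noncomputable def torsorInv : A ⊗[R] (A ⧸ kerIdeal R A A'') →ₐ[A] A ⊗[A''] A :=
  Algebra.TensorProduct.lift (Algebra.ofId A _) (torsorInvG hΔ hε) (fun _ _ => Commute.all _ _)

lemma torsorInv_comp_projT :
    (torsorInv hΔ hε).comp (projT R A A'') = (canT R A A'').comp (shear R A).symm.toAlgHom := by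
  apply Algebra.TensorProduct.ext
  · ext
  · ext b
    show torsorInv hΔ hε (projT R A A'' (1 ⊗ₜ b)) = canT R A A'' ((shear R A).symm (1 ⊗ₜ b))
    rw [projT_tmul]
    unfold torsorInv
    rw [Algebra.TensorProduct.lift_tmul, map_one, one_mul]
    rfl

/-- the kernel torsor isomorphism -/
noncomputable def torsorEquiv : A ⊗[A''] A ≃ₐ[A] A ⊗[R] (A ⧸ kerIdeal R A A'') :=
  AlgEquiv.ofAlgHom (torsorHom hΔ) (torsorInv hΔ hε)
    (by
      apply AlgHom.ext
      intro x
      obtain ⟨y, rfl⟩ := projT_surjective (R := R) (A := A) (A'' := A'') x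
      have h1 := AlgHom.congr_fun (torsorInv_comp_projT hΔ hε) y
      have h2 := AlgHom.congr_fun (torsorHom_comp_canT hΔ) ((shear R A).symm y)
      simp only [AlgHom.comp_apply, AlgHom.id_apply] at h1 h2 ⊢
      rw [h1]
      refine h2.trans ?_
      show projT R A A'' ((shear R A) ((shear R A).symm y)) = _
      rw [AlgEquiv.apply_symm_apply])
    (by
      apply AlgHom.ext
      intro x
      obtain ⟨y, rfl⟩ := canT_surjective (R := R) (A := A) (A'' := A'') x
      have h1 := AlgHom.congr_fun (torsorHom_comp_canT hΔ) y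
      have h2 := AlgHom.congr_fun (torsorInv_comp_projT hΔ hε) ((shear R A) y)
      simp only [AlgHom.comp_apply, AlgHom.id_apply] at h1 h2 ⊢
      rw [h1]
      refine h2.trans ?_
      show canT R A A'' ((shear R A).symm ((shear R A) y)) = _
      rw [AlgEquiv.symm_apply_apply])

include hΔ hε in
/-- an extension of étale groups is étale -/
theorem etale_of_etale_kernel_quotient [Module.FaithfullyFlat A'' A] [Algebra.Etale R A'']
    [Algebra.Etale R (A ⧸ kerIdeal R A A'')] : Algebra.Etale R A := by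
  haveI : Algebra.Etale A (A ⊗[R] (A ⧸ kerIdeal R A A'')) := inferInstance
  haveI : Algebra.Etale A (A ⊗[A''] A) := Algebra.Etale.of_equiv (torsorEquiv hΔ hε).symm
  haveI : Algebra.Etale A'' A :=
    Algebra.Etale.of_etale_tensorProduct_of_faithfullyFlat (R := A'') (S := A) A
  exact Algebra.Etale.comp R A'' A

end compat

end torsor

section localExt

variable {A'' : Type u} {A : Type v} [CommRing A''] [CommRing A] [Algebra A'' A]

/-- if `A` is integral and faithfully flat over the local ring `A''` and the quotient of `A` by an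
ideal contained in `𝔪'' A` is local, then `A` is local -/
theorem isLocalRing_of_quotient_local [Module.FaithfullyFlat A'' A] [Algebra.IsIntegral A'' A]
    [IsLocalRing A''] (J : Ideal A)
    (hJ : J ≤ (IsLocalRing.maximalIdeal A'').map (algebraMap A'' A)) [IsLocalRing (A ⧸ J)] :
    IsLocalRing A := by
  set M : Ideal A := (IsLocalRing.maximalIdeal A'').map (algebraMap A'' A) with hM
  have hMne : M ≠ ⊤ := by
    intro h
    have h1 := Module.FaithfullyFlat.submodule_ne_top (R := A'') (M := A)
      (IsLocalRing.maximalIdeal.isMaximal A'')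
    apply h1
    rw [Ideal.smul_top_eq_map, ← hM, h]
    rfl
  haveI : Nontrivial (A ⧸ M) := Ideal.Quotient.nontrivial_iff.mpr hMne
  haveI : IsLocalRing (A ⧸ M) :=
    IsLocalRing.of_surjective' (Ideal.Quotient.factor hJ) (Ideal.Quotient.factor_surjective hJ)
  set P₀ : Ideal A := (IsLocalRing.maximalIdeal (A ⧸ M)).comap (Ideal.Quotient.mk M) with hP₀
  have hP₀max : P₀.IsMaximal :=
    Ideal.comap_isMaximal_of_surjective (Ideal.Quotient.mk M) Ideal.Quotient.mk_surjective
  refine IsLocalRing.of_unique_max_ideal ⟨P₀, hP₀max, ?_⟩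
  intro P hP
  haveI := hP
  have h1 : (P.comap (algebraMap A'' A)).IsMaximal :=
    Ideal.isMaximal_comap_of_isIntegral_of_isMaximal P
  have h2 : P.comap (algebraMap A'' A) = IsLocalRing.maximalIdeal A'' :=
    IsLocalRing.eq_maximalIdeal h1
  have h3 : M ≤ P := by
    rw [hM, Ideal.map_le_iff_le_comap, h2]
  have h4 : P.map (Ideal.Quotient.mk M) ≠ ⊤ := by
    intro h
    have h5 : (P.map (Ideal.Quotient.mk M)).comap (Ideal.Quotient.mk M) = P := by
      rw [Ideal.comap_map_of_surjective _ Ideal.Quotient.mk_surjective]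
      refine le_antisymm (sup_le le_rfl ?_) le_sup_left
      intro x hx
      rw [Ideal.mem_comap, Submodule.mem_bot, Ideal.Quotient.eq_zero_iff_mem] at hx
      exact h3 hx
    rw [h, Ideal.comap_top] at h5
    exact hP.ne_top h5.symm
  have h6 : P ≤ P₀ := by
    intro x hx
    rw [hP₀, Ideal.mem_comap]
    exact IsLocalRing.le_maximalIdeal h4 (Ideal.mem_map_of_mem _ hx)
  exact hP.eq_of_le hP₀max.ne_top h6

end localExt

end Groth.Agent.Helper2.HopfLib
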