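import Mathlib
import Groth.Agent.Lib.Helper2.Sep.Domain
import Groth.Agent.Lib.Helper2.Hopf.PointTranslate
set_option autoImplicit false
universe u

/-!
# Connected algebraic groups over an algebraically closed field are irreducible (helper2)
-/

open scoped TensorProduct
open WithConv

namespace Groth.Agent.Helper2.HopfLib

open Groth.Agent.Helper2.Sep

variable {k : Type u} [Field k] {A : Type u} [CommRing A] [HopfAlgebra k A]

/-- the inverse translation -/
lemma trP_comp_inv (χ : A →ₐ[k] k) :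
    (trP χ).comp (trP ((toConv χ)⁻¹).ofConv) = AlgHom.id k A := by
  rw [trP_comp, toConv_ofConv, inv_mul_cancel]
  exact trP_counit

/-- translation as an algebra automorphism -/
noncomputable def trEquiv (χ : A →ₐ[k] k) : A ≃ₐ[k] A :=
  AlgEquiv.ofAlgHom (trP χ) (trP ((toConv χ)⁻¹).ofConv) (trP_comp_inv χ) (trP_inv_comp χ)

@[simp] lemma trEquiv_apply (χ : A →ₐ[k] k) (a : A) : trEquiv χ a = trP χ a := rfl

/-- the kernel of a point is the translate of the augmentation ideal -/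
lemma ker_eq_comap_trP (χ : A →ₐ[k] k) :
    RingHom.ker χ = (RingHom.ker (Bialgebra.counitAlgHom k A)).comap (trP χ) := by
  ext a
  rw [Ideal.mem_comap, RingHom.mem_ker, RingHom.mem_ker]
  change χ a = 0 ↔ Coalgebra.counit (R := k) (trP χ a) = 0
  rw [counit_trP]

section unique

variable (𝔭 𝔮 : Ideal A)

/-- the product map of two closed subschemes, on coordinate rings -/
noncomputable def prodMap : A →ₐ[k] (A ⧸ 𝔭) ⊗[k] (A ⧸ 𝔮) :=
  (Algebra.TensorProduct.map (Ideal.Quotient.mkₐ k 𝔭) (Ideal.Quotient.mkₐ k 𝔮)).comp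
    (Bialgebra.comulAlgHom k A)

/-- if the unit lies in the second subscheme, the product contains the first -/
lemma ker_prodMap_le_left (hq : 𝔮 ≤ RingHom.ker (Bialgebra.counitAlgHom k A)) :
    RingHom.ker (prodMap (k := k) 𝔭 𝔮) ≤ 𝔭 := by
  let ε₂ : (A ⧸ 𝔮) →ₐ[k] k := Ideal.Quotient.liftₐ 𝔮 (Bialgebra.counitAlgHom k A) hq
  let ψ : (A ⧸ 𝔭) ⊗[k] (A ⧸ 𝔮) →ₐ[k] (A ⧸ 𝔭) :=
    Algebra.TensorProduct.lift (AlgHom.id k _) ((Algebra.ofId k (A ⧸ 𝔭)).comp ε₂)
      (fun _ _ => Commute.all _ _)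
  have key : ∀ t : A ⊗[k] A, ψ (Algebra.TensorProduct.map (Ideal.Quotient.mkₐ k 𝔭)
      (Ideal.Quotient.mkₐ k 𝔮) t) = Ideal.Quotient.mk 𝔭 (TensorProduct.rid k A
        (LinearMap.lTensor A (Coalgebra.counit (R := k) (A := A)) t)) := by
    intro t
    induction t using TensorProduct.induction_on with
    | zero => simp
    | tmul a b =>
      rw [Algebra.TensorProduct.map_tmul, Algebra.TensorProduct.lift_tmul, LinearMap.lTensor_tmul,
        TensorProduct.rid_tmul]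
      change Ideal.Quotient.mk 𝔭 a * algebraMap k (A ⧸ 𝔭) (Coalgebra.counit (R := k) b) = _
      rw [Algebra.smul_def, map_mul, mul_comm]
      rfl
    | add x y hx hy => simp only [map_add, hx, hy]
  intro a ha
  rw [RingHom.mem_ker] at ha
  have h1 : ψ (prodMap (k := k) 𝔭 𝔮 a) = 0 := by rw [ha, map_zero]
  unfold prodMap at h1
  rw [AlgHom.comp_apply] at h1
  change ψ (Algebra.TensorProduct.map _ _ (Coalgebra.comul (R := k) a)) = 0 at h1
  rw [key, Coalgebra.lTensor_counit_comul, TensorProduct.rid_tmul, one_smul] at h1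
  exact Ideal.Quotient.eq_zero_iff_mem.mp h1

lemma ker_prodMap_le_right (hp : 𝔭 ≤ RingHom.ker (Bialgebra.counitAlgHom k A)) :
    RingHom.ker (prodMap (k := k) 𝔭 𝔮) ≤ 𝔮 := by
  let ε₁ : (A ⧸ 𝔭) →ₐ[k] k := Ideal.Quotient.liftₐ 𝔭 (Bialgebra.counitAlgHom k A) hp
  let ψ : (A ⧸ 𝔭) ⊗[k] (A ⧸ 𝔮) →ₐ[k] (A ⧸ 𝔮) :=
    Algebra.TensorProduct.lift ((Algebra.ofId k (A ⧸ 𝔮)).comp ε₁) (AlgHom.id k _)
      (fun _ _ => Commute.all _ _)
  have key : ∀ t : A ⊗[k] A, ψ (Algebra.TensorProduct.map (Ideal.Quotient.mkₐ k 𝔭)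
      (Ideal.Quotient.mkₐ k 𝔮) t) = Ideal.Quotient.mk 𝔮 (TensorProduct.lid k A
        (LinearMap.rTensor A (Coalgebra.counit (R := k) (A := A)) t)) := by
    intro t
    induction t using TensorProduct.induction_on with
    | zero => simp
    | tmul a b =>
      rw [Algebra.TensorProduct.map_tmul, Algebra.TensorProduct.lift_tmul, LinearMap.rTensor_tmul,
        TensorProduct.lid_tmul]
      change algebraMap k (A ⧸ 𝔮) (Coalgebra.counit (R := k) a) * Ideal.Quotient.mk 𝔮 b = _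
      rw [Algebra.smul_def, map_mul]
      rfl
    | add x y hx hy => simp only [map_add, hx, hy]
  intro a ha
  rw [RingHom.mem_ker] at ha
  have h1 : ψ (prodMap (k := k) 𝔭 𝔮 a) = 0 := by rw [ha, map_zero]
  unfold prodMap at h1
  rw [AlgHom.comp_apply] at h1
  change ψ (Algebra.TensorProduct.map _ _ (Coalgebra.comul (R := k) a)) = 0 at h1
  rw [key, Coalgebra.rTensor_counit_comul, TensorProduct.lid_tmul, one_smul] at h1
  exact Ideal.Quotient.eq_zero_iff_mem.mp h1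

/-- **Only one irreducible component passes through the unit element.** -/
theorem minimalPrime_unique_of_le_aug [IsAlgClosed k] [Algebra.FiniteType k A]
    {𝔭 𝔮 : Ideal A} (h𝔭 : 𝔭 ∈ minimalPrimes A) (h𝔮 : 𝔮 ∈ minimalPrimes A)
    (hp : 𝔭 ≤ RingHom.ker (Bialgebra.counitAlgHom k A))
    (hq : 𝔮 ≤ RingHom.ker (Bialgebra.counitAlgHom k A)) : 𝔭 = 𝔮 := by
  haveI : 𝔭.IsPrime := h𝔭.1.1
  haveI : 𝔮.IsPrime := h𝔮.1.1
  haveI : Algebra.FiniteType k (A ⧸ 𝔭) :=
    Algebra.FiniteType.of_surjective (Ideal.Quotient.mkₐ k 𝔭) (Ideal.Quotient.mkₐ_surjective k 𝔭)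
  haveI : NoZeroDivisors ((A ⧸ 𝔭) ⊗[k] (A ⧸ 𝔮)) := noZeroDivisors_tensor
  have hle1 := ker_prodMap_le_left (k := k) 𝔭 𝔮 hq
  have hle2 := ker_prodMap_le_right (k := k) 𝔭 𝔮 hp
  have hprime : (RingHom.ker (prodMap (k := k) 𝔭 𝔮)).IsPrime := by
    refine ⟨?_, ?_⟩
    · intro h
      have : (1 : A) ∈ 𝔭 := hle1 (by rw [h]; trivial)
      exact (Ideal.ne_top_iff_one 𝔭).mp (Ideal.IsPrime.ne_top ‹_›) this
    · intro x y hxy
      rw [RingHom.mem_ker, map_mul] at hxy
      rcases mul_eq_zero.mp hxy with h | h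
      · left; exact h
      · right; exact h
  have h1 : 𝔭 ≤ RingHom.ker (prodMap (k := k) 𝔭 𝔮) := h𝔭.2 ⟨hprime, bot_le⟩ hle1
  have h2 : 𝔮 ≤ RingHom.ker (prodMap (k := k) 𝔭 𝔮) := h𝔮.2 ⟨hprime, bot_le⟩ hle2
  exact le_antisymm (h1.trans hle2) (h2.trans hle1)

end unique

section irreducible

lemma comap_mem_minimalPrimes (e : A ≃ₐ[k] A) {𝔭 : Ideal A} (h𝔭 : 𝔭 ∈ minimalPrimes A) :
    𝔭.comap (e : A →+* A) ∈ minimalPrimes A := by
  haveI : 𝔭.IsPrime := h𝔭.1.1
  refine ⟨⟨Ideal.comap_isPrime _ _, bot_le⟩, ?_⟩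
  rintro 𝔮 ⟨h𝔮, -⟩ hle
  haveI := h𝔮
  have h1 : 𝔮.comap (e.symm : A →+* A) ≤ 𝔭 := by
    intro a ha
    have := hle ha
    rw [Ideal.mem_comap] at this
    change e (e.symm a) ∈ 𝔭 at this
    rwa [AlgEquiv.apply_symm_apply] at this
  have h2 := h𝔭.2 ⟨Ideal.comap_isPrime (e.symm : A →+* A) 𝔮, bot_le⟩ h1
  intro a ha
  rw [Ideal.mem_comap] at ha
  have := h2 ha
  rw [Ideal.mem_comap] at this
  change e.symm (e a) ∈ 𝔮 at this
  rwa [AlgEquiv.symm_apply_apply] at this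

/-- two irreducible components through a common point coincide -/
theorem minimalPrime_unique_of_le_ker [IsAlgClosed k] [Algebra.FiniteType k A]
    {𝔭 𝔮 : Ideal A} (h𝔭 : 𝔭 ∈ minimalPrimes A) (h𝔮 : 𝔮 ∈ minimalPrimes A) (χ : A →ₐ[k] k)
    (hp : 𝔭 ≤ RingHom.ker χ) (hq : 𝔮 ≤ RingHom.ker χ) : 𝔭 = 𝔮 := by
  set e := trEquiv χ with he
  have key : ∀ 𝔯 : Ideal A, 𝔯 ≤ RingHom.ker χ →
      𝔯.comap (e.symm : A →+* A) ≤ RingHom.ker (Bialgebra.counitAlgHom k A) := by
    intro 𝔯 h a ha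
    rw [Ideal.mem_comap] at ha
    have h1 := h ha
    rw [ker_eq_comap_trP, Ideal.mem_comap] at h1
    change e (e.symm a) ∈ RingHom.ker (Bialgebra.counitAlgHom k A) at h1
    rwa [AlgEquiv.apply_symm_apply] at h1
  have h1 := minimalPrime_unique_of_le_aug (comap_mem_minimalPrimes e.symm h𝔭)
    (comap_mem_minimalPrimes e.symm h𝔮) (key 𝔭 hp) (key 𝔮 hq)
  ext a
  have h2 : e a ∈ 𝔭.comap (e.symm : A →+* A) ↔ e a ∈ 𝔮.comap (e.symm : A →+* A) := by rw [h1]
  rw [Ideal.mem_comap, Ideal.mem_comap] at h2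
  change e.symm (e a) ∈ 𝔭 ↔ e.symm (e a) ∈ 𝔮 at h2
  rwa [AlgEquiv.symm_apply_apply] at h2

/-- **A connected algebraic group over an algebraically closed field is irreducible**: the
nilradical of its coordinate ring is prime. -/
theorem nilradical_isPrime_of_conn [IsAlgClosed k] [Algebra.FiniteType k A]
    (hconn : ∀ e : A, IsIdempotentElem e → e = 0 ∨ e = 1) : (nilradical A).IsPrime := by
  classical
  haveI : IsNoetherianRing A := Algebra.FiniteType.isNoetherianRing k A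
  haveI : Nontrivial A := by
    refine ⟨⟨0, 1, ?_⟩⟩
    intro h
    have := congrArg (Bialgebra.counitAlgHom k A) h
    rw [map_zero, map_one] at this
    exact zero_ne_one this
  have hfin : (minimalPrimes A).Finite := minimalPrimes.finite_of_isNoetherianRing A
  obtain ⟨𝔭, h𝔭⟩ : (minimalPrimes A).Nonempty := by
    obtain ⟨𝔪, h𝔪⟩ := Ideal.exists_maximal A
    obtain ⟨𝔭, h𝔭, -⟩ := Ideal.exists_minimalPrimes_le (I := ⊥) (J := 𝔪) bot_le
    exact ⟨𝔭, h𝔭⟩
  haveI : 𝔭.IsPrime := h𝔭.1.1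
  set s : Finset (Ideal A) := hfin.toFinset.erase 𝔭 with hs
  set 𝔞 : Ideal A := ⨅ 𝔮 ∈ s, 𝔮 with h𝔞
  have hcop : 𝔭 ⊔ 𝔞 = ⊤ := by
    apply Ideal.sup_iInf_eq_top
    intro 𝔮 h𝔮
    rw [hs, Finset.mem_erase, Set.Finite.mem_toFinset] at h𝔮
    by_contra hne
    obtain ⟨M, hM, hle⟩ := Ideal.exists_le_maximal _ hne
    haveI := hM
    obtain ⟨χ, hχ⟩ := Groth.Agent.Helper2.Sep.exists_algHom_ker_eq (k := k) M
    apply h𝔮.1
    exact (minimalPrime_unique_of_le_ker h𝔭 h𝔮.2 χ (by rw [hχ]; exact le_sup_left.trans hle)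
      (by rw [hχ]; exact le_sup_right.trans hle)).symm
  have hinf : 𝔭 ⊓ 𝔞 ≤ nilradical A := by
    intro x hx
    rw [nilradical, ← Ideal.sInf_minimalPrimes, Ideal.mem_sInf]
    intro 𝔮 h𝔮
    by_cases hq : 𝔮 = 𝔭
    · rw [hq]; exact (Submodule.mem_inf.mp hx).1
    · have h2 : 𝔮 ∈ s := by
        rw [hs, Finset.mem_erase, Set.Finite.mem_toFinset]
        exact ⟨hq, h𝔮⟩
      have h3 : x ∈ 𝔞 := (Submodule.mem_inf.mp hx).2
      rw [h𝔞, Ideal.mem_iInf] at h3
      have h4 := h3 𝔮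
      rw [Ideal.mem_iInf] at h4
      exact h4 h2
  obtain ⟨a, ha, b, hb, hab⟩ : ∃ a ∈ 𝔭, ∃ b ∈ 𝔞, a + b = 1 := by
    have : (1 : A) ∈ 𝔭 ⊔ 𝔞 := by rw [hcop]; trivial
    exact Submodule.mem_sup.mp this
  have hnil : IsNilpotent (a * b) := by
    rw [← mem_nilradical]
    exact hinf ⟨Ideal.mul_mem_right _ _ ha, Ideal.mul_mem_left _ _ hb⟩
  obtain ⟨N, hN⟩ := hnil
  have hcop' : IsCoprime (a ^ (N + 1)) (b ^ (N + 1)) :=
    IsCoprime.pow ⟨1, 1, by rw [one_mul, one_mul, hab]⟩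
  obtain ⟨u, w, huw⟩ := hcop'
  set p := u * a ^ (N + 1) with hp
  set q := w * b ^ (N + 1) with hq
  have hpq0 : p * q = 0 := by
    rw [hp, hq]
    calc u * a ^ (N + 1) * (w * b ^ (N + 1)) = u * w * ((a * b) ^ N * (a * b)) := by ring
      _ = 0 := by rw [hN, zero_mul, mul_zero]
  have hpid : IsIdempotentElem p := by
    show p * p = p
    have : p * p = p * (p + q) - p * q := by ring
    rw [this, huw, hpq0, mul_one, sub_zero]
  have hp𝔭 : p ∈ 𝔭 := by
    rw [hp]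
    apply Ideal.mul_mem_left
    rw [pow_succ]
    exact Ideal.mul_mem_left _ _ ha
  have hq𝔞 : q ∈ 𝔞 := by
    rw [hq]
    apply Ideal.mul_mem_left
    rw [pow_succ]
    exact Ideal.mul_mem_left _ _ hb
  rcases hconn p hpid with h0 | h1
  · -- there is no other minimal prime
    have hq1 : q = 1 := by rw [← huw, h0, zero_add]
    have hs_empty : ∀ 𝔮 ∈ minimalPrimes A, 𝔮 = 𝔭 := by
      intro 𝔮 h𝔮
      by_contra hne
      have h2 : 𝔮 ∈ s := by
        rw [hs, Finset.mem_erase, Set.Finite.mem_toFinset]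
        exact ⟨hne, h𝔮⟩
      have h3 : (1 : A) ∈ 𝔮 := by
        have h4 := hq𝔞
        rw [hq1, h𝔞, Ideal.mem_iInf] at h4
        have h5 := h4 𝔮
        rw [Ideal.mem_iInf] at h5
        exact h5 h2
      haveI : 𝔮.IsPrime := h𝔮.1.1
      exact (Ideal.ne_top_iff_one 𝔮).mp (Ideal.IsPrime.ne_top ‹_›) h3
    have hnil : nilradical A = 𝔭 := by
      rw [nilradical, ← Ideal.sInf_minimalPrimes]
      apply le_antisymm
      · exact sInf_le h𝔭
      · apply le_sInf
        intro 𝔮 h𝔮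
        rw [hs_empty 𝔮 h𝔮]
    rw [hnil]
    infer_instance
  · exfalso
    rw [h1] at hp𝔭
    exact (Ideal.ne_top_iff_one 𝔭).mp (Ideal.IsPrime.ne_top ‹_›) hp𝔭

end irreducible

section ass

lemma isAssociatedPrime_comap [IsNoetherianRing A] (e : A ≃ₐ[k] A) {P : Ideal A}
    (hP : IsAssociatedPrime P A) : IsAssociatedPrime (P.comap (e : A →+* A)) A := by
  rw [isAssociatedPrime_iff] at hP ⊢
  obtain ⟨hprime, y, hy⟩ := hP
  haveI := hprime
  refine ⟨Ideal.comap_isPrime _ _, e.symm y, ?_⟩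
  ext a
  rw [Ideal.mem_comap, hy, Submodule.mem_colon_singleton, Submodule.mem_colon_singleton,
    Submodule.mem_bot, Submodule.mem_bot, smul_eq_mul, smul_eq_mul]
  change e a * y = 0 ↔ _
  constructor
  · intro h
    have := congrArg e.symm h
    rw [map_mul, AlgEquiv.symm_apply_apply, map_zero] at this
    exact this
  · intro h
    have := congrArg e h
    rw [map_mul, AlgEquiv.apply_symm_apply, map_zero] at this
    exact this

/-- in a connected algebraic group over an algebraically closed field, every associated prime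
of the coordinate ring is contained in the nilradical -/
theorem associatedPrime_le_nilradical [IsAlgClosed k] [Algebra.FiniteType k A]
    (hconn : ∀ e : A, IsIdempotentElem e → e = 0 ∨ e = 1) {P : Ideal A}
    (hP : IsAssociatedPrime P A) : P ≤ nilradical A := by
  classical
  haveI : IsNoetherianRing A := Algebra.FiniteType.isNoetherianRing k A
  haveI hnp : (nilradical A).IsPrime := nilradical_isPrime_of_conn (k := k) hconn
  haveI : P.IsPrime := hP.isPrime
  have hfin : (associatedPrimes A A).Finite := associatedPrimes.finite A A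
  set O : Finset (Ideal A) := hfin.toFinset.filter
    (fun 𝔮 => ∃ φ : A →ₐ[k] k, 𝔮 = P.comap ((trEquiv φ : A ≃ₐ[k] A) : A →+* A)) with hO
  -- a point through `P`
  obtain ⟨M₀, hM₀, hPM₀⟩ := Ideal.exists_le_maximal P (Ideal.IsPrime.ne_top ‹_›)
  haveI := hM₀
  obtain ⟨χ₀, hχ₀⟩ := Groth.Agent.Helper2.Sep.exists_algHom_ker_eq (k := k) M₀
  -- every point lies on a translate of `P`
  have hcover : ∀ χ : A →ₐ[k] k, ∃ 𝔮 ∈ O, 𝔮 ≤ RingHom.ker χ := by
    intro χ
    set φ : A →ₐ[k] k := (toConv χ * (toConv χ₀)⁻¹).ofConv with hφ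
    refine ⟨P.comap ((trEquiv φ : A ≃ₐ[k] A) : A →+* A), ?_, ?_⟩
    · rw [hO, Finset.mem_filter, Set.Finite.mem_toFinset]
      exact ⟨isAssociatedPrime_comap (trEquiv φ) hP, φ, rfl⟩
    · intro a ha
      rw [Ideal.mem_comap] at ha
      have h1 : trP φ a ∈ RingHom.ker χ₀ := by rw [hχ₀]; exact hPM₀ ha
      rw [RingHom.mem_ker] at h1 ⊢
      have h2 : χ₀.comp (trP φ) = χ := by
        rw [comp_trP, hφ, toConv_ofConv, inv_mul_cancel_right, ofConv_toConv]
      rw [← h2]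
      exact h1
  -- the product of the translates is nilpotent
  have hprod : ∏ 𝔮 ∈ O, 𝔮 ≤ nilradical A := by
    intro z hz
    rw [mem_nilradical]
    apply Groth.Agent.Helper2.Sep.isNilpotent_of_forall_algHom (k := k)
    intro χ
    obtain ⟨𝔮, h𝔮, hle⟩ := hcover χ
    have h1 : ∏ 𝔮 ∈ O, 𝔮 ≤ 𝔮 := Ideal.prod_le_inf.trans (Finset.inf_le h𝔮)
    exact hle (h1 hz)
  obtain ⟨𝔮, h𝔮, hle⟩ := (Ideal.IsPrime.prod_le hnp).mp hprod
  rw [hO, Finset.mem_filter] at h𝔮
  obtain ⟨-, φ, rfl⟩ := h𝔮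
  intro a ha
  have h1 : (trEquiv φ).symm a ∈ P.comap ((trEquiv φ : A ≃ₐ[k] A) : A →+* A) := by
    rw [Ideal.mem_comap]
    change trEquiv φ ((trEquiv φ).symm a) ∈ P
    rwa [AlgEquiv.apply_symm_apply]
  have h2 := hle h1
  rw [mem_nilradical] at h2 ⊢
  have h3 := h2.map (trEquiv φ)
  rwa [AlgEquiv.apply_symm_apply] at h3

/-- **Krull intersection for a connected algebraic group**: the powers of the augmentation ideal
intersect in zero. -/
theorem iInf_pow_aug_eq_bot [IsAlgClosed k] [Algebra.FiniteType k A]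
    (hconn : ∀ e : A, IsIdempotentElem e → e = 0 ∨ e = 1) :
    (⨅ n : ℕ, RingHom.ker (Bialgebra.counitAlgHom k A) ^ n) = ⊥ := by
  haveI : IsNoetherianRing A := Algebra.FiniteType.isNoetherianRing k A
  rw [eq_bot_iff]
  intro x hx
  rw [Submodule.mem_bot]
  by_contra hne
  have hx' : x ∈ (⨅ i : ℕ, RingHom.ker (Bialgebra.counitAlgHom k A) ^ i • ⊤ : Submodule A A) := by
    rw [Submodule.mem_iInf] at hx ⊢
    intro i
    have := hx i
    rw [smul_eq_mul, Ideal.mul_top]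
    exact this
  obtain ⟨r, hr⟩ := (Ideal.mem_iInf_smul_pow_eq_bot_iff _ x).mp hx'
  obtain ⟨P, hP, hle⟩ := exists_le_isAssociatedPrime_of_isNoetherianRing A x hne
  have h1 : (1 - (r : A)) ∈ (⊥ : Submodule A A).colon {x} := by
    rw [Submodule.mem_colon_singleton, Submodule.mem_bot, sub_smul, one_smul, hr, sub_self]
  have h2 : (1 - (r : A)) ∈ nilradical A :=
    associatedPrime_le_nilradical (k := k) hconn hP (hle h1)
  rw [mem_nilradical] at h2
  have h3 := h2.map (Bialgebra.counitAlgHom k A)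
  have hr0 : Bialgebra.counitAlgHom k A (r : A) = 0 := r.2
  rw [map_sub, map_one, hr0, sub_zero] at h3
  obtain ⟨n, hn⟩ := h3
  rw [one_pow] at hn
  exact one_ne_zero hn

end ass

end Groth.Agent.Helper2.HopfLib
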