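import Groth.Agent.Lib.Helper2.Hopf.HeightOne

/-!
# The kernel of Frobenius of an affine group scheme in characteristic `p` (helper2)
-/

set_option autoImplicit false
open MvPolynomial
open scoped TensorProduct

namespace Groth.Agent.Helper2.HopfLib

section frob

variable {k : Type*} [Field k] {A : Type*} [CommRing A] [HopfAlgebra k A]

variable (k A) in
/-- the ideal generated by the `p`-th powers of the augmentation ideal -/
noncomputable def frobI (p : ℕ) : Ideal A :=
  Ideal.span ((fun a : A => a ^ p) '' (augI k A : Set A))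

/-- in a ring where `p = 0`, the elements with vanishing `p`-th power are closed under addition -/
lemma add_pow_prime_eq_zero {S : Type*} [CommRing S] {p : ℕ} (hp : p.Prime) (hS : (p : S) = 0)
    {x y : S} (hx : x ^ p = 0) (hy : y ^ p = 0) : (x + y) ^ p = 0 := by
  obtain ⟨r, hr⟩ := exists_add_pow_prime_eq hp x y
  rw [hr, hx, hy, hS]
  ring

/-- the projection onto the augmentation ideal -/
noncomputable def augPr : A →ₗ[k] A :=
  LinearMap.id - (Algebra.linearMap k A) ∘ₗ (Coalgebra.counit (R := k) (A := A))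

lemma augPr_apply (a : A) :
    augPr (k := k) a = a - algebraMap k A (Coalgebra.counit (R := k) a) := rfl

lemma augPr_mem (a : A) : augPr (k := k) a ∈ augI k A := sub_counit_mem a

/-- the reduced comultiplication -/
lemma comul_eq_of_mem_augI {a : A} (ha : a ∈ augI k A) :
    Coalgebra.comul (R := k) a = a ⊗ₜ[k] 1 + 1 ⊗ₜ[k] a +
      TensorProduct.map (augPr (k := k)) (augPr (k := k)) (Coalgebra.comul (R := k) a) := by
  have key : ∀ u : A ⊗[k] A, TensorProduct.map (augPr (k := k)) (augPr (k := k)) u =
      u - (TensorProduct.rid k A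
          (LinearMap.lTensor A (Coalgebra.counit (R := k) (A := A)) u)) ⊗ₜ[k] (1 : A)
        - (1 : A) ⊗ₜ[k] (TensorProduct.lid k A
          (LinearMap.rTensor A (Coalgebra.counit (R := k) (A := A)) u))
        + algebraMap k (A ⊗[k] A) (Coalgebra.counit (R := k)
            (TensorProduct.rid k A
              (LinearMap.lTensor A (Coalgebra.counit (R := k) (A := A)) u))) := by
    intro u
    induction u using TensorProduct.induction_on with
    | zero => simp only [map_zero, TensorProduct.zero_tmul, TensorProduct.tmul_zero, sub_zero,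
        add_zero]
    | tmul a b =>
      rw [TensorProduct.map_tmul, augPr_apply, augPr_apply, LinearMap.lTensor_tmul,
        LinearMap.rTensor_tmul, TensorProduct.rid_tmul, TensorProduct.lid_tmul,
        TensorProduct.sub_tmul, TensorProduct.tmul_sub, TensorProduct.tmul_sub, map_smul,
        smul_eq_mul, Algebra.TensorProduct.algebraMap_apply, Algebra.algebraMap_eq_smul_one,
        Algebra.algebraMap_eq_smul_one, Algebra.algebraMap_eq_smul_one (A := A)]
      simp only [TensorProduct.tmul_smul, ← TensorProduct.smul_tmul', smul_smul]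
      rw [mul_comm (Coalgebra.counit (R := k) b) (Coalgebra.counit (R := k) a)]
      abel
    | add y z hy hz =>
      simp only [map_add, hy, hz, TensorProduct.add_tmul, TensorProduct.tmul_add]
      abel
  have h1 := key (Coalgebra.comul (R := k) a)
  rw [Coalgebra.lTensor_counit_comul, Coalgebra.rTensor_counit_comul, TensorProduct.rid_tmul,
    TensorProduct.lid_tmul, one_smul, (mem_augI_iff a).mp ha, map_zero, add_zero] at h1
  rw [h1]
  abel

variable (p : ℕ) [hp : Fact p.Prime] [CharP k p]

omit hp [HopfAlgebra k A] in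
lemma natCast_eq_zero_of_charP [Algebra k A] : (p : A) = 0 := by
  have := congrArg (algebraMap k A) (CharP.cast_eq_zero k p)
  rwa [map_natCast, map_zero] at this

omit hp [CharP k p] in
lemma pow_mem_frobI {a : A} (ha : a ∈ augI k A) : a ^ p ∈ frobI k A p :=
  Ideal.subset_span ⟨a, ha, rfl⟩

omit [CharP k p] in
lemma frobI_le_augI_sq : frobI k A p ≤ (augI k A) ^ 2 := by
  unfold frobI
  rw [Ideal.span_le]
  rintro _ ⟨a, ha, rfl⟩
  exact Ideal.pow_le_pow_right hp.out.two_le (Ideal.pow_mem_pow ha p)

omit [CharP k p] in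
lemma frobI_le_augI : frobI k A p ≤ augI k A :=
  (frobI_le_augI_sq p).trans (Ideal.pow_le_self two_ne_zero)

/-- the ideal generated by the `p`-th powers of the augmentation ideal is a Hopf ideal -/
theorem isHopfIdeal_frobI : (frobI k A p).IsHopfIdeal k := by
  have h1 : frobI k A p ≤ RingHom.ker (Bialgebra.counitAlgHom k A) := frobI_le_augI p
  have h2 : frobI k A p ≤ Ideal.comap (HopfAlgebra.antipodeAlgHom k A) (frobI k A p) := by
    unfold frobI
    rw [Ideal.span_le]
    rintro _ ⟨a, ha, rfl⟩
    rw [SetLike.mem_coe, Ideal.mem_comap, map_pow]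
    refine Ideal.subset_span ⟨_, ?_, rfl⟩
    rw [SetLike.mem_coe, mem_augI_iff]
    show Coalgebra.counit (R := k) (HopfAlgebra.antipode k a) = 0
    rw [HopfAlgebra.counit_antipode]
    exact (mem_augI_iff a).mp ha
  have hp0 : (p : (A ⧸ frobI k A p) ⊗[k] (A ⧸ frobI k A p)) = 0 :=
    natCast_eq_zero_of_charP (k := k) p
  have hmk : ∀ a : A, a ∈ augI k A →
      (Ideal.Quotient.mkₐ k (frobI k A p) a) ^ p = 0 := by
    intro a ha
    rw [← map_pow]
    exact Ideal.Quotient.eq_zero_iff_mem.mpr (pow_mem_frobI p ha)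
  have h3a : ∀ u : A ⊗[k] A, ((Algebra.TensorProduct.map (Ideal.Quotient.mkₐ k (frobI k A p))
      (Ideal.Quotient.mkₐ k (frobI k A p)))
        (TensorProduct.map (augPr (k := k)) (augPr (k := k)) u)) ^ p = 0 := by
    intro u
    induction u using TensorProduct.induction_on with
    | zero => rw [map_zero, map_zero, zero_pow hp.out.ne_zero]
    | tmul a b =>
      rw [TensorProduct.map_tmul, Algebra.TensorProduct.map_tmul,
        Algebra.TensorProduct.tmul_pow, hmk _ (augPr_mem a), TensorProduct.zero_tmul]
    | add y z hy hz =>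
      rw [map_add, map_add]
      exact add_pow_prime_eq_zero hp.out hp0 hy hz
  have h3 : frobI k A p ≤ RingHom.ker
      ((Algebra.TensorProduct.map (Ideal.Quotient.mkₐ k (frobI k A p))
        (Ideal.Quotient.mkₐ k (frobI k A p))).comp (Bialgebra.comulAlgHom k A)) := by
    conv_lhs => unfold frobI
    rw [Ideal.span_le]
    rintro _ ⟨a, ha, rfl⟩
    rw [SetLike.mem_coe, RingHom.mem_ker, map_pow, AlgHom.comp_apply]
    show ((Algebra.TensorProduct.map (Ideal.Quotient.mkₐ k (frobI k A p))
      (Ideal.Quotient.mkₐ k (frobI k A p))) (Coalgebra.comul (R := k) a)) ^ p = 0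
    rw [comul_eq_of_mem_augI ha, map_add, map_add]
    refine add_pow_prime_eq_zero hp.out hp0 (add_pow_prime_eq_zero hp.out hp0 ?_ ?_) (h3a _)
    · rw [Algebra.TensorProduct.map_tmul, Algebra.TensorProduct.tmul_pow, hmk a ha,
        TensorProduct.zero_tmul]
    · rw [Algebra.TensorProduct.map_tmul, Algebra.TensorProduct.tmul_pow, hmk a ha,
        TensorProduct.tmul_zero]
  refine { counit_eq_zero := ?_, map_mkQ_comul_eq_zero := ?_, antipode_mem := ?_ }
  · intro x hx
    exact h1 hx
  · intro x hx
    exact RingHom.mem_ker.mp (h3 hx)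
  · intro x hx
    exact h2 hx

omit hp [CharP k p] in
/-- the quotient by a Hopf ideal containing the `p`-th powers has height at most one -/
lemma heightOne_quotient (J : Ideal A) [J.IsHopfIdeal k] (hJ : ∀ a ∈ augI k A, a ^ p ∈ J)
    (f : A ⧸ J) (hf : Coalgebra.counit (R := k) f = 0) : f ^ p = 0 := by
  obtain ⟨a, rfl⟩ := Ideal.Quotient.mk_surjective f
  rw [Bialgebra.Quotient.counit_mk] at hf
  rw [← map_pow]
  exact Ideal.Quotient.eq_zero_iff_mem.mpr (hJ a ((mem_augI_iff a).mpr hf))

omit hp [CharP k p] in
/-- the cotangent space does not change modulo a Hopf ideal inside the square of the augmentation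
ideal -/
lemma finrank_cotangent_quotient (J : Ideal A) [J.IsHopfIdeal k] (hJ2 : J ≤ (augI k A) ^ 2) :
    Module.finrank k (augI k (A ⧸ J)).Cotangent = Module.finrank k (augI k A).Cotangent := by
  have hle : augI k A ≤ Ideal.comap (Ideal.Quotient.mkₐ k J) (augI k (A ⧸ J)) := by
    intro a ha
    rw [Ideal.mem_comap, mem_augI_iff]
    show Coalgebra.counit (R := k) (Ideal.Quotient.mk J a) = 0
    rw [Bialgebra.Quotient.counit_mk]
    exact (mem_augI_iff a).mp ha
  have hmap : augI k (A ⧸ J) = Ideal.map (Ideal.Quotient.mk J) (augI k A) := by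
    apply le_antisymm
    · intro f hf
      obtain ⟨a, rfl⟩ := Ideal.Quotient.mk_surjective f
      rw [mem_augI_iff, Bialgebra.Quotient.counit_mk] at hf
      exact Ideal.mem_map_of_mem _ ((mem_augI_iff a).mpr hf)
    · rw [Ideal.map_le_iff_le_comap]
      exact hle
  let F := Ideal.mapCotangent (augI k A) (augI k (A ⧸ J)) (Ideal.Quotient.mkₐ k J) hle
  have hinj : Function.Injective F := by
    rw [injective_iff_map_eq_zero]
    intro y hy
    obtain ⟨⟨a, ha⟩, rfl⟩ := (augI k A).toCotangent_surjective y
    rw [Ideal.mapCotangent_toCotangent, Ideal.toCotangent_eq_zero] at hy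
    rw [Ideal.toCotangent_eq_zero]
    have hy' : Ideal.Quotient.mk J a ∈ Ideal.map (Ideal.Quotient.mk J) ((augI k A) ^ 2) := by
      rw [Ideal.map_pow, ← hmap]
      exact hy
    rw [Ideal.mem_map_iff_of_surjective _ Ideal.Quotient.mk_surjective] at hy'
    obtain ⟨c, hc, hca⟩ := hy'
    have h1 : a - c ∈ J := by
      rw [← Ideal.Quotient.eq_zero_iff_mem, map_sub, hca, sub_self]
    have h2 : a = (a - c) + c := by ring
    show a ∈ (augI k A) ^ 2
    rw [h2]
    exact Ideal.add_mem _ (hJ2 h1) hc
  have hsurj : Function.Surjective F := by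
    intro y
    obtain ⟨⟨f, hf⟩, rfl⟩ := (augI k (A ⧸ J)).toCotangent_surjective y
    obtain ⟨a, rfl⟩ := Ideal.Quotient.mk_surjective f
    have ha : a ∈ augI k A := by
      rw [mem_augI_iff, Bialgebra.Quotient.counit_mk] at hf
      exact (mem_augI_iff a).mpr hf
    exact ⟨(augI k A).toCotangent ⟨a, ha⟩, rfl⟩
  exact (LinearEquiv.finrank_eq (LinearEquiv.ofBijective F ⟨hinj, hsurj⟩)).symm

/-- the kernel of Frobenius of a finite group scheme is a truncated polynomial algebra -/
theorem nonempty_algEquiv_frobKernel [Module.Finite k A] (d : ℕ)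
    (hd : Module.finrank k (augI k A).Cotangent = d) :
    Nonempty ((A ⧸ frobI k A p) ≃ₐ[k] (MvPolynomial (Fin d) k ⧸
      Ideal.span (Set.range fun i : Fin d => (X i : MvPolynomial (Fin d) k) ^ p))) := by
  haveI := isHopfIdeal_frobI (k := k) (A := A) p
  refine nonempty_algEquiv_heightOne (k := k) (H := A ⧸ frobI k A p) p
    (heightOne_quotient p (frobI k A p) (fun a ha => pow_mem_frobI p ha)) d ?_
  rw [finrank_cotangent_quotient (frobI k A p) (frobI_le_augI_sq p), hd]

end frob

end Groth.Agent.Helper2.HopfLib
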