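import Mathlib
import Groth.Agent.Lib.Helper2.Hopf.EtalePoints
import Groth.Agent.Lib.Helper2.Hopf.BialgTransport

/-!
# Subgroups give Hopf ideals of the function algebra; simple étale groups have prime order
(helper2)
-/

set_option autoImplicit false
open scoped TensorProduct
open WithConv

namespace Groth.Agent.Helper2.HopfLib

universe u v

section constsub

variable (R : Type u) [CommRing R] {G : Type v} [Group G] [Fintype G] [DecidableEq G]
  (H : Subgroup G)

/-- functions vanishing on a subgroup -/
def vanishIdeal : Ideal (ConstGrp.F R G) where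
  carrier := {f | ∀ h ∈ H, f h = 0}
  add_mem' := by
    intro f g hf hg h hh
    rw [ConstGrp.add_apply, hf h hh, hg h hh, add_zero]
  zero_mem' := fun _ _ => rfl
  smul_mem' := by
    intro c f hf h hh
    rw [smul_eq_mul, ConstGrp.mul_apply, hf h hh, mul_zero]

lemma mem_vanishIdeal (f : ConstGrp.F R G) : f ∈ vanishIdeal R H ↔ ∀ h ∈ H, f h = 0 := Iff.rfl

lemma e_mem_vanishIdeal {a : G} (ha : a ∉ H) : ConstGrp.e R a ∈ vanishIdeal R H := by
  intro h hh
  rw [ConstGrp.e_apply, if_neg]
  intro hha
  exact ha (hha ▸ hh)

instance isHopfIdeal_vanishIdeal : (vanishIdeal R H).IsHopfIdeal R := by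
  refine { counit_eq_zero := ?_, map_mkQ_comul_eq_zero := ?_, antipode_mem := ?_ }
  · intro f hf
    rw [ConstGrp.counit_apply]
    exact hf 1 H.one_mem
  · intro f hf
    rw [ConstGrp.comul_eq_sum, map_sum]
    refine Finset.sum_eq_zero fun a _ => ?_
    rw [map_sum]
    refine Finset.sum_eq_zero fun b _ => ?_
    rw [map_smul, TensorProduct.map_tmul]
    by_cases ha : a ∈ H
    · by_cases hb : b ∈ H
      · rw [hf (a * b) (H.mul_mem ha hb), zero_smul]
      · have : ((vanishIdeal R H).restrictScalars R).mkQ (ConstGrp.e R b) = 0 := by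
          rw [Submodule.mkQ_apply, Submodule.Quotient.mk_eq_zero]
          exact e_mem_vanishIdeal R H hb
        rw [this, TensorProduct.tmul_zero, smul_zero]
    · have : ((vanishIdeal R H).restrictScalars R).mkQ (ConstGrp.e R a) = 0 := by
        rw [Submodule.mkQ_apply, Submodule.Quotient.mk_eq_zero]
        exact e_mem_vanishIdeal R H ha
      rw [this, TensorProduct.zero_tmul, smul_zero]
  · intro f hf h hh
    rw [ConstGrp.antipode_apply]
    exact hf h⁻¹ (H.inv_mem hh)

lemma vanishIdeal_eq_bot_iff [Nontrivial R] : vanishIdeal R H = ⊥ ↔ H = ⊤ := by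
  constructor
  · intro h
    rw [eq_top_iff]
    intro a _
    by_contra ha
    have h1 := e_mem_vanishIdeal R H ha
    rw [h, Ideal.mem_bot] at h1
    have h2 := congrFun h1 a
    rw [ConstGrp.e_apply_self] at h2
    exact one_ne_zero h2
  · intro h
    rw [eq_bot_iff]
    intro f hf
    rw [Ideal.mem_bot]
    funext g
    exact hf g (h ▸ Subgroup.mem_top g)

lemma vanishIdeal_eq_aug_iff [Nontrivial R] :
    vanishIdeal R H = RingHom.ker (Bialgebra.counitAlgHom R (ConstGrp.F R G)) ↔ H = ⊥ := by
  constructor
  · intro h
    rw [eq_bot_iff]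
    intro a ha
    rw [Subgroup.mem_bot]
    by_contra hne
    have h1 : ConstGrp.e R a ∈ RingHom.ker (Bialgebra.counitAlgHom R (ConstGrp.F R G)) := by
      rw [RingHom.mem_ker]
      show Coalgebra.counit (R := R) (ConstGrp.e R a) = 0
      rw [ConstGrp.counit_e, if_neg (fun h' => hne h'.symm)]
    rw [← h] at h1
    have h2 := h1 a ha
    rw [ConstGrp.e_apply_self] at h2
    exact one_ne_zero h2
  · intro h
    ext f
    rw [RingHom.mem_ker, mem_vanishIdeal, h]
    show _ ↔ f 1 = 0
    constructor
    · intro hf
      exact hf 1 (Subgroup.mem_bot.mpr rfl)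
    · intro hf g hg
      rw [Subgroup.mem_bot.mp hg]
      exact hf

end constsub

section simple

variable (k : Type u) [Field k] [IsAlgClosed k] (A : Type v) [CommRing A] [HopfAlgebra k A]
  [Coalgebra.IsCocomm k A] [Module.Finite k A] [IsReduced A]

lemma card_Pts : Nat.card (Pts k A) = Module.finrank k A :=
  (Nat.card_congr (WithConv.equiv _)).trans card_pts

open Classical in
theorem prime_of_simple_etale (hA : 1 < Module.finrank k A)
    (hsimple : ∀ I : Ideal A, I.IsHopfIdeal k →
      I = ⊥ ∨ I = RingHom.ker (Bialgebra.counitAlgHom k A)) :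
    (Module.finrank k A).Prime := by
  have hcard := card_Pts k A
  haveI : Nontrivial (Pts k A) := by
    rw [← Finite.one_lt_card_iff_nontrivial, hcard]
    exact hA
  have hsurj : Function.Surjective (thetaEquiv (k := k) (A := A)) :=
    (thetaEquiv (k := k) (A := A)).surjective
  have hinj : Function.Injective (thetaEquiv (k := k) (A := A)) :=
    (thetaEquiv (k := k) (A := A)).injective
  haveI : IsSimpleGroup (Pts k A) := by
    refine ⟨fun H _ => ?_⟩
    rcases hsimple _ (isHopfIdeal_comap (thetaEquiv (k := k) (A := A)) (vanishIdeal k H)) with h | h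
    · right
      rw [← vanishIdeal_eq_bot_iff k H]
      apply Ideal.comap_injective_of_surjective _ hsurj
      rw [h]
      exact (Ideal.comap_bot_of_injective _ hinj).symm
    · left
      rw [← vanishIdeal_eq_aug_iff k H]
      apply Ideal.comap_injective_of_surjective _ hsurj
      rw [h]
      ext a
      rw [RingHom.mem_ker, Ideal.mem_comap, RingHom.mem_ker]
      show Coalgebra.counit (R := k) a = 0 ↔
        Coalgebra.counit (R := k) (thetaEquiv (k := k) (A := A) a) = 0
      rw [CoalgHomClass.counit_comp_apply]
  have := IsSimpleGroup.prime_card (α := Pts k A)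
  rw [hcard] at this
  exact this

end simple

end Groth.Agent.Helper2.HopfLib
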