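import Mathlib

/-!
# Hopf ideals of the generic fibre of a finite flat Hopf algebra over a Dedekind domain (helper2)
-/

set_option autoImplicit false
open scoped TensorProduct

namespace Groth.Agent.Helper2.HopfLib

universe u

section generic

variable {R : Type u} [CommRing R] {K : Type u} [Field K] [Algebra R K]
  {A : Type u} [CommRing A] [HopfAlgebra R A]

variable (R K A) in
/-- the inclusion `A → K ⊗ A` -/
noncomputable abbrev incR : A →ₐ[R] K ⊗[R] A := Algebra.TensorProduct.includeRight

/-- comultiplication of `1 ⊗ a` in the base change -/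
lemma comul_incR (a : A) :
    Coalgebra.comul (R := K) (incR R K A a) =
      TensorProduct.mapOfCompatibleSMul K R R (K ⊗[R] A) (K ⊗[R] A)
        (TensorProduct.map (incR R K A).toLinearMap (incR R K A).toLinearMap
          (Coalgebra.comul (R := R) a)) := by
  show Coalgebra.comul (R := K) ((1 : K) ⊗ₜ[R] a) = _
  rw [TensorProduct.comul_tmul]
  have h1 : Coalgebra.comul (R := K) (1 : K) = (1 : K) ⊗ₜ[K] (1 : K) := rfl
  rw [h1]
  generalize Coalgebra.comul (R := R) a = y
  induction y using TensorProduct.induction_on with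
  | zero => simp
  | tmul a₁ a₂ => rfl
  | add y z hy hz => rw [TensorProduct.tmul_add, map_add, hy, hz, map_add, map_add]

lemma counit_incR (a : A) :
    Coalgebra.counit (R := K) (incR R K A a) = algebraMap R K (Coalgebra.counit (R := R) a) := by
  show Coalgebra.counit (R := K) ((1 : K) ⊗ₜ[R] a) = _
  rw [TensorProduct.counit_tmul]
  have h1 : Coalgebra.counit (R := K) (1 : K) = (1 : K) := rfl
  rw [h1, Algebra.smul_def, mul_one]

lemma antipode_incR (a : A) :
    HopfAlgebra.antipode K (incR R K A a) = incR R K A (HopfAlgebra.antipode R a) := by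
  show HopfAlgebra.antipode K ((1 : K) ⊗ₜ[R] a) = _
  rw [TensorProduct.antipode_def]
  rfl

end generic

section denominators

variable {R : Type u} [CommRing R] [IsDomain R] {K : Type u} [Field K] [Algebra R K]
  [IsFractionRing R K] {A : Type u} [CommRing A] [Algebra R A]

/-- clearing denominators in `K ⊗ A` -/
lemma exists_smul_eq_incR (x : K ⊗[R] A) :
    ∃ s : R, s ≠ 0 ∧ ∃ a : A, s • x = (1 : K) ⊗ₜ[R] a := by
  induction x using TensorProduct.induction_on with
  | zero => exact ⟨1, one_ne_zero, 0, by simp⟩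
  | tmul κ a =>
    obtain ⟨⟨r, s⟩, hrs⟩ := IsLocalization.surj (nonZeroDivisors R) κ
    refine ⟨s, nonZeroDivisors.ne_zero s.2, r • a, ?_⟩
    rw [TensorProduct.smul_tmul', Algebra.smul_def, mul_comm, hrs, TensorProduct.tmul_smul,
      TensorProduct.smul_tmul', Algebra.smul_def, mul_one]
  | add x y hx hy =>
    obtain ⟨s₁, hs₁, a₁, h₁⟩ := hx
    obtain ⟨s₂, hs₂, a₂, h₂⟩ := hy
    refine ⟨s₁ * s₂, mul_ne_zero hs₁ hs₂, s₂ • a₁ + s₁ • a₂, ?_⟩
    have e1 : (s₁ * s₂) • x = (1 : K) ⊗ₜ[R] (s₂ • a₁) := by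
      rw [mul_comm, mul_smul, h₁, TensorProduct.tmul_smul]
    have e2 : (s₁ * s₂) • y = (1 : K) ⊗ₜ[R] (s₁ • a₂) := by
      rw [mul_smul, h₂, TensorProduct.tmul_smul]
    rw [smul_add, e1, e2, TensorProduct.tmul_add]

/-- an ideal of the generic fibre is generated by its trace on `A` -/
lemma map_comap_incR (J : Ideal (K ⊗[R] A)) :
    Ideal.map (Algebra.TensorProduct.includeRight : A →ₐ[R] K ⊗[R] A)
      (Ideal.comap (Algebra.TensorProduct.includeRight : A →ₐ[R] K ⊗[R] A) J) = J := by
  apply le_antisymm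
  · exact Ideal.map_comap_le
  · intro x hx
    obtain ⟨s, hs, a, ha⟩ := exists_smul_eq_incR (R := R) x
    have h1 : (1 : K) ⊗ₜ[R] a ∈ J := by
      rw [← ha]
      exact Submodule.smul_of_tower_mem J s hx
    have h2 : (1 : K) ⊗ₜ[R] a ∈ Ideal.map
        (Algebra.TensorProduct.includeRight : A →ₐ[R] K ⊗[R] A)
        (Ideal.comap (Algebra.TensorProduct.includeRight : A →ₐ[R] K ⊗[R] A) J) :=
      Ideal.mem_map_of_mem _ (by rw [Ideal.mem_comap]; exact h1)
    have h3 : x = ((algebraMap R K s)⁻¹ ⊗ₜ[R] (1 : A)) * ((1 : K) ⊗ₜ[R] a) := by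
      rw [← ha, Algebra.smul_def, Algebra.TensorProduct.algebraMap_apply, ← mul_assoc,
        Algebra.TensorProduct.tmul_mul_tmul, mul_one]
      have h4 : (algebraMap R K s)⁻¹ * (algebraMap R (K) s) = 1 := by
        apply inv_mul_cancel₀
        rw [Ne, map_eq_zero_iff _ (IsFractionRing.injective R K)]
        exact hs
      rw [h4]
      exact (one_mul x).symm
    rw [h3]
    exact Ideal.mul_mem_left _ _ h2

/-- an ideal of `A` with torsion-free quotient is the trace of the ideal it generates -/
lemma comap_map_incR [Module.Flat R A] (J' : Ideal A)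
    (htf : ∀ (s : R) (a : A), s ≠ 0 → s • a ∈ J' → a ∈ J') :
    Ideal.comap (Algebra.TensorProduct.includeRight : A →ₐ[R] K ⊗[R] A)
      (Ideal.map (Algebra.TensorProduct.includeRight : A →ₐ[R] K ⊗[R] A) J') = J' := by
  apply le_antisymm
  · intro a ha
    rw [Ideal.mem_comap] at ha
    have key : ∀ x ∈ Ideal.map (Algebra.TensorProduct.includeRight : A →ₐ[R] K ⊗[R] A) J',
        ∃ s : R, s ≠ 0 ∧ ∃ j ∈ J', s • x = (1 : K) ⊗ₜ[R] j := by
      intro x hx
      unfold Ideal.map at hx
      induction hx using Submodule.span_induction with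
      | mem x hx =>
        obtain ⟨j, hj, rfl⟩ := hx
        exact ⟨1, one_ne_zero, j, hj, one_smul _ _⟩
      | zero => exact ⟨1, one_ne_zero, 0, J'.zero_mem, by simp⟩
      | add x y _ _ hx hy =>
        obtain ⟨s₁, hs₁, a₁, ha₁, h₁⟩ := hx
        obtain ⟨s₂, hs₂, a₂, ha₂, h₂⟩ := hy
        refine ⟨s₁ * s₂, mul_ne_zero hs₁ hs₂, s₂ • a₁ + s₁ • a₂,
          J'.add_mem (Submodule.smul_of_tower_mem J' s₂ ha₁)
            (Submodule.smul_of_tower_mem J' s₁ ha₂), ?_⟩
        have e1 : (s₁ * s₂) • x = (1 : K) ⊗ₜ[R] (s₂ • a₁) := by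
          rw [mul_comm, mul_smul, h₁, TensorProduct.tmul_smul]
        have e2 : (s₁ * s₂) • y = (1 : K) ⊗ₜ[R] (s₁ • a₂) := by
          rw [mul_smul, h₂, TensorProduct.tmul_smul]
        rw [smul_add, e1, e2, TensorProduct.tmul_add]
      | smul y x _ hx =>
        obtain ⟨s, hs, j, hj, h⟩ := hx
        obtain ⟨t, ht, b, hb⟩ := exists_smul_eq_incR (R := R) y
        refine ⟨t * s, mul_ne_zero ht hs, b * j, J'.mul_mem_left b hj, ?_⟩
        rw [smul_eq_mul, mul_smul, ← mul_smul_comm, h, ← smul_mul_assoc, hb,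
          Algebra.TensorProduct.tmul_mul_tmul, mul_one]
    obtain ⟨s, hs, j, hj, h⟩ := key _ ha
    have hinj : Function.Injective (Algebra.TensorProduct.includeRight : A →ₐ[R] K ⊗[R] A) :=
      Algebra.TensorProduct.includeRight_injective (IsFractionRing.injective R K)
    have h2 : (Algebra.TensorProduct.includeRight : A →ₐ[R] K ⊗[R] A) (s • a) =
        (Algebra.TensorProduct.includeRight : A →ₐ[R] K ⊗[R] A) j := by
      rw [map_smul]
      exact h
    have h3 := hinj h2
    exact htf s a hs (h3 ▸ hj)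
  · exact Ideal.le_comap_map

end denominators

section mapsTo

variable {R : Type u} [CommRing R] {K : Type u} [Field K] [Algebra R K]
  {A : Type u} [CommRing A] [HopfAlgebra R A]

/-- the map `A/J' → (K ⊗ A)/J` when `ι(J') ⊆ J` -/
noncomputable def quotIncR (J' : Ideal A) (J : Ideal (K ⊗[R] A))
    (h : J' ≤ Ideal.comap (incR R K A) J) :
    (A ⧸ J'.restrictScalars R) →ₗ[R] (K ⊗[R] A) ⧸ J.restrictScalars K :=
  Submodule.liftQ (J'.restrictScalars R)
    (((J.restrictScalars K).mkQ.restrictScalars R) ∘ₗ (incR R K A).toLinearMap) (by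
      intro a ha
      rw [LinearMap.mem_ker]
      show Submodule.Quotient.mk (incR R K A a) = 0
      rw [Submodule.Quotient.mk_eq_zero]
      exact h ha)

lemma quotIncR_mk (J' : Ideal A) (J : Ideal (K ⊗[R] A))
    (h : J' ≤ Ideal.comap (incR R K A) J) (a : A) :
    quotIncR J' J h ((J'.restrictScalars R).mkQ a) =
      (J.restrictScalars K).mkQ (incR R K A a) := rfl

/-- the basic compatibility between the two coideal conditions -/
lemma map_mkQ_comul_incR (J' : Ideal A) (J : Ideal (K ⊗[R] A))
    (h : J' ≤ Ideal.comap (incR R K A) J) (a : A) :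
    TensorProduct.map (J.restrictScalars K).mkQ (J.restrictScalars K).mkQ
      (Coalgebra.comul (R := K) (incR R K A a)) =
    TensorProduct.mapOfCompatibleSMul K R R ((K ⊗[R] A) ⧸ J.restrictScalars K)
        ((K ⊗[R] A) ⧸ J.restrictScalars K)
      (TensorProduct.map (quotIncR J' J h) (quotIncR J' J h)
        (TensorProduct.map (J'.restrictScalars R).mkQ (J'.restrictScalars R).mkQ
          (Coalgebra.comul (R := R) a))) := by
  rw [comul_incR]
  generalize Coalgebra.comul (R := R) a = y
  induction y using TensorProduct.induction_on with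
  | zero => simp only [map_zero]
  | tmul a₁ a₂ => rfl
  | add y z hy hz =>
    rw [map_add, map_add, map_add, hy, hz, map_add, map_add, map_add]

/-- the ideal generated in the generic fibre by a Hopf ideal is a Hopf ideal -/
theorem isHopfIdeal_map_incR (J' : Ideal A) [J'.IsHopfIdeal R] :
    (Ideal.map (incR R K A) J').IsHopfIdeal K := by
  have hle : J' ≤ Ideal.comap (incR R K A) (Ideal.map (incR R K A) J') := Ideal.le_comap_map
  have hcoid : (J'.restrictScalars R).IsCoideal := inferInstance
  -- the three conditions on generators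
  have h1 : Ideal.map (incR R K A) J' ≤ RingHom.ker (Bialgebra.counitAlgHom K (K ⊗[R] A)) := by
    refine Ideal.map_le_iff_le_comap.mpr ?_
    intro j hj
    rw [Ideal.mem_comap, RingHom.mem_ker]
    show Coalgebra.counit (R := K) (incR R K A j) = 0
    rw [counit_incR, hcoid.counit_eq_zero (x := j) hj, map_zero]
  have h2 : Ideal.map (incR R K A) J' ≤
      Ideal.comap (HopfAlgebra.antipodeAlgHom K (K ⊗[R] A)) (Ideal.map (incR R K A) J') := by
    refine Ideal.map_le_iff_le_comap.mpr ?_
    intro j hj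
    rw [Ideal.mem_comap, Ideal.mem_comap]
    show HopfAlgebra.antipode K (incR R K A j) ∈ _
    rw [antipode_incR]
    exact Ideal.mem_map_of_mem _ (Ideal.IsHopfIdeal.antipode_mem (R := R) hj)
  have h3 : Ideal.map (incR R K A) J' ≤ RingHom.ker
      ((Algebra.TensorProduct.map (Ideal.Quotient.mkₐ K (Ideal.map (incR R K A) J'))
        (Ideal.Quotient.mkₐ K (Ideal.map (incR R K A) J'))).comp
        (Bialgebra.comulAlgHom K (K ⊗[R] A))) := by
    refine Ideal.map_le_iff_le_comap.mpr ?_
    intro j hj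
    rw [Ideal.mem_comap, RingHom.mem_ker]
    have := map_mkQ_comul_incR J' (Ideal.map (incR R K A) J') hle j
    rw [hcoid.map_mkQ_comul_eq_zero (x := j) hj, map_zero, map_zero] at this
    exact this
  refine { counit_eq_zero := ?_, map_mkQ_comul_eq_zero := ?_, antipode_mem := ?_ }
  · intro x hx
    exact h1 hx
  · intro x hx
    exact RingHom.mem_ker.mp (h3 hx)
  · intro x hx
    exact h2 hx

end mapsTo

section surj

variable {R : Type u} [CommRing R] [IsDedekindDomain R] {K : Type u} [Field K]
  [Algebra R K] [IsFractionRing R K] {A : Type u} [CommRing A] [HopfAlgebra R A]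

omit [IsDedekindDomain R] [IsFractionRing R K] in
lemma quotIncR_injective (J : Ideal (K ⊗[R] A)) :
    Function.Injective (quotIncR (Ideal.comap (incR R K A) J) J le_rfl) := by
  rw [injective_iff_map_eq_zero]
  intro x hx
  obtain ⟨a, rfl⟩ := Submodule.mkQ_surjective _ x
  rw [quotIncR_mk] at hx
  rw [Submodule.mkQ_apply, Submodule.Quotient.mk_eq_zero] at hx ⊢
  exact hx

/-- the trace on `A` of a Hopf ideal of the generic fibre is a Hopf ideal with torsion-free
quotient -/
theorem isHopfIdeal_comap_incR (J : Ideal (K ⊗[R] A)) [J.IsHopfIdeal K] :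
    (Ideal.comap (incR R K A) J).IsHopfIdeal R ∧
      Module.IsTorsionFree R (A ⧸ (Ideal.comap (incR R K A) J).restrictScalars R) := by
  have hcoid : (J.restrictScalars K).IsCoideal := inferInstance
  haveI hN : Module.IsTorsionFree R ((K ⊗[R] A) ⧸ J.restrictScalars K) :=
    .trans_faithfulSMul R K _
  have hinj := quotIncR_injective J
  haveI hM : Module.IsTorsionFree R (A ⧸ (Ideal.comap (incR R K A) J).restrictScalars R) :=
    Function.Injective.moduleIsTorsionFree _ hinj (map_smul _)
  refine ⟨{ counit_eq_zero := ?_, map_mkQ_comul_eq_zero := ?_, antipode_mem := ?_ }, hM⟩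
  · intro j hj
    have h := hcoid.counit_eq_zero (x := incR R K A j) hj
    rw [counit_incR] at h
    exact (map_eq_zero_iff _ (IsFractionRing.injective R K)).mp h
  · intro j hj
    have h := map_mkQ_comul_incR (Ideal.comap (incR R K A) J) J le_rfl j
    rw [hcoid.map_mkQ_comul_eq_zero (x := incR R K A j) hj] at h
    haveI hcompat : TensorProduct.CompatibleSMul R K ((K ⊗[R] A) ⧸ J.restrictScalars K)
        ((K ⊗[R] A) ⧸ J.restrictScalars K) :=
      IsLocalization.tensorProduct_compatibleSMul (nonZeroDivisors R) K _ _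
    have hinj2 : Function.Injective (TensorProduct.mapOfCompatibleSMul K R R
        ((K ⊗[R] A) ⧸ J.restrictScalars K) ((K ⊗[R] A) ⧸ J.restrictScalars K)) :=
      (TensorProduct.equivOfCompatibleSMul K R R ((K ⊗[R] A) ⧸ J.restrictScalars K)
        ((K ⊗[R] A) ⧸ J.restrictScalars K)).injective
    have hinj3 := TensorProduct.map_injective_of_flat_flat
      (quotIncR (Ideal.comap (incR R K A) J) J le_rfl)
      (quotIncR (Ideal.comap (incR R K A) J) J le_rfl) hinj hinj
    apply hinj3
    apply hinj2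
    rw [map_zero, map_zero]
    exact h.symm
  · intro j hj
    rw [Ideal.mem_comap, ← antipode_incR]
    exact Ideal.IsHopfIdeal.antipode_mem (R := K) hj

/-- the main bijection -/
theorem bijOn_hopfIdeal_map_incR [Module.Flat R A] :
    Set.BijOn (fun J' : Ideal A =>
        Ideal.map (Algebra.TensorProduct.includeRight : A →ₐ[R] K ⊗[R] A) J')
      {J' : Ideal A | J'.IsHopfIdeal R ∧ Module.Flat R (A ⧸ J')}
      {J : Ideal (K ⊗[R] A) | J.IsHopfIdeal K} := by
  refine ⟨?_, ?_, ?_⟩
  · rintro J' ⟨hJ', -⟩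
    exact isHopfIdeal_map_incR (K := K) J'
  · rintro J₁ ⟨-, hf₁⟩ J₂ ⟨-, hf₂⟩ h
    have key : ∀ (J' : Ideal A), Module.Flat R (A ⧸ J') →
        ∀ (s : R) (a : A), s ≠ 0 → s • a ∈ J' → a ∈ J' := by
      intro J' hf s a hs hsa
      haveI := hf
      have htf : Module.IsTorsionFree R (A ⧸ J') := inferInstance
      have h0 : s • (Ideal.Quotient.mk J' a) = s • (0 : A ⧸ J') := by
        rw [smul_zero]
        exact Ideal.Quotient.eq_zero_iff_mem.mpr hsa
      have h1 := (htf.isSMulRegular (r := s) (IsRegular.of_ne_zero hs)) h0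
      exact Ideal.Quotient.eq_zero_iff_mem.mp h1
    have e₁ := comap_map_incR (R := R) (K := K) J₁ (key J₁ hf₁)
    have e₂ := comap_map_incR (R := R) (K := K) J₂ (key J₂ hf₂)
    simp only at h
    rw [← e₁, h, e₂]
  · intro J hJ
    haveI : J.IsHopfIdeal K := hJ
    obtain ⟨h1, h2⟩ := isHopfIdeal_comap_incR (R := R) J
    refine ⟨Ideal.comap (incR R K A) J, ⟨h1, ?_⟩, map_comap_incR (R := R) J⟩
    haveI := h2
    exact Module.Flat.of_linearEquiv
      (Submodule.Quotient.restrictScalarsEquiv R (Ideal.comap (incR R K A) J)).symm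

end surj

end Groth.Agent.Helper2.HopfLib
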