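import Mathlib
import Groth.Agent.Lib.Helper2.Hopf.FiniteCoaction

set_option autoImplicit false

open scoped TensorProduct
open WithConv

namespace Groth.Agent.Helper2.HopfLib

universe u v w w'

section postComp

variable {R : Type u} [CommRing R] {A : Type v} [AddCommGroup A] [Module R A] [Coalgebra R A]
  {P : Type w} [CommRing P] [Algebra R P] {Q : Type w'} [CommRing Q] [Algebra R Q]

/-- post-composition with an algebra map is a ring map of convolution rings -/
noncomputable def postComp (h : P →ₐ[R] Q) :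
    WithConv (A →ₗ[R] P) →+* WithConv (A →ₗ[R] Q) where
  toFun f := toConv (h.toLinearMap ∘ₗ f.ofConv)
  map_one' := by
    apply WithConv.ext
    ext a
    simp [LinearMap.convOne_def]
  map_mul' f g := by
    apply WithConv.ext
    exact LinearMap.algHom_comp_convMul_distrib h f g
  map_zero' := by
    apply WithConv.ext
    ext a
    simp
  map_add' f g := by
    apply WithConv.ext
    ext a
    simp

@[simp]
lemma postComp_apply (h : P →ₐ[R] Q) (f : WithConv (A →ₗ[R] P)) (a : A) :
    (postComp h f) a = h (f a) := rfl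

end postComp

section main

variable {R : Type u} [CommRing R] {A : Type v} [CommRing A] [HopfAlgebra R A]
  [Coalgebra.IsCocomm R A] {B : Type w} [CommRing B] [Algebra R B]

/-- the ring map `Hom_R(A, B) → Hom_R(A, B ⊗ A)` induced by `b ↦ b ⊗ 1` -/
noncomputable def jHom : WithConv (A →ₗ[R] B) →+* WithConv (A →ₗ[R] B ⊗[R] A) :=
  postComp (Algebra.TensorProduct.includeLeft : B →ₐ[R] B ⊗[R] A)

lemma jHom_apply (φ : WithConv (A →ₗ[R] B)) (a : A) :
    (jHom (R := R) (A := A) (B := B) φ) a = φ a ⊗ₜ[R] (1 : A) := rfl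

/-- `Hom_R(A, B ⊗ A)` as an algebra over `Hom_R(A, B)` -/
noncomputable def convAlg : Algebra (WithConv (A →ₗ[R] B)) (WithConv (A →ₗ[R] B ⊗[R] A)) :=
  (jHom (R := R) (A := A) (B := B)).toAlgebra

attribute [local instance] convAlg

lemma conv_smul_def (φ : WithConv (A →ₗ[R] B)) (F : WithConv (A →ₗ[R] B ⊗[R] A)) :
    φ • F = jHom φ * F := rfl

open Coalgebra in
lemma coord_smul_apply {ι : Type*} (b : Module.Basis ι B (B ⊗[R] A)) (i : ι)
    (φ : WithConv (A →ₗ[R] B)) (F : WithConv (A →ₗ[R] B ⊗[R] A)) (a : A) :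
    b.coord i ((φ • F) a) =
      (φ * toConv ((b.coord i).restrictScalars R ∘ₗ F.ofConv)) a := by
  rw [conv_smul_def, (ℛ R a).convMul_apply, (ℛ R a).convMul_apply, map_sum]
  refine Finset.sum_congr rfl (fun k _ => ?_)
  rw [jHom_apply]
  have h1 : (φ ((ℛ R a).left k) ⊗ₜ[R] (1 : A)) * F ((ℛ R a).right k) =
      φ ((ℛ R a).left k) • F ((ℛ R a).right k) := by
    rw [Algebra.smul_def]
    rfl
  rw [h1, map_smul]
  rfl

/-- coordinates of `Hom_R(A, B ⊗ A)` over `Hom_R(A, B)` attached to a `B`-basis of `B ⊗ A` -/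
noncomputable def convRepr {ι : Type*} [Fintype ι] (b : Module.Basis ι B (B ⊗[R] A)) :
    WithConv (A →ₗ[R] B ⊗[R] A) ≃ₗ[WithConv (A →ₗ[R] B)] (ι → WithConv (A →ₗ[R] B)) where
  toFun F i := toConv ((b.coord i).restrictScalars R ∘ₗ F.ofConv)
  map_add' F G := by
    funext i
    apply WithConv.ext
    ext a
    simp
  map_smul' φ F := by
    funext i
    apply WithConv.ext
    ext a
    exact coord_smul_apply b i φ F a
  invFun f := toConv (∑ i, ((LinearMap.toSpanSingleton B (B ⊗[R] A) (b i)).restrictScalars R ∘ₗ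
    (f i).ofConv))
  left_inv F := by
    apply WithConv.ext
    ext a
    simp only [ofConv_toConv, LinearMap.coe_sum, Finset.sum_apply, LinearMap.coe_comp,
      LinearMap.coe_restrictScalars, Function.comp_apply, LinearMap.toSpanSingleton_apply,
      Module.Basis.coord_apply]
    exact b.sum_repr (F.ofConv a)
  right_inv f := by
    funext i
    apply WithConv.ext
    ext a
    simp only [ofConv_toConv, LinearMap.coe_sum, Finset.sum_apply, LinearMap.coe_comp,
      LinearMap.coe_restrictScalars, Function.comp_apply, LinearMap.toSpanSingleton_apply,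
      Module.Basis.coord_apply, map_sum, map_smul, Module.Basis.repr_self, Finsupp.coe_finsetSum,
      Finsupp.coe_smul, Pi.smul_apply, smul_eq_mul]
    classical
    rw [Finset.sum_eq_single i (fun j _ hj => by
      rw [Finsupp.single_apply, if_neg hj, mul_zero]) (fun h => absurd (Finset.mem_univ i) h)]
    rw [Finsupp.single_eq_same, mul_one]

/-- a `B`-algebra automorphism of `B ⊗ A` acts on `Hom_R(A, B ⊗ A)` over `Hom_R(A, B)` -/
noncomputable def convAut (t : B ⊗[R] A ≃ₐ[B] B ⊗[R] A) :
    WithConv (A →ₗ[R] B ⊗[R] A) ≃ₐ[WithConv (A →ₗ[R] B)] WithConv (A →ₗ[R] B ⊗[R] A) where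
  toFun := postComp ((t : B ⊗[R] A →ₐ[B] B ⊗[R] A).restrictScalars R)
  invFun := postComp ((t.symm : B ⊗[R] A →ₐ[B] B ⊗[R] A).restrictScalars R)
  left_inv F := by
    apply WithConv.ext
    ext a
    simp
  right_inv F := by
    apply WithConv.ext
    ext a
    simp
  map_mul' := map_mul _
  map_add' := map_add _
  commutes' φ := by
    apply WithConv.ext
    ext a
    show t (φ a ⊗ₜ[R] (1 : A)) = φ a ⊗ₜ[R] (1 : A)
    exact t.commutes (φ a)

lemma convAut_apply (t : B ⊗[R] A ≃ₐ[B] B ⊗[R] A) (F : WithConv (A →ₗ[R] B ⊗[R] A)) (a : A) :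
    (convAut t F) a = t (F a) := rfl

/-- Deligne's theorem, `B`-points version: if `B ⊗ A` is free of rank `n` over `B` then every
`B`-point of the commutative group scheme `Spec A` is killed by `n` -/
theorem conv_pow_eq_one {ι : Type*} [Fintype ι] (b : Module.Basis ι B (B ⊗[R] A))
    (φ₀ : A →ₐ[R] B) :
    (toConv φ₀.toLinearMap : WithConv (A →ₗ[R] B)) ^ Fintype.card ι = 1 := by
  classical
  let bD : Module.Basis ι (WithConv (A →ₗ[R] B)) (WithConv (A →ₗ[R] B ⊗[R] A)) :=
    Module.Basis.ofEquivFun (convRepr b)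
  let σ := convAut (R := R) (A := A) (B := B) (GamEquiv φ₀)
  let i₀ : WithConv (A →ₗ[R] B ⊗[R] A) :=
    toConv (Algebra.TensorProduct.includeRight : A →ₐ[R] B ⊗[R] A).toLinearMap
  let u : WithConv (A →ₗ[R] B) := toConv φ₀.toLinearMap
  have h1 : σ i₀ = algebraMap (WithConv (A →ₗ[R] B)) (WithConv (A →ₗ[R] B ⊗[R] A)) u * i₀ := by
    have e1 : σ i₀ = toConv (tw φ₀).toLinearMap := by
      apply WithConv.ext
      ext a
      show GamEquiv φ₀ ((1 : B) ⊗ₜ[R] a) = tw φ₀ a
      rw [GamEquiv_apply, Gam_tmul]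
      simp [← Algebra.TensorProduct.one_def]
    rw [e1]
    unfold tw
    rw [AlgHom.toLinearMap_convMul]
    rfl
  have h2 : IsUnit i₀ := by
    have h := conv_mul_inv (k := R) (A := A)
      (Algebra.TensorProduct.includeRight : A →ₐ[R] B ⊗[R] A)
    have h' := congrArg (fun g : WithConv (A →ₐ[R] B ⊗[R] A) => toConv g.ofConv.toLinearMap) h
    simp only [AlgHom.toLinearMap_convMul, AlgHom.toLinearMap_convOne] at h'
    exact IsUnit.of_mul_eq_one _ h'
  have h3 : Algebra.norm (WithConv (A →ₗ[R] B)) (σ i₀) = Algebra.norm (WithConv (A →ₗ[R] B)) i₀ :=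
    Algebra.norm_eq_of_algEquiv σ i₀
  rw [h1, map_mul, Algebra.norm_algebraMap_of_basis bD] at h3
  have h4 : IsUnit (Algebra.norm (WithConv (A →ₗ[R] B)) i₀) := h2.map _
  exact h4.mul_eq_right.mp h3

end main

section projective

variable (R : Type u) [CommRing R] (A : Type v) [CommRing A] [HopfAlgebra R A]
  [Coalgebra.IsCocomm R A]

/-- Deligne's theorem: a commutative finite locally free group scheme of constant rank `n` is
killed by `n` -/
theorem conv_pow_id_eq_one [Module.Finite R A] [Module.Projective R A] (n : ℕ)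
    (hn : ∀ p : PrimeSpectrum R, Module.rankAtStalk A p = n) :
    (toConv (LinearMap.id : A →ₗ[R] A)) ^ n = 1 := by
  classical
  apply WithConv.ext
  ext a
  refine Module.eq_of_localization_maximal
    (fun (P : Ideal R) [P.IsMaximal] => Localization.AtPrime P ⊗[R] A)
    (fun (P : Ideal R) [P.IsMaximal] => TensorProduct.mk R (Localization.AtPrime P) A 1) _ _ ?_
  intro P hP
  set RP := Localization.AtPrime P with hRP
  set B := RP ⊗[R] A with hB
  let φ₀ : A →ₐ[R] B := Algebra.TensorProduct.includeRight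
  haveI : Module.Free RP B := Module.free_of_flat_of_isLocalRing
  have hfin : Module.finrank RP B = n := by
    rw [← hn ⟨P, hP.isPrime⟩, Module.rankAtStalk_eq_finrank_tensorProduct]
  let b₀ : Module.Basis (Fin n) RP B := Module.finBasisOfFinrankEq RP B hfin
  let b₁ : Module.Basis (Fin n) B (B ⊗[RP] B) := Module.Basis.baseChange B b₀
  let b : Module.Basis (Fin n) B (B ⊗[R] A) :=
    b₁.map (TensorProduct.AlgebraTensorModule.cancelBaseChange R RP B B A)
  have h := conv_pow_eq_one b φ₀
  rw [Fintype.card_fin] at h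
  have h1 : (toConv φ₀.toLinearMap : WithConv (A →ₗ[R] B)) =
      postComp φ₀ (toConv (LinearMap.id : A →ₗ[R] A)) := rfl
  rw [h1, ← map_pow] at h
  have h2 := congrArg (fun F : WithConv (A →ₗ[R] B) => F a) h
  simp only [postComp_apply] at h2
  show φ₀ ((toConv (LinearMap.id : A →ₗ[R] A) ^ n).ofConv a) =
    φ₀ ((1 : WithConv (A →ₗ[R] A)) a)
  rw [h2, ← postComp_apply φ₀ (1 : WithConv (A →ₗ[R] A)) a, map_one]

end projective

end Groth.Agent.Helper2.HopfLib
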