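import Mathlib
import Groth.Prelude.Def_CartDual
import Groth.Agent.Lib.Helper2.Hopf.Deligne

/-!
# Points of the Cartier dual and units of the base change (helper2)

For a finite commutative cocommutative Hopf algebra `A` over a field `k` and a commutative
`k`-algebra `K`, the ring `K ⊗ A` is identified with the convolution ring `Hom_k(D, K)` of the dual
Hopf algebra `D = Hom_k(A, k)`.  With Deligne's theorem this gives: the Cartier dual of an étale
`p`-group in characteristic `p` is local.
-/

set_option autoImplicit false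
open scoped TensorProduct
open WithConv

namespace Groth.Agent.Helper2.HopfLib

universe u

section evT

variable (k : Type u) [Field k] (A : Type u) [CommRing A] [HopfAlgebra k A]
  [Coalgebra.IsCocomm k A] [Module.Finite k A] (K : Type u) [CommRing K] [Algebra k K]

/-- the pairing `D × (K ⊗ A) → K`, `(f, κ ⊗ a) ↦ f(a) κ` -/
noncomputable def evP : CartDual.D k A →ₗ[k] (K ⊗[k] A →ₗ[k] K) :=
  (LinearMap.llcomp k (K ⊗[k] A) (K ⊗[k] k) K (TensorProduct.rid k K).toLinearMap) ∘ₗ
    (LinearMap.lTensorHom K) ∘ₗ (CartDual.toDual k A).toLinearMap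

omit [Coalgebra.IsCocomm k A] [Module.Finite k A] in
lemma evP_tmul (f : CartDual.D k A) (κ : K) (a : A) : evP k A K f (κ ⊗ₜ a) = f a • κ := by
  unfold evP
  simp [CartDual.coe_apply]

/-- `g ↦ (f ↦ (id ⊗ f) g)` -/
noncomputable def evT₀ : K ⊗[k] A →ₗ[k] (CartDual.D k A →ₗ[k] K) := (evP k A K).flip

omit [Coalgebra.IsCocomm k A] [Module.Finite k A] in
lemma evT₀_tmul (κ : K) (a : A) (f : CartDual.D k A) : evT₀ k A K (κ ⊗ₜ a) f = f a • κ := by
  unfold evT₀
  rw [LinearMap.flip_apply, evP_tmul]

lemma mul'_map_evT₀ (κ κ' : K) (a a' : A) (y : CartDual.D k A ⊗[k] CartDual.D k A) :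
    LinearMap.mul' k K (TensorProduct.map (evT₀ k A K (κ ⊗ₜ a)) (evT₀ k A K (κ' ⊗ₜ a')) y) =
      (CartDual.ev₂ k A y (a ⊗ₜ a')) • (κ * κ') := by
  induction y using TensorProduct.induction_on with
  | zero => simp
  | tmul x z =>
    rw [TensorProduct.map_tmul, LinearMap.mul'_apply, evT₀_tmul, evT₀_tmul, CartDual.ev₂_tmul,
      smul_mul_smul_comm]
  | add y y' hy hy' => rw [map_add, map_add, hy, hy', map_add, LinearMap.add_apply, add_smul]

/-- `evT₀` is multiplicative for the convolution product -/
lemma evT₀_mul (g h : K ⊗[k] A) :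
    (toConv (evT₀ k A K (g * h)) : WithConv (CartDual.D k A →ₗ[k] K)) =
      toConv (evT₀ k A K g) * toConv (evT₀ k A K h) := by
  induction g using TensorProduct.induction_on with
  | zero => rw [zero_mul, map_zero, toConv_zero, zero_mul]
  | add g₁ g₂ h₁ h₂ => rw [add_mul, map_add, toConv_add, h₁, h₂, map_add, toConv_add, add_mul]
  | tmul κ a =>
    induction h using TensorProduct.induction_on with
    | zero => rw [mul_zero, map_zero, toConv_zero, mul_zero]
    | add g₁ g₂ h₁ h₂ => rw [mul_add, map_add, toConv_add, h₁, h₂, map_add, toConv_add, mul_add]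
    | tmul κ' a' =>
      apply WithConv.ext
      ext f
      rw [LinearMap.convMul_apply]
      rw [mul'_map_evT₀, Algebra.TensorProduct.tmul_mul_tmul, evT₀_tmul,
        CartDual.ev₂_coalgebra_comul_tmul]

lemma evT₀_one : (toConv (evT₀ k A K 1) : WithConv (CartDual.D k A →ₗ[k] K)) = 1 := by
  apply WithConv.ext
  ext f
  rw [Algebra.TensorProduct.one_def]
  rw [evT₀_tmul, LinearMap.convOne_apply, CartDual.coalgebra_counit_apply, Algebra.smul_def,
    mul_one]

lemma evT₀_pow (g : K ⊗[k] A) (n : ℕ) :
    (toConv (evT₀ k A K (g ^ n)) : WithConv (CartDual.D k A →ₗ[k] K)) =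
      toConv (evT₀ k A K g) ^ n := by
  induction n with
  | zero => rw [pow_zero, pow_zero, evT₀_one]
  | succ n ih => rw [pow_succ, pow_succ, evT₀_mul, ih]

variable {ι : Type*} [Fintype ι] (b : Module.Basis ι k A)

/-- the inverse of `evT₀` in a basis -/
noncomputable def evInv (ψ : CartDual.D k A →ₗ[k] K) : K ⊗[k] A :=
  ∑ i, ψ (toConv (b.coord i)) ⊗ₜ[k] b i

omit [Coalgebra.IsCocomm k A] [Module.Finite k A] in
lemma evT₀_evInv (ψ : CartDual.D k A →ₗ[k] K) : evT₀ k A K (evInv k A K b ψ) = ψ := by
  ext f
  unfold evInv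
  rw [map_sum, LinearMap.sum_apply]
  simp only [evT₀_tmul]
  have h1 : ∀ i, f (b i) • ψ (toConv (b.coord i)) = ψ (f (b i) • toConv (b.coord i)) := by
    intro i
    rw [map_smul]
  simp only [h1]
  rw [← map_sum]
  congr 1
  apply WithConv.ext
  have h2 := Module.Basis.sum_dual_apply_smul_coord b f.ofConv
  simp only [WithConv.ofConv_sum, WithConv.ofConv_smul]
  exact h2

omit [Coalgebra.IsCocomm k A] [Module.Finite k A] in
lemma evInv_evT₀ (g : K ⊗[k] A) : evInv k A K b (evT₀ k A K g) = g := by
  induction g using TensorProduct.induction_on with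
  | zero =>
    unfold evInv
    simp
  | tmul κ a =>
    unfold evInv
    simp only [evT₀_tmul]
    have h1 : ∀ i, ((toConv (b.coord i) : CartDual.D k A) a • κ) ⊗ₜ[k] b i =
        κ ⊗ₜ[k] (b.repr a i • b i) := by
      intro i
      rw [TensorProduct.smul_tmul]
      rfl
    simp only [h1]
    rw [← TensorProduct.tmul_sum, b.sum_repr]
  | add x y hx hy =>
    have h2 : ∀ ψ ψ' : CartDual.D k A →ₗ[k] K,
        evInv k A K b (ψ + ψ') = evInv k A K b ψ + evInv k A K b ψ' := by
      intro ψ ψ'
      unfold evInv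
      simp only [LinearMap.add_apply, TensorProduct.add_tmul, Finset.sum_add_distrib]
    rw [map_add, h2, hx, hy]

omit [Coalgebra.IsCocomm k A] [Module.Finite k A] in
include b in
lemma evT₀_injective : Function.Injective (evT₀ k A K) := by
  intro g h hgh
  rw [← evInv_evT₀ k A K b g, ← evInv_evT₀ k A K b h, hgh]

end evT

section main

variable (k : Type u) [Field k] (A : Type u) [CommRing A] [HopfAlgebra k A]
  [Coalgebra.IsCocomm k A] [Module.Finite k A]

/-- every point of the Cartier dual of an étale `p`-group in characteristic `p` is trivial -/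
theorem algHom_dual_eq_counit (p : ℕ) [Fact p.Prime] [CharP k p] [Algebra.Etale k A] (n : ℕ)
    (hA : Module.finrank k A = p ^ n) (K : Type u) [Field K] [Algebra k K]
    (φ : CartDual.D k A →ₐ[k] K) (f : CartDual.D k A) : φ f = algebraMap k K (f 1) := by
  classical
  let b := Module.finBasis k A
  set g := evInv k A K b φ.toLinearMap with hg
  have h1 : evT₀ k A K g = φ.toLinearMap := evT₀_evInv k A K b _
  -- Deligne's theorem for the dual
  let bD := Module.finBasis k (CartDual.D k A)
  have hcard : Module.finrank k (CartDual.D k A) = p ^ n := by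
    rw [← hA, LinearEquiv.finrank_eq (CartDual.toDual k A), Subspace.dual_finrank_eq]
  have h2 := conv_pow_eq_one (R := k) (A := CartDual.D k A) (B := K)
    (Algebra.TensorProduct.basis K bD) φ
  rw [Fintype.card_fin, hcard] at h2
  have h3 : g ^ (p ^ n) = 1 := by
    apply evT₀_injective k A K b
    apply WithConv.toConv_injective
    rw [evT₀_pow, h1, h2, evT₀_one]
  -- characteristic `p` and reducedness
  haveI : Nontrivial (K ⊗[k] A) := by
    haveI : Nontrivial A := by
      by_contra hne
      rw [not_nontrivial_iff_subsingleton] at hne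
      have : Module.finrank k A = 0 := Module.finrank_zero_of_subsingleton
      rw [this] at hA
      exact (pow_pos (Fact.out : p.Prime).pos n).ne hA
    haveI : Module.Free k A := Module.Free.of_divisionRing k A
    haveI : Module.Free K (K ⊗[k] A) := inferInstance
    have hfr : Module.finrank K (K ⊗[k] A) = p ^ n := by
      rw [Module.finrank_baseChange, hA]
    refine Module.nontrivial_of_finrank_pos (R := K) ?_
    rw [hfr]
    exact pow_pos (Fact.out : p.Prime).pos n
  haveI : CharP (K ⊗[k] A) p :=
    charP_of_injective_algebraMap (algebraMap k (K ⊗[k] A)).injective p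
  haveI : Algebra.Etale K (K ⊗[k] A) := inferInstance
  haveI : IsReduced (K ⊗[k] A) := Algebra.FormallyUnramified.isReduced_of_field K (K ⊗[k] A)
  have h4 : (g - 1) ^ (p ^ n) = 0 := by
    rw [sub_pow_char_pow, h3, one_pow, sub_self]
  have h5 : g = 1 := by
    have : IsNilpotent (g - 1) := ⟨p ^ n, h4⟩
    exact sub_eq_zero.mp this.eq_zero
  have h6 : φ f = evT₀ k A K g f := by rw [h1]; rfl
  rw [h6, h5, Algebra.TensorProduct.one_def, evT₀_tmul, Algebra.smul_def, mul_one]

/-- the Cartier dual of an étale group of `p`-power order in characteristic `p` is local -/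
theorem isLocalRing_dual_of_etale (p : ℕ) [Fact p.Prime] [CharP k p] [Algebra.Etale k A] (n : ℕ)
    (hA : Module.finrank k A = p ^ n) : IsLocalRing (CartDual.D k A) := by
  set ε : CartDual.D k A →ₐ[k] k := Bialgebra.counitAlgHom k (CartDual.D k A) with hε
  have hεapp : ∀ f : CartDual.D k A, ε f = f 1 := fun f => rfl
  have hsurj : Function.Surjective ε := by
    intro c
    refine ⟨algebraMap k _ c, ?_⟩
    rw [AlgHom.commutes]
    rfl
  have hmax : (RingHom.ker ε).IsMaximal := RingHom.ker_isMaximal_of_surjective ε hsurj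
  refine IsLocalRing.of_unique_max_ideal ⟨RingHom.ker ε, hmax, ?_⟩
  intro m hm
  haveI := hm
  letI : Field (CartDual.D k A ⧸ m) := Ideal.Quotient.field m
  symm
  apply hmax.eq_of_le hm.ne_top
  intro f hf
  rw [RingHom.mem_ker, hεapp] at hf
  have h1 := algHom_dual_eq_counit k A p n hA (CartDual.D k A ⧸ m) (Ideal.Quotient.mkₐ k m) f
  rw [hf, map_zero] at h1
  exact Ideal.Quotient.eq_zero_iff_mem.mp h1

end main

end Groth.Agent.Helper2.HopfLib
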