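import Mathlib
import Groth.Agent.Lib.Helper2.Hopf.UnitComponent

set_option autoImplicit false

open scoped TensorProduct

namespace Groth.Agent.Helper2.HopfLib

universe u v w

section unramifiedLocal

variable {R : Type u} [CommRing R] [IsLocalRing R] {E : Type v} [CommRing E] [Algebra R E]
  [IsLocalRing E] [Module.Finite R E] [Algebra.FormallyUnramified R E]

/-- in a finite unramified local algebra over a local ring, the maximal ideal is generated by the
maximal ideal of the base -/
theorem maximalIdeal_eq_map_of_unramified :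
    IsLocalRing.maximalIdeal E = (IsLocalRing.maximalIdeal R).map (algebraMap R E) := by
  have hrad : ((IsLocalRing.maximalIdeal R).map (algebraMap R E)).IsRadical :=
    Algebra.FormallyUnramified.isRadical_map_isMaximal (A := R) E (IsLocalRing.maximalIdeal R)
  have hle : (IsLocalRing.maximalIdeal R).map (algebraMap R E) ≤ IsLocalRing.maximalIdeal E := by
    rw [Ideal.map_le_iff_le_comap]
    have hmax : ((IsLocalRing.maximalIdeal E).comap (algebraMap R E)).IsMaximal :=
      Ideal.isMaximal_comap_of_isIntegral_of_isMaximal (IsLocalRing.maximalIdeal E)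
    rw [IsLocalRing.eq_maximalIdeal hmax]
  refine le_antisymm ?_ hle
  rw [← hrad.radical, Ideal.radical_eq_sInf]
  refine le_sInf ?_
  rintro P ⟨hP, hPprime⟩
  haveI := hPprime
  have h1 : (P.comap (algebraMap R E)).IsMaximal := by
    have h2 : IsLocalRing.maximalIdeal R ≤ P.comap (algebraMap R E) :=
      Ideal.map_le_iff_le_comap.mp hP
    have h3 : P.comap (algebraMap R E) ≠ ⊤ := (Ideal.IsPrime.comap (algebraMap R E)).ne_top
    have h4 : P.comap (algebraMap R E) = IsLocalRing.maximalIdeal R :=
      le_antisymm (IsLocalRing.le_maximalIdeal h3) h2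
    rw [h4]
    infer_instance
  have h5 : P.IsMaximal := Ideal.isMaximal_of_isIntegral_of_isMaximal_comap P h1
  rw [IsLocalRing.eq_maximalIdeal h5]

/-- every element of an augmented finite unramified local algebra is a scalar modulo the maximal
ideal of the base -/
theorem sub_aug_mem_map_of_unramified (εE : E →ₐ[R] R) (x : E) :
    x - algebraMap R E (εE x) ∈ (IsLocalRing.maximalIdeal R).map (algebraMap R E) := by
  rw [← maximalIdeal_eq_map_of_unramified]
  have hker : RingHom.ker εE ≤ IsLocalRing.maximalIdeal E := by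
    apply IsLocalRing.le_maximalIdeal
    intro h
    have h1 : (1 : E) ∈ RingHom.ker εE := by rw [h]; trivial
    rw [RingHom.mem_ker, map_one] at h1
    exact one_ne_zero h1
  apply hker
  rw [RingHom.mem_ker, map_sub, AlgHom.commutes, Algebra.algebraMap_self, RingHom.id_apply,
    sub_self]

end unramifiedLocal

section idemFlat

variable {S : Type u} [CommRing S] {A : Type v} [CommRing A] [Algebra S A] {e : A}

/-- the quotient by the complementary idempotent is a direct summand, hence flat -/
theorem flat_quotient_idem [Module.Flat S A] (he : IsIdempotentElem e) :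
    Module.Flat S (A ⧸ Ideal.span ({1 - e} : Set A)) := by
  let i₀ : (A ⧸ Ideal.span ({1 - e} : Set A)) →ₗ[A] A :=
    Submodule.liftQ (Ideal.span ({1 - e} : Set A)) ((LinearMap.mul A A).flip e) (by
      intro x hx
      obtain ⟨a, rfl⟩ := Ideal.mem_span_singleton'.mp hx
      rw [LinearMap.mem_ker, LinearMap.flip_apply, LinearMap.mul_apply', mul_assoc, sub_mul,
        one_mul, he.eq, sub_self, mul_zero])
  refine Module.Flat.of_retract (M := A) (i₀.restrictScalars S)
    (Ideal.Quotient.mkₐ S (Ideal.span ({1 - e} : Set A))).toLinearMap ?_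
  ext x
  obtain ⟨a, rfl⟩ := Ideal.Quotient.mk_surjective x
  show Ideal.Quotient.mk _ (a * e) = Ideal.Quotient.mk _ a
  have h1 : Ideal.Quotient.mk (Ideal.span ({1 - e} : Set A)) e = 1 := by
    have h2 : Ideal.Quotient.mk (Ideal.span ({1 - e} : Set A)) (1 - e) = 0 :=
      Ideal.Quotient.eq_zero_iff_mem.mpr (Ideal.subset_span rfl)
    rw [map_sub, map_one, sub_eq_zero] at h2
    exact h2.symm
  rw [map_mul, h1, mul_one]

end idemFlat

section split

variable {R : Type u} [CommRing R] [IsLocalRing R]
  {A'' : Type v} [CommRing A''] [Algebra R A''] [IsLocalRing A''] [Module.Finite R A'']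
  {A : Type w} [CommRing A] [Algebra R A] [Algebra A'' A] [IsScalarTower R A'' A]
  [Module.Finite R A] [Module.Flat A'' A]

/-- the abstract splitting statement: local augmented base `A''`, augmented flat algebra `A` with
unramified "kernel" and local "unit component" `A/(1-e)`: then `A'' → A/(1-e)` is bijective. -/
theorem bijective_unitComponent_of_unramified_kernel
    (ε'' : A'' →ₐ[R] R) (ε : A →ₐ[R] R)
    (hε : ∀ a, ε (algebraMap A'' A a) = ε'' a)
    [Algebra.FormallyUnramified R (A ⧸ (RingHom.ker ε'').map (algebraMap A'' A))]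
    (e : A) (he : IsIdempotentElem e) (heε : ε e = 1)
    [IsLocalRing (A ⧸ Ideal.span ({1 - e} : Set A))] :
    Function.Bijective (algebraMap A'' (A ⧸ Ideal.span ({1 - e} : Set A))) := by
  classical
  set I : Ideal A := Ideal.span ({1 - e} : Set A) with hI
  set 𝔞 : Ideal A'' := RingHom.ker ε'' with h𝔞
  set J : Ideal A := 𝔞.map (algebraMap A'' A) with hJ
  set L : Ideal A := (IsLocalRing.maximalIdeal A'').map (algebraMap A'' A) with hL
  -- ε kills I and J
  have hεI : I ≤ RingHom.ker ε := by
    rw [hI, Ideal.span_le]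
    intro x hx
    rw [Set.mem_singleton_iff] at hx
    rw [hx, SetLike.mem_coe, RingHom.mem_ker, map_sub, map_one, heε, sub_self]
  have hεJ : J ≤ RingHom.ker ε := by
    rw [hJ, Ideal.map_le_iff_le_comap]
    intro a ha
    rw [Ideal.mem_comap, RingHom.mem_ker, hε]
    exact ha
  have hK : J ⊔ I ≤ RingHom.ker ε := sup_le hεJ hεI
  -- the quotient E
  let E := A ⧸ (J ⊔ I)
  have hne : J ⊔ I ≠ ⊤ := by
    intro h
    have h1 : (1 : A) ∈ RingHom.ker ε := hK (h ▸ trivial)
    rw [RingHom.mem_ker, map_one] at h1
    exact one_ne_zero h1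
  haveI : Nontrivial E := Ideal.Quotient.nontrivial_iff.mpr hne
  haveI : IsLocalRing E :=
    IsLocalRing.of_surjective' (Ideal.Quotient.factor (le_sup_right : I ≤ J ⊔ I))
      (Ideal.Quotient.factor_surjective _)
  haveI : Algebra.FormallyUnramified R E :=
    Algebra.FormallyUnramified.of_surjective (R := R) (A := A ⧸ J) (B := A ⧸ (J ⊔ I))
      (Ideal.Quotient.factorₐ R (le_sup_left : J ≤ J ⊔ I))
      (Ideal.Quotient.factor_surjective (le_sup_left : J ≤ J ⊔ I))
  let εE : E →ₐ[R] R := Ideal.Quotient.liftₐ (J ⊔ I) ε (fun a ha => hK ha)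
  -- the scalars: m_R A ≤ L and J ≤ L
  have h𝔞le : 𝔞 ≤ IsLocalRing.maximalIdeal A'' := by
    apply IsLocalRing.le_maximalIdeal
    intro h
    have h1 : (1 : A'') ∈ RingHom.ker ε'' := by rw [← h𝔞, h]; trivial
    rw [RingHom.mem_ker, map_one] at h1
    exact one_ne_zero h1
  have hJL : J ≤ L := Ideal.map_mono h𝔞le
  have hmL : (IsLocalRing.maximalIdeal R).map (algebraMap R A) ≤ L := by
    rw [IsScalarTower.algebraMap_eq R A'' A, ← Ideal.map_map]
    apply Ideal.map_mono
    rw [Ideal.map_le_iff_le_comap]
    intro r hr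
    rw [Ideal.mem_comap, IsLocalRing.mem_maximalIdeal, mem_nonunits_iff]
    intro hu
    have h2 : IsUnit (ε'' (algebraMap R A'' r)) := hu.map ε''
    rw [AlgHom.commutes, Algebra.algebraMap_self, RingHom.id_apply] at h2
    exact hr h2
  -- every element is a scalar modulo L ⊔ I
  have hmem : ∀ x : A, x - algebraMap R A (ε x) ∈ L ⊔ I := by
    intro x
    have h1 := sub_aug_mem_map_of_unramified εE (Ideal.Quotient.mk (J ⊔ I) x)
    have h2 : εE (Ideal.Quotient.mk (J ⊔ I) x) = ε x := rfl
    rw [h2] at h1
    have h3 : (Ideal.Quotient.mk (J ⊔ I) x : E) - algebraMap R E (ε x)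
        = Ideal.Quotient.mk (J ⊔ I) (x - algebraMap R A (ε x)) := by
      rw [map_sub]; rfl
    rw [h3] at h1
    have h4 : (IsLocalRing.maximalIdeal R).map (algebraMap R E)
        = ((IsLocalRing.maximalIdeal R).map (algebraMap R A)).map (Ideal.Quotient.mk (J ⊔ I)) := by
      rw [Ideal.map_map]; rfl
    rw [h4, Ideal.mem_quotient_iff_mem_sup] at h1
    have h5 : (IsLocalRing.maximalIdeal R).map (algebraMap R A) ⊔ (J ⊔ I) ≤ L ⊔ I :=
      sup_le (hmL.trans le_sup_left) (sup_le (hJL.trans le_sup_left) le_sup_right)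
    exact h5 h1
  haveI : Module.Finite A'' (A ⧸ I) :=
    Module.Finite.of_restrictScalars_finite R A'' (A ⧸ I)
  constructor
  · -- injective
    haveI : Module.Flat A'' (A ⧸ I) := flat_quotient_idem he
    haveI : Module.Free A'' (A ⧸ I) := Module.free_of_flat_of_isLocalRing
    haveI : Nontrivial (A ⧸ I) := inferInstance
    exact FaithfulSMul.algebraMap_injective A'' (A ⧸ I)
  · -- surjective, by Nakayama
    have hN : (⊤ : Submodule A'' (A ⧸ I)) ≤ LinearMap.range (Algebra.linearMap A'' (A ⧸ I)) := by
      refine Submodule.le_of_le_smul_of_le_jacobson_bot (I := IsLocalRing.maximalIdeal A'')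
        Module.Finite.fg_top ?_ ?_
      · rw [IsLocalRing.jacobson_eq_maximalIdeal ⊥ bot_ne_top]
      · intro y _
        obtain ⟨x, rfl⟩ := Ideal.Quotient.mk_surjective y
        have h1 := hmem x
        obtain ⟨l, hl, i, hi, hli⟩ := Submodule.mem_sup.mp h1
        have h2 : Ideal.Quotient.mk I x = Ideal.Quotient.mk I (algebraMap R A (ε x))
            + Ideal.Quotient.mk I l := by
          have : x = algebraMap R A (ε x) + l + i := by rw [add_assoc, hli]; ring
          conv_lhs => rw [this]
          rw [map_add, Ideal.Quotient.eq_zero_iff_mem.mpr hi, add_zero, map_add]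
        rw [h2]
        refine Submodule.add_mem_sup ?_ ?_
        · refine ⟨algebraMap R A'' (ε x), ?_⟩
          rw [Algebra.linearMap_apply, ← IsScalarTower.algebraMap_apply,
            IsScalarTower.algebraMap_apply R A (A ⧸ I)]
          rfl
        · rw [Ideal.smul_top_eq_map]
          have h3 : Ideal.Quotient.mk I l ∈ L.map (Ideal.Quotient.mk I) :=
            Ideal.mem_map_of_mem _ hl
          rw [hL, Ideal.map_map] at h3
          exact h3
    intro y
    obtain ⟨a, ha⟩ := hN (Submodule.mem_top : y ∈ ⊤)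
    exact ⟨a, ha⟩

end split

end Groth.Agent.Helper2.HopfLib
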