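import Groth.Agent.Lib.Helper2.Hopf.TruncPoly

/-!
# Hopf algebras of height at most one (helper2)

Invariant derivations and the truncated polynomial structure of a commutative Hopf algebra over a
field of characteristic `p` whose augmentation ideal is killed by the `p`-th power map.
-/

set_option autoImplicit false
open MvPolynomial
open scoped TensorProduct

namespace Groth.Agent.Helper2.HopfLib

section deriv

variable {R : Type*} [CommRing R] {A : Type*} [CommRing A] [Algebra R A] {n : ℕ}

/-- the chain rule for a derivation applied to a polynomial expression -/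
lemma derivation_aeval (D : Derivation R A A) (x : Fin n → A) (f : MvPolynomial (Fin n) R) :
    D (aeval x f) = ∑ j, aeval x (pderiv j f) * D (x j) := by
  induction f using MvPolynomial.induction_on with
  | C a => simp
  | add f g hf hg => simp only [map_add, hf, hg, add_mul, Finset.sum_add_distrib]
  | mul_X f i hf =>
    rw [map_mul, aeval_X, Derivation.leibniz, hf]
    have h1 : ∀ j, aeval x (pderiv j (f * X i)) * D (x j) =
        x i * (aeval x (pderiv j f) * D (x j)) +
          aeval x f * (aeval x (pderiv j (X i : MvPolynomial (Fin n) R)) * D (x j)) := by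
      intro j
      rw [pderiv_mul, map_add, map_mul, map_mul, aeval_X]
      ring
    rw [Finset.sum_congr rfl (fun j _ => h1 j), Finset.sum_add_distrib, ← Finset.mul_sum,
      ← Finset.mul_sum]
    have h2 : ∑ j, aeval x (pderiv j (X i : MvPolynomial (Fin n) R)) * D (x j) = D (x i) := by
      rw [Finset.sum_eq_single i]
      · rw [pderiv_X_self, map_one, one_mul]
      · intro j _ hj
        rw [pderiv_X_of_ne (Ne.symm hj), map_zero, zero_mul]
      · intro h
        exact absurd (Finset.mem_univ i) h
    rw [h2, smul_eq_mul, smul_eq_mul]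
    ring

/-- a derivation lowers the order with respect to an ideal by at most one -/
lemma derivation_mem_pow (D : Derivation R A A) (I : Ideal A) (m : ℕ) {a : A}
    (ha : a ∈ I ^ (m + 1)) : D a ∈ I ^ m := by
  induction m generalizing a with
  | zero => simp
  | succ m ih =>
    rw [pow_succ] at ha
    refine Submodule.mul_induction_on ha ?_ ?_
    · intro y hy z hz
      rw [Derivation.leibniz, smul_eq_mul, smul_eq_mul]
      refine Ideal.add_mem _ (Ideal.mul_mem_right _ _ hy) ?_
      rw [pow_succ']
      exact Ideal.mul_mem_mul hz (ih hy)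
    · intro y z hy hz
      rw [map_add]
      exact Ideal.add_mem _ hy hz

/-- evaluating at elements of an ideal maps the powers of the ideal of variables into the powers
of the ideal -/
lemma aeval_mem_pow (x : Fin n → A) (I : Ideal A) (hx : ∀ j, x j ∈ I) (m : ℕ)
    {f : MvPolynomial (Fin n) R} (hf : f ∈ idealOfVars (Fin n) R ^ m) : aeval x f ∈ I ^ m := by
  have h1 : Ideal.map (aeval (R := R) x) (idealOfVars (Fin n) R) ≤ I := by
    rw [Ideal.map_span, Ideal.span_le]
    rintro _ ⟨_, ⟨j, rfl⟩, rfl⟩
    rw [aeval_X]
    exact hx j
  have h2 : Ideal.map (aeval (R := R) x) (idealOfVars (Fin n) R ^ m) ≤ I ^ m := by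
    rw [Ideal.map_pow]
    exact Ideal.pow_right_mono h1 m
  exact h2 (Ideal.mem_map_of_mem _ hf)

lemma pderiv_mem_restrictSupport (m : ℕ) (j : Fin n) {f : MvPolynomial (Fin n) R}
    (hf : f ∈ restrictSupport R (RestrExp n m)) :
    pderiv j f ∈ restrictSupport R (RestrExp n m) := by
  rw [mem_restrictSupport_iff] at hf ⊢
  intro s hs
  rw [Finset.mem_coe, mem_support_iff, coeff_pderiv] at hs
  have h1 : coeff (s + Finsupp.single j 1) f ≠ 0 := fun h => hs (by rw [h, zero_mul])
  have h2 := hf (Finset.mem_coe.mpr (mem_support_iff.mpr h1))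
  intro i
  have h3 := h2 i
  simp only [Finsupp.coe_add, Pi.add_apply] at h3
  omega

lemma pderiv_mem_pow_idealOfVars (m : ℕ) (j : Fin n) {f : MvPolynomial (Fin n) R}
    (hf : f ∈ idealOfVars (Fin n) R ^ (m + 1)) : pderiv j f ∈ idealOfVars (Fin n) R ^ m :=
  derivation_mem_pow (pderiv j) _ m hf

end deriv

section invder

variable {k : Type*} [Field k] {H : Type*} [CommRing H] [HopfAlgebra k H]

variable (k H) in
/-- the augmentation ideal -/
noncomputable abbrev augI : Ideal H := RingHom.ker (Bialgebra.counitAlgHom k H)

lemma mem_augI_iff (a : H) : a ∈ augI k H ↔ Coalgebra.counit (R := k) a = 0 := by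
  rw [RingHom.mem_ker]
  rfl

lemma sub_counit_mem (a : H) :
    a - algebraMap k H (Coalgebra.counit (R := k) a) ∈ augI k H := by
  rw [mem_augI_iff, map_sub, Bialgebra.counit_algebraMap, sub_self]

/-- the point derivation attached to a linear form on the cotangent space -/
noncomputable def pointDer (φ : (augI k H).Cotangent →ₗ[k] k) : H →ₗ[k] k where
  toFun a := φ ((augI k H).toCotangent
    ⟨a - algebraMap k H (Coalgebra.counit (R := k) a), sub_counit_mem a⟩)
  map_add' a b := by
    rw [← map_add, ← map_add]
    congr 2
    apply Subtype.ext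
    simp only [map_add, Submodule.coe_add]
    ring
  map_smul' c a := by
    rw [RingHom.id_apply, ← map_smul, ← LinearMap.map_smul_of_tower]
    congr 2
    apply Subtype.ext
    show c • a - algebraMap k H (Coalgebra.counit (R := k) (c • a)) =
      c • (a - algebraMap k H (Coalgebra.counit (R := k) a))
    rw [map_smul, smul_eq_mul, map_mul, smul_sub, Algebra.smul_def c (algebraMap k H _)]

lemma pointDer_apply_of_mem (φ : (augI k H).Cotangent →ₗ[k] k) {a : H} (ha : a ∈ augI k H) :
    pointDer φ a = φ ((augI k H).toCotangent ⟨a, ha⟩) := by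
  show φ _ = φ _
  congr 2
  apply Subtype.ext
  show a - _ = a
  rw [(mem_augI_iff a).mp ha, map_zero, sub_zero]

lemma pointDer_mul (φ : (augI k H).Cotangent →ₗ[k] k) (a b : H) :
    pointDer φ (a * b) = Coalgebra.counit (R := k) a * pointDer φ b +
      pointDer φ a * Coalgebra.counit (R := k) b := by
  set a' : augI k H := ⟨a - algebraMap k H (Coalgebra.counit (R := k) a), sub_counit_mem a⟩
    with ha'
  set b' : augI k H := ⟨b - algebraMap k H (Coalgebra.counit (R := k) b), sub_counit_mem b⟩
    with hb'
  have hab : (a' : H) * (b' : H) ∈ augI k H := Ideal.mul_mem_left _ _ b'.2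
  have h1 : (⟨a * b - algebraMap k H (Coalgebra.counit (R := k) (a * b)),
      sub_counit_mem (a * b)⟩ : augI k H) =
      Coalgebra.counit (R := k) a • b' + Coalgebra.counit (R := k) b • a' +
        ⟨(a' : H) * (b' : H), hab⟩ := by
    apply Subtype.ext
    simp only [Submodule.coe_add, Submodule.coe_smul_of_tower, ha', hb', Bialgebra.counit_mul,
      map_mul, Algebra.smul_def]
    ring
  have h2 : (augI k H).toCotangent ⟨(a' : H) * (b' : H), hab⟩ = 0 := by
    rw [Ideal.toCotangent_eq_zero, pow_two]
    exact Ideal.mul_mem_mul a'.2 b'.2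
  show φ ((augI k H).toCotangent _) = _ * φ ((augI k H).toCotangent b') +
    φ ((augI k H).toCotangent a') * _
  have h3 : ∀ (c : k) (y : augI k H), φ ((augI k H).toCotangent (c • y)) =
      c * φ ((augI k H).toCotangent y) := by
    intro c y
    rw [LinearMap.map_smul_of_tower, LinearMap.map_smul, smul_eq_mul]
  rw [h1, map_add, map_add, h2, map_zero, add_zero, map_add, map_add, h3, h3]
  ring

/-- the translation-invariant linear map attached to a linear form -/
noncomputable def invDerLin (d : H →ₗ[k] k) : H →ₗ[k] H :=
  (TensorProduct.rid k H).toLinearMap ∘ₗ (LinearMap.lTensor H d) ∘ₗ Coalgebra.comul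

lemma rid_lTensor_mul (d : H →ₗ[k] k)
    (hd : ∀ a b, d (a * b) = Coalgebra.counit (R := k) a * d b + d a * Coalgebra.counit (R := k) b)
    (u v : H ⊗[k] H) :
    TensorProduct.rid k H (LinearMap.lTensor H d (u * v)) =
      TensorProduct.rid k H (LinearMap.lTensor H (Coalgebra.counit (R := k) (A := H)) u) *
        TensorProduct.rid k H (LinearMap.lTensor H d v) +
      TensorProduct.rid k H (LinearMap.lTensor H d u) *
        TensorProduct.rid k H (LinearMap.lTensor H (Coalgebra.counit (R := k) (A := H)) v) := by
  induction u using TensorProduct.induction_on with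
  | zero => simp only [zero_mul, map_zero, add_zero]
  | tmul a b =>
    induction v using TensorProduct.induction_on with
    | zero => simp only [mul_zero, map_zero, add_zero]
    | tmul a' b' =>
      rw [Algebra.TensorProduct.tmul_mul_tmul, LinearMap.lTensor_tmul, LinearMap.lTensor_tmul,
        LinearMap.lTensor_tmul, LinearMap.lTensor_tmul, LinearMap.lTensor_tmul,
        TensorProduct.rid_tmul, TensorProduct.rid_tmul, TensorProduct.rid_tmul,
        TensorProduct.rid_tmul, TensorProduct.rid_tmul, hd, add_smul, smul_mul_smul_comm,
        smul_mul_smul_comm]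
    | add y z hy hz =>
      rw [mul_add, map_add, map_add, hy, hz, map_add, map_add, map_add, map_add]
      ring
  | add y z hy hz =>
    rw [add_mul, map_add, map_add, hy, hz, map_add, map_add, map_add, map_add]
    ring

lemma invDerLin_mul (d : H →ₗ[k] k)
    (hd : ∀ a b, d (a * b) = Coalgebra.counit (R := k) a * d b + d a * Coalgebra.counit (R := k) b)
    (a b : H) : invDerLin d (a * b) = a * invDerLin d b + invDerLin d a * b := by
  have h1 : ∀ c : H, TensorProduct.rid k H
      (LinearMap.lTensor H (Coalgebra.counit (R := k) (A := H)) (Coalgebra.comul (R := k) c)) =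
      c := by
    intro c
    rw [Coalgebra.lTensor_counit_comul, TensorProduct.rid_tmul, one_smul]
  show TensorProduct.rid k H (LinearMap.lTensor H d (Coalgebra.comul (R := k) (a * b))) = _
  rw [Bialgebra.comul_mul, rid_lTensor_mul d hd, h1, h1]
  rfl

/-- the translation-invariant derivation attached to a point derivation -/
noncomputable def invDer (d : H →ₗ[k] k)
    (hd : ∀ a b, d (a * b) = Coalgebra.counit (R := k) a * d b +
      d a * Coalgebra.counit (R := k) b) : Derivation k H H :=
  Derivation.mk' (invDerLin d) (fun a b => by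
    rw [invDerLin_mul d hd, smul_eq_mul, smul_eq_mul]
    ring)

lemma counit_invDer (d : H →ₗ[k] k)
    (hd : ∀ a b, d (a * b) = Coalgebra.counit (R := k) a * d b +
      d a * Coalgebra.counit (R := k) b) (a : H) :
    Coalgebra.counit (R := k) (invDer d hd a) = d a := by
  have key : ∀ u : H ⊗[k] H, Coalgebra.counit (R := k)
      (TensorProduct.rid k H (LinearMap.lTensor H d u)) =
      d (TensorProduct.lid k H
        (LinearMap.rTensor H (Coalgebra.counit (R := k) (A := H)) u)) := by
    intro u
    induction u using TensorProduct.induction_on with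
    | zero => simp only [map_zero]
    | tmul a b =>
      rw [LinearMap.lTensor_tmul, TensorProduct.rid_tmul, LinearMap.rTensor_tmul,
        TensorProduct.lid_tmul, map_smul, map_smul, smul_eq_mul, smul_eq_mul, mul_comm]
    | add y z hy hz => rw [map_add, map_add, map_add, hy, hz, map_add, map_add, map_add]
  show Coalgebra.counit (R := k)
    (TensorProduct.rid k H (LinearMap.lTensor H d (Coalgebra.comul (R := k) a))) = _
  rw [key, Coalgebra.rTensor_counit_comul, TensorProduct.lid_tmul, one_smul]

end invder

section fieldcase

variable {k : Type*} [Field k] {H : Type*} [CommRing H] [HopfAlgebra k H] {n : ℕ}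

lemma counit_aeval (x : Fin n → H) (hx : ∀ j, x j ∈ augI k H) (f : MvPolynomial (Fin n) k) :
    Coalgebra.counit (R := k) (aeval x f) = coeff 0 f := by
  have h1 : (Bialgebra.counitAlgHom k H).comp (aeval x) =
      aeval (fun _ : Fin n => (0 : k)) := by
    apply MvPolynomial.algHom_ext
    intro j
    rw [AlgHom.comp_apply, aeval_X, aeval_X]
    exact (mem_augI_iff _).mp (hx j)
  have h2 := congrArg (fun g => g f) h1
  simp only [AlgHom.comp_apply] at h2
  have h3 : aeval (fun _ : Fin n => (0 : k)) f = constantCoeff f := by
    have := aeval_zero (R := k) (S₁ := k) (σ := Fin n) f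
    simpa using this
  rw [h3] at h2
  exact h2

/-- the order estimate: a restricted polynomial whose value lies in `I ^ m` has order `≥ m` -/
theorem restricted_order (p : ℕ) [Fact p.Prime] [CharP k p]
    (b : Module.Basis (Fin n) k (augI k H).Cotangent) (x : Fin n → H)
    (hxI : ∀ j, x j ∈ augI k H)
    (hxb : ∀ j, (augI k H).toCotangent ⟨x j, hxI j⟩ = b j) (m : ℕ) :
    ∀ f : MvPolynomial (Fin n) k, f ∈ restrictSupport k (RestrExp n (p - 1)) →
      aeval x f ∈ (augI k H) ^ m → f ∈ idealOfVars (Fin n) k ^ m := by
  induction m with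
  | zero =>
    intro f _ _
    simp
  | succ m ih =>
    intro f hfV hf
    have hfm : f ∈ idealOfVars (Fin n) k ^ m :=
      ih f hfV (Ideal.pow_le_pow_right (Nat.le_succ m) hf)
    rw [mem_pow_idealOfVars_iff']
    intro s hs
    rcases Nat.lt_succ_iff_lt_or_eq.mp hs with hlt | heq
    · exact (mem_pow_idealOfVars_iff' m f).mp hfm s hlt
    · -- the critical degree
      rcases Nat.eq_zero_or_pos m with hm0 | hmpos
      · -- degree zero
        subst hm0
        have hs0 : s = 0 := by
          rwa [Finsupp.degree_eq_zero_iff] at heq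
        subst hs0
        rw [← counit_aeval x hxI f]
        have : aeval x f ∈ augI k H := by simpa using hf
        exact (mem_augI_iff _).mp this
      · obtain ⟨m', rfl⟩ : ∃ m', m = m' + 1 := ⟨m - 1, by omega⟩
        -- choose a variable occurring in `s`
        have hsne : s ≠ 0 := by
          intro h
          rw [h, map_zero] at heq
          omega
        obtain ⟨i, hi⟩ : ∃ i, s i ≠ 0 := by
          by_contra hcon
          simp only [not_exists, not_not] at hcon
          exact hsne (Finsupp.ext hcon)
        -- the invariant derivation dual to `x i`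
        let D : Derivation k H H := invDer (pointDer (b.coord i)) (pointDer_mul (b.coord i))
        have hDx : ∀ j, Coalgebra.counit (R := k) (D (x j)) = if j = i then 1 else 0 := by
          intro j
          rw [counit_invDer, pointDer_apply_of_mem _ (hxI j), hxb, Module.Basis.coord_apply,
            Module.Basis.repr_self, Finsupp.single_apply]
        have hr : ∀ j, D (x j) - algebraMap k H (if j = i then 1 else 0) ∈ augI k H := by
          intro j
          rw [← hDx j]
          exact sub_counit_mem _
        -- `aeval x (pderiv i f) ∈ I ^ (m' + 1)`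
        have h1 : D (aeval x f) ∈ (augI k H) ^ (m' + 1) := derivation_mem_pow D _ _ hf
        have h2 : aeval x (pderiv i f) = D (aeval x f) -
            ∑ j, aeval x (pderiv j f) * (D (x j) - algebraMap k H (if j = i then 1 else 0)) := by
          rw [derivation_aeval D x f, ← Finset.sum_sub_distrib]
          have h3 : ∀ j, aeval x (pderiv j f) * D (x j) -
              aeval x (pderiv j f) * (D (x j) - algebraMap k H (if j = i then 1 else 0)) =
              if j = i then aeval x (pderiv j f) else 0 := by
            intro j
            by_cases hj : j = i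
            · rw [if_pos hj, if_pos hj, map_one]
              ring
            · rw [if_neg hj, if_neg hj, map_zero]
              ring
          rw [Finset.sum_congr rfl (fun j _ => h3 j), Finset.sum_ite_eq' Finset.univ i]
          simp
        have h4 : aeval x (pderiv i f) ∈ (augI k H) ^ (m' + 1) := by
          rw [h2]
          refine Ideal.sub_mem _ h1 (Ideal.sum_mem _ (fun j _ => ?_))
          rw [pow_succ]
          exact Ideal.mul_mem_mul
            (aeval_mem_pow x _ hxI m' (pderiv_mem_pow_idealOfVars m' j hfm)) (hr j)
        have h5 : pderiv i f ∈ idealOfVars (Fin n) k ^ (m' + 1) :=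
          ih _ (pderiv_mem_restrictSupport (p - 1) i hfV) h4
        -- read off the coefficient
        have hs' : s - Finsupp.single i 1 + Finsupp.single i 1 = s := by
          refine Finsupp.ext (fun j => ?_)
          by_cases hj : j = i
          · subst hj
            simp only [Finsupp.coe_add, Finsupp.coe_tsub, Pi.add_apply, Pi.sub_apply,
              Finsupp.single_eq_same]
            omega
          · simp only [Finsupp.coe_add, Finsupp.coe_tsub, Pi.add_apply, Pi.sub_apply,
              Finsupp.single_eq_of_ne hj, Nat.sub_zero, Nat.add_zero]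
        have hdeg : (s - Finsupp.single i 1).degree < m' + 1 := by
          have h6 : (s - Finsupp.single i 1 + Finsupp.single i 1).degree = m' + 1 := by
            rw [hs']; exact heq
          rw [map_add, Finsupp.degree_single] at h6
          omega
        have h7 := (mem_pow_idealOfVars_iff' (m' + 1) _).mp h5 _ hdeg
        rw [coeff_pderiv, hs'] at h7
        have h8 : (((s - Finsupp.single i 1 : Fin n →₀ ℕ) i : ℕ) : k) + 1 = ((s i : ℕ) : k) := by
          have : (s - Finsupp.single i 1 : Fin n →₀ ℕ) i + 1 = s i := by
            simp only [Finsupp.coe_tsub, Pi.sub_apply, Finsupp.single_eq_same]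
            omega
          rw [← this]
          push_cast
          rfl
        rw [h8] at h7
        by_cases hsupp : coeff s f = 0
        · exact hsupp
        · have hsV := hfV (Finset.mem_coe.mpr (mem_support_iff.mpr hsupp)) i
          have hp := (Fact.out : p.Prime).pos
          have h9 : ((s i : ℕ) : k) ≠ 0 := by
            intro h0
            rw [CharP.cast_eq_zero_iff k p] at h0
            exact hi (Nat.eq_zero_of_dvd_of_lt h0 (by omega))
          exact (mul_eq_zero.mp h7).resolve_right h9

/-- independence of the restricted monomials -/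
theorem restricted_eq_zero (p : ℕ) [Fact p.Prime] [CharP k p]
    (b : Module.Basis (Fin n) k (augI k H).Cotangent) (x : Fin n → H)
    (hxI : ∀ j, x j ∈ augI k H)
    (hxb : ∀ j, (augI k H).toCotangent ⟨x j, hxI j⟩ = b j)
    {f : MvPolynomial (Fin n) k} (hfV : f ∈ restrictSupport k (RestrExp n (p - 1)))
    (hf : aeval x f = 0) : f = 0 := by
  ext s
  have h := restricted_order p b x hxI hxb (s.degree + 1) f hfV (by rw [hf]; exact zero_mem _)
  exact (mem_pow_idealOfVars_iff' _ f).mp h s (Nat.lt_succ_self _)

lemma exists_linear_approx (b : Module.Basis (Fin n) k (augI k H).Cotangent) (x : Fin n → H)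
    (hxI : ∀ j, x j ∈ augI k H)
    (hxb : ∀ j, (augI k H).toCotangent ⟨x j, hxI j⟩ = b j) {a : H} (ha : a ∈ augI k H) :
    ∃ g ∈ idealOfVars (Fin n) k, a - aeval x g ∈ (augI k H) ^ 2 := by
  set c := b.repr ((augI k H).toCotangent ⟨a, ha⟩) with hc
  refine ⟨∑ j, c j • X j, ?_, ?_⟩
  · refine Ideal.sum_mem _ (fun j _ => ?_)
    rw [smul_eq_C_mul]
    exact Ideal.mul_mem_left _ _ (Ideal.subset_span ⟨j, rfl⟩)
  · have h1 : (augI k H).toCotangent ⟨a, ha⟩ =
        (augI k H).toCotangent (∑ j, c j • (⟨x j, hxI j⟩ : augI k H)) := by
      rw [map_sum]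
      conv_lhs => rw [← b.sum_repr ((augI k H).toCotangent ⟨a, ha⟩)]
      refine Finset.sum_congr rfl (fun j _ => ?_)
      rw [LinearMap.map_smul_of_tower, hxb]
    rw [Ideal.toCotangent_eq] at h1
    have h2 : aeval x (∑ j, c j • (X j : MvPolynomial (Fin n) k)) = ∑ j, c j • x j := by
      rw [map_sum]
      refine Finset.sum_congr rfl (fun j _ => ?_)
      rw [map_smul, aeval_X]
    rw [h2]
    convert h1 using 2
    simp only [Submodule.coe_sum, Submodule.coe_smul_of_tower]

lemma exists_approx (b : Module.Basis (Fin n) k (augI k H).Cotangent) (x : Fin n → H)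
    (hxI : ∀ j, x j ∈ augI k H)
    (hxb : ∀ j, (augI k H).toCotangent ⟨x j, hxI j⟩ = b j) (m : ℕ) :
    ∀ a ∈ (augI k H) ^ m, ∃ g ∈ idealOfVars (Fin n) k ^ m,
      a - aeval x g ∈ (augI k H) ^ (m + 1) := by
  induction m with
  | zero =>
    intro a _
    refine ⟨C (Coalgebra.counit (R := k) a), by simp, ?_⟩
    rw [zero_add, pow_one, aeval_C]
    exact sub_counit_mem a
  | succ m ih =>
    rcases Nat.eq_zero_or_pos m with hm0 | hmpos
    · subst hm0
      intro a ha
      rw [zero_add, pow_one] at ha
      obtain ⟨g, hg, h⟩ := exists_linear_approx b x hxI hxb ha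
      exact ⟨g, by simpa using hg, h⟩
    · intro a ha
      rw [pow_succ] at ha
      refine Submodule.mul_induction_on ha ?_ ?_
      · intro y hy z hz
        obtain ⟨gy, hgy, h1⟩ := ih y hy
        obtain ⟨gz, hgz, h2⟩ := exists_linear_approx b x hxI hxb hz
        refine ⟨gy * gz, ?_, ?_⟩
        · rw [pow_succ]
          exact Ideal.mul_mem_mul hgy hgz
        · have e : y * z - aeval x (gy * gz) =
              y * (z - aeval x gz) + (y - aeval x gy) * aeval x gz := by
            rw [map_mul]; ring
          rw [e]
          refine Ideal.add_mem _ ?_ ?_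
          · have : (augI k H) ^ (m + 1 + 1) = (augI k H) ^ m * (augI k H) ^ 2 := by
              rw [← pow_add]
            rw [this]
            exact Ideal.mul_mem_mul hy h2
          · rw [pow_succ ((augI k H)) (m + 1)]
            refine Ideal.mul_mem_mul h1 ?_
            have := aeval_mem_pow x (augI k H) hxI 1 (f := gz) (by simpa using hgz)
            simpa using this
      · rintro y z ⟨gy, hgy, h1⟩ ⟨gz, hgz, h2⟩
        refine ⟨gy + gz, Ideal.add_mem _ hgy hgz, ?_⟩
        have e : y + z - aeval x (gy + gz) = (y - aeval x gy) + (z - aeval x gz) := by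
          rw [map_add]; ring
        rw [e]
        exact Ideal.add_mem _ h1 h2

lemma exists_approx' (b : Module.Basis (Fin n) k (augI k H).Cotangent) (x : Fin n → H)
    (hxI : ∀ j, x j ∈ augI k H)
    (hxb : ∀ j, (augI k H).toCotangent ⟨x j, hxI j⟩ = b j) (m : ℕ) (a : H) :
    ∃ f : MvPolynomial (Fin n) k, a - aeval x f ∈ (augI k H) ^ m := by
  induction m with
  | zero => exact ⟨0, by simp⟩
  | succ m ih =>
    obtain ⟨f, hf⟩ := ih
    obtain ⟨g, -, hg⟩ := exists_approx b x hxI hxb m _ hf
    refine ⟨f + g, ?_⟩
    have e : a - aeval x (f + g) = a - aeval x f - aeval x g := by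
      rw [map_add]; ring
    rw [e]
    exact hg

/-- the restricted monomials in lifts of a basis of the cotangent space form a basis of a
finite-dimensional Hopf algebra of height at most one -/
theorem heightOne_monFam_bijective [Module.Finite k H] (p : ℕ) [Fact p.Prime] [CharP k p]
    (h1 : ∀ f : H, Coalgebra.counit (R := k) f = 0 → f ^ p = 0)
    (b : Module.Basis (Fin n) k (augI k H).Cotangent) (x : Fin n → H)
    (hxI : ∀ j, x j ∈ augI k H)
    (hxb : ∀ j, (augI k H).toCotangent ⟨x j, hxI j⟩ = b j) :
    Function.Bijective (Finsupp.linearCombination k (monFam k (p - 1) x)) := by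
  have hp : 0 < p := (Fact.out : p.Prime).pos
  constructor
  · rw [injective_iff_map_eq_zero]
    intro l hl
    have h2 := aeval_eq_linearCombination (R := k) (p - 1) x
      ((basisRestrictSupport k (RestrExp n (p - 1))).repr.symm l)
    rw [LinearEquiv.apply_symm_apply, hl] at h2
    have h3 := restricted_eq_zero p b x hxI hxb
      ((basisRestrictSupport k (RestrExp n (p - 1))).repr.symm l).2 h2
    have h4 : (basisRestrictSupport k (RestrExp n (p - 1))).repr.symm l = 0 :=
      Subtype.ext h3
    rwa [LinearEquiv.map_eq_zero_iff] at h4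
  · intro a
    -- nilpotency of the augmentation ideal
    haveI : IsNoetherianRing H := IsNoetherianRing.of_finite k H
    have hnil : IsNilpotent (augI k H) := by
      rw [Ideal.FG.isNilpotent_iff_le_nilradical (IsNoetherian.noetherian _)]
      intro y hy
      exact ⟨p, h1 y ((mem_augI_iff y).mp hy)⟩
    obtain ⟨N, hN⟩ := hnil
    obtain ⟨f, hf⟩ := exists_approx' b x hxI hxb N a
    rw [hN] at hf
    have hf' : a = aeval x f := by
      have : a - aeval x f = 0 := by simpa using hf
      exact sub_eq_zero.mp this
    obtain ⟨v, hv, hfv⟩ := exists_restr_sub_mem (R := k) p hp f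
    have hJ : aeval x (f - v) = 0 := by
      have : Ideal.span (Set.range fun i : Fin n => (X i : MvPolynomial (Fin n) k) ^ p) ≤
          RingHom.ker (aeval (R := k) x) := by
        rw [Ideal.span_le]
        rintro _ ⟨i, rfl⟩
        rw [SetLike.mem_coe, RingHom.mem_ker, map_pow, aeval_X]
        exact h1 _ ((mem_augI_iff _).mp (hxI i))
      exact this hfv
    rw [map_sub, sub_eq_zero] at hJ
    refine ⟨(basisRestrictSupport k (RestrExp n (p - 1))).repr ⟨v, hv⟩, ?_⟩
    rw [← aeval_eq_linearCombination (R := k) (p - 1) x ⟨v, hv⟩, hf', hJ]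

instance finite_cotangent_augI [Module.Finite k H] : Module.Finite k (augI k H).Cotangent := by
  haveI : Module.Finite k (augI k H) :=
    Module.Finite.of_injective ((augI k H).subtype.restrictScalars k) Subtype.val_injective
  exact Module.Finite.of_surjective ((augI k H).toCotangent.restrictScalars k)
    (augI k H).toCotangent_surjective

/-- existence of lifts of a basis of the cotangent space -/
lemma exists_lift_basis (b : Module.Basis (Fin n) k (augI k H).Cotangent) :
    ∃ (x : Fin n → H) (hxI : ∀ j, x j ∈ augI k H),
      ∀ j, (augI k H).toCotangent ⟨x j, hxI j⟩ = b j := by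
  choose y hy using fun j => (augI k H).toCotangent_surjective (b j)
  exact ⟨fun j => (y j : H), fun j => (y j).2, fun j => hy j⟩

/-- the order of a finite group scheme of height at most one -/
theorem finrank_heightOne [Module.Finite k H] (p : ℕ) [Fact p.Prime] [CharP k p]
    (h1 : ∀ f : H, Coalgebra.counit (R := k) f = 0 → f ^ p = 0) :
    Module.finrank k H = p ^ Module.finrank k (augI k H).Cotangent := by
  have b := Module.finBasis k (augI k H).Cotangent
  obtain ⟨x, hxI, hxb⟩ := exists_lift_basis b
  have h := finrank_of_monFam_bijective (R := k) (p - 1) x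
    (heightOne_monFam_bijective p h1 b x hxI hxb)
  have hp : 0 < p := (Fact.out : p.Prime).pos
  rw [h, Nat.sub_add_cancel hp]

/-- the algebra structure of a finite group scheme of height at most one -/
theorem nonempty_algEquiv_heightOne [Module.Finite k H] (p : ℕ) [Fact p.Prime] [CharP k p]
    (h1 : ∀ f : H, Coalgebra.counit (R := k) f = 0 → f ^ p = 0) (d : ℕ)
    (hd : Module.finrank k (augI k H).Cotangent = d) :
    Nonempty (H ≃ₐ[k] (MvPolynomial (Fin d) k ⧸
      Ideal.span (Set.range fun i : Fin d => (X i : MvPolynomial (Fin d) k) ^ p))) := by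
  subst hd
  have b := Module.finBasis k (augI k H).Cotangent
  obtain ⟨x, hxI, hxb⟩ := exists_lift_basis b
  have hp : 0 < p := (Fact.out : p.Prime).pos
  exact nonempty_algEquiv_truncPoly (R := k) p hp x
    (fun i => h1 _ ((mem_augI_iff _).mp (hxI i)))
    (heightOne_monFam_bijective p h1 b x hxI hxb)

end fieldcase

end Groth.Agent.Helper2.HopfLib
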