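import Groth.Agent.Lib.Helper2.Hopf.HeightOne
import Groth.Agent.Lib.Helper2.Hopf.DedekindHopfIdeal

/-!
# Group schemes of height at most one over a local ring (helper2)
-/

set_option autoImplicit false
open MvPolynomial
open scoped TensorProduct

namespace Groth.Agent.Helper2.HopfLib

universe u

section localcase

variable {R : Type u} [CommRing R] [IsLocalRing R] {A : Type u} [CommRing A] [HopfAlgebra R A]

local notation "κ" => IsLocalRing.ResidueField R

/-- lifting elements of the augmentation ideal of the closed fibre -/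
lemma exists_lift_counit_zero (y : κ ⊗[R] A) (hy : Coalgebra.counit (R := κ) y = 0) :
    ∃ a : A, Coalgebra.counit (R := R) a = 0 ∧ (1 : κ) ⊗ₜ[R] a = y := by
  obtain ⟨a₀, rfl⟩ := TensorProduct.mk_surjective R A κ Ideal.Quotient.mk_surjective y
  have h0 : algebraMap R κ (Coalgebra.counit (R := R) a₀) = 0 := by
    rw [← counit_incR (R := R) (K := κ) a₀]
    exact hy
  refine ⟨a₀ - algebraMap R A (Coalgebra.counit (R := R) a₀), ?_, ?_⟩
  · rw [map_sub, Bialgebra.counit_algebraMap, sub_self]
  · show _ = (1 : κ) ⊗ₜ[R] a₀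
    rw [TensorProduct.tmul_sub, Algebra.algebraMap_eq_smul_one, TensorProduct.tmul_smul,
      TensorProduct.smul_tmul', Algebra.smul_def, mul_one, h0, TensorProduct.zero_tmul, sub_zero]

/-- a finite flat group scheme of height at most one over a local ring of characteristic `p` is a
truncated polynomial algebra -/
theorem nonempty_algEquiv_heightOne_local (p : ℕ) [Fact p.Prime] [CharP R p]
    [Algebra.FiniteType R A] [Module.Flat R A]
    (h1 : ∀ a : A, Coalgebra.counit (R := R) a = 0 → a ^ p = 0) :
    ∃ n : ℕ, Nonempty (A ≃ₐ[R] (MvPolynomial (Fin n) R ⧸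
      Ideal.span (Set.range fun i : Fin n => (X i : MvPolynomial (Fin n) R) ^ p))) := by
  have hp : 0 < p := (Fact.out : p.Prime).pos
  -- finiteness
  haveI hint : Algebra.IsIntegral R A := by
    refine ⟨fun a => ?_⟩
    have e : a = algebraMap R A (Coalgebra.counit (R := R) a) +
        (a - algebraMap R A (Coalgebra.counit (R := R) a)) := by ring
    rw [e]
    have h0 : Coalgebra.counit (R := R) (a - algebraMap R A (Coalgebra.counit (R := R) a)) = 0 := by
      rw [map_sub, Bialgebra.counit_algebraMap, sub_self]
    refine IsIntegral.add isIntegral_algebraMap (IsIntegral.of_pow hp ?_)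
    rw [h1 _ h0]
    exact isIntegral_zero
  haveI hfin : Module.Finite R A := Algebra.IsIntegral.finite
  -- the closed fibre
  haveI : CharP κ p := by
    rw [CharP.charP_iff_prime_eq_zero (Fact.out : p.Prime)]
    have : ((p : R) : R) = 0 := CharP.cast_eq_zero R p
    have h2 := congrArg (algebraMap R κ) this
    rwa [map_natCast, map_zero] at h2
  have h1κ : ∀ f : κ ⊗[R] A, Coalgebra.counit (R := κ) f = 0 → f ^ p = 0 := by
    intro f hf
    obtain ⟨a, ha, rfl⟩ := exists_lift_counit_zero f hf
    rw [Algebra.TensorProduct.tmul_pow, h1 a ha, TensorProduct.tmul_zero]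
  set n := Module.finrank κ (augI κ (κ ⊗[R] A)).Cotangent with hn
  have b := Module.finBasis κ (augI κ (κ ⊗[R] A)).Cotangent
  obtain ⟨x, hxI, hxb⟩ := exists_lift_basis b
  have hbij := heightOne_monFam_bijective p h1κ b x hxI hxb
  -- lifting the generators
  choose x' hx'0 hx'1 using fun j =>
    exists_lift_counit_zero (x j) ((mem_augI_iff _).mp (hxI j))
  refine ⟨n, ?_⟩
  refine nonempty_algEquiv_truncPoly (R := R) p hp x' (fun i => h1 _ (hx'0 i)) ?_
  refine Module.IsLocalRing.linearCombination_bijective_of_flat _ ?_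
  have hcomp : (TensorProduct.mk R κ A 1 ∘ monFam R (p - 1) x') = monFam κ (p - 1) x := by
    funext s
    show (1 : κ) ⊗ₜ[R] (aeval x' (monomial s.1 (1 : R))) = aeval x (monomial s.1 (1 : κ))
    rw [aeval_monomial, aeval_monomial, map_one, map_one, one_mul, one_mul]
    have h2 : ∀ (t : Fin n →₀ ℕ), (1 : κ) ⊗ₜ[R] (t.prod fun i e => x' i ^ e) =
        t.prod fun i e => x i ^ e := by
      intro t
      have h3 := map_finsuppProd (Algebra.TensorProduct.includeRight : A →ₐ[R] κ ⊗[R] A) t
        (fun i e => x' i ^ e)
      rw [Algebra.TensorProduct.includeRight_apply] at h3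
      rw [h3]
      refine Finsupp.prod_congr (fun i _ => ?_)
      rw [map_pow, Algebra.TensorProduct.includeRight_apply, hx'1]
    exact h2 s.1
  rw [hcomp]
  exact hbij

end localcase

end Groth.Agent.Helper2.HopfLib
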