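import Mathlib
import Groth.Agent.Lib.Helper7.Hensel.FiniteLocal

set_option autoImplicit false

open Polynomial

namespace Groth.Agent.Helper2.HopfLib

universe u v

/-- henselian local rings transfer along ring isomorphisms -/
theorem henselianLocalRing_of_ringEquiv {R : Type u} {S : Type v} [CommRing R] [CommRing S]
    [HenselianLocalRing R] (e : R ≃+* S) : HenselianLocalRing S := by
  haveI : IsLocalRing S := e.isLocalRing
  have hmax : ∀ s : S, s ∈ IsLocalRing.maximalIdeal S ↔ e.symm s ∈ IsLocalRing.maximalIdeal R := by
    intro s
    rw [IsLocalRing.mem_maximalIdeal, IsLocalRing.mem_maximalIdeal, mem_nonunits_iff,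
      mem_nonunits_iff, not_iff_not]
    constructor
    · intro h
      exact h.map e.symm
    · intro h
      have := h.map e
      rwa [RingEquiv.apply_symm_apply] at this
  refine { is_henselian := ?_ }
  intro f hf a₀ h₁ h₂
  have hev : ∀ (g : S[X]) (s : S), eval (e.symm s) (g.map (e.symm : S →+* R)) =
      e.symm (eval s g) := by
    intro g s
    rw [eval_map]
    exact eval₂_at_apply (e.symm : S →+* R) s
  have key := HenselianLocalRing.is_henselian (f.map (e.symm : S →+* R)) (hf.map _) (e.symm a₀)
    (by
      rw [hev]
      exact (hmax _).mp h₁)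
    (by
      rw [derivative_map, hev]
      exact h₂.map e.symm)
  obtain ⟨a, ha, ha'⟩ := key
  refine ⟨e a, ?_, ?_⟩
  · rw [IsRoot.def] at ha ⊢
    have h3 : (f.map (e.symm : S →+* R)).eval a = e.symm (f.eval (e a)) := by
      rw [← hev, RingEquiv.symm_apply_apply]
    rw [h3] at ha
    have := congrArg e ha
    rwa [RingEquiv.apply_symm_apply, map_zero] at this
  · rw [hmax, map_sub, RingEquiv.symm_apply_apply]
    exact ha'

/-- a local ring finite over a henselian local ring is henselian (universe polymorphic) -/
theorem henselianLocalRing_of_finite' (R : Type u) [CommRing R] [HenselianLocalRing R]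
    (S : Type v) [CommRing S] [IsLocalRing S] [Algebra R S] [Module.Finite R S] :
    HenselianLocalRing S := by
  let R' := ULift.{v} R
  let S' := ULift.{u} S
  haveI : HenselianLocalRing R' := henselianLocalRing_of_ringEquiv (ULift.ringEquiv (R := R)).symm
  haveI : IsLocalRing S' := (ULift.ringEquiv (R := S)).symm.isLocalRing
  letI : Algebra R' S' := ULift.algebra' R S'
  haveI : Module.Finite R' S' := Module.Finite.of_restrictScalars_finite R R' S'
  haveI : HenselianLocalRing S' :=
    Groth.Agent.Helper7.Hensel.henselianLocalRing_of_finite R' S'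
  exact henselianLocalRing_of_ringEquiv (ULift.ringEquiv (R := S))

end Groth.Agent.Helper2.HopfLib
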