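import Mathlib
import Groth.Prelude.Def_W4c5ffgsreadingcourseOT

/-!
# Power maps and eigenspaces of the augmentation ideal (helper2)
-/

set_option autoImplicit false
open scoped TensorProduct
open WithConv

namespace Groth.Agent.Helper2.OT

universe u

section powconv

variable {R : Type u} [CommRing R] {A : Type u} [CommRing A] [HopfAlgebra R A]

/-- composing a point with the `n`-th power map gives the `n`-th power of the point -/
lemma comp_powConv {B : Type*} [CommRing B] [Algebra R B] (φ : A →ₐ[R] B) (n : ℕ) :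
    φ.comp (SGA3b.powConv R A n) = ofConv ((toConv φ) ^ n) := by
  unfold SGA3b.powConv
  induction n with
  | zero =>
    rw [pow_zero, pow_zero]
    ext a
    show φ (algebraMap R A (Coalgebra.counit (R := R) a)) = algebraMap R B _
    rw [AlgHom.commutes]
    rfl
  | succ n ih =>
    rw [pow_succ, pow_succ, AlgHom.comp_convMul_distrib, ih]
    rfl

lemma powConv_comp (a b : ℕ) :
    (SGA3b.powConv R A a).comp (SGA3b.powConv R A b) = SGA3b.powConv R A (a * b) := by
  rw [comp_powConv]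
  unfold SGA3b.powConv
  rw [toConv_ofConv, ← pow_mul]

lemma powConv_one : SGA3b.powConv R A 1 = AlgHom.id R A := by
  unfold SGA3b.powConv
  rw [pow_one]

lemma counit_powConv (n : ℕ) (a : A) :
    Coalgebra.counit (R := R) (SGA3b.powConv R A n a) = Coalgebra.counit (R := R) a := by
  have h1 := comp_powConv (Bialgebra.counitAlgHom R A) n
  have h2 : toConv (Bialgebra.counitAlgHom R A) = 1 := by
    rw [AlgHom.convOne_def]
    congr 1
  rw [h2, one_pow] at h1
  have h3 := congrArg (fun g : A →ₐ[R] R => g a) h1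
  exact h3

lemma powConv_mod (p : ℕ) (hp : (toConv (AlgHom.id R A)) ^ p = 1) (n : ℕ) :
    SGA3b.powConv R A n = SGA3b.powConv R A (n % p) := by
  unfold SGA3b.powConv
  conv_lhs => rw [← Nat.mod_add_div n p, pow_add, pow_mul, hp, one_pow, mul_one]

end powconv

section sums

variable {R : Type u} [CommRing R]

lemma sum_char_eq_zero {G : Type*} [Group G] [Fintype G] (ψ : G →* Rˣ) (g : G)
    (hg : IsUnit (((ψ g : Rˣ) : R) - 1)) : ∑ m : G, ((ψ m : Rˣ) : R) = 0 := by
  have h1 : ∑ m : G, ((ψ m : Rˣ) : R) = ((ψ g : Rˣ) : R) * ∑ m : G, ((ψ m : Rˣ) : R) := by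
    rw [Finset.mul_sum, ← Equiv.sum_comp (Equiv.mulLeft g)]
    refine Finset.sum_congr rfl fun m _ => ?_
    simp [map_mul]
  have h2 : (((ψ g : Rˣ) : R) - 1) * ∑ m : G, ((ψ m : Rˣ) : R) = 0 := by
    rw [sub_mul, one_mul, ← h1, sub_self]
  exact (hg.mul_right_eq_zero).mp h2

variable (p : ℕ) [Fact p.Prime] (χ : (ZMod p)ˣ →* Rˣ)
  (hχ : ∀ m : (ZMod p)ˣ, m ≠ 1 → IsUnit ((χ m : R) - 1))

include hχ in
lemma sum_chi_pow (c : (ZMod p)ˣ) (hc : c ≠ 1) :
    ∑ i ∈ Finset.range (p - 1), ((χ c : Rˣ) : R) ^ i = 0 := by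
  have h1 := geom_sum_mul ((χ c : Rˣ) : R) (p - 1)
  have h2 : ((χ c : Rˣ) : R) ^ (p - 1) = 1 := by
    rw [← Units.val_pow_eq_pow_val, ← map_pow, ZMod.units_pow_card_sub_one_eq_one, map_one,
      Units.val_one]
  rw [h2, sub_self] at h1
  exact ((hχ c hc).mul_left_eq_zero).mp h1

include hχ in
lemma sum_chi_cross (i j : ℕ) (hi : i < p - 1) (hj : j < p - 1) (hij : i ≠ j) :
    ∑ m : (ZMod p)ˣ, ((χ m⁻¹ : Rˣ) : R) ^ i * ((χ m : Rˣ) : R) ^ j = 0 := by
  obtain ⟨g, hg⟩ := IsCyclic.exists_generator (α := (ZMod p)ˣ)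
  have hord : orderOf g = p - 1 := by
    rw [orderOf_eq_card_of_forall_mem_zpowers hg, Nat.card_eq_fintype_card, ZMod.card_units]
  let ψ : (ZMod p)ˣ →* Rˣ := χ.comp (zpowGroupHom ((j : ℤ) - (i : ℤ)))
  have hψ : ∀ m : (ZMod p)ˣ, ((ψ m : Rˣ) : R) = ((χ m⁻¹ : Rˣ) : R) ^ i * ((χ m : Rˣ) : R) ^ j := by
    intro m
    have : ψ m = (χ m⁻¹) ^ i * (χ m) ^ j := by
      show χ (m ^ ((j : ℤ) - (i : ℤ))) = _
      rw [zpow_sub, zpow_natCast, zpow_natCast, map_mul, map_inv, map_pow, map_pow, map_inv,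
        inv_pow, mul_comm]
    rw [this, Units.val_mul, Units.val_pow_eq_pow_val, Units.val_pow_eq_pow_val]
  have hne : g ^ ((j : ℤ) - (i : ℤ)) ≠ 1 := by
    intro h
    rw [zpow_sub, zpow_natCast, zpow_natCast, mul_inv_eq_one] at h
    have := pow_injOn_Iio_orderOf (x := g) (by rw [hord]; exact hj) (by rw [hord]; exact hi) h
    exact hij this.symm
  have := sum_char_eq_zero ψ g (hχ _ hne)
  rw [← this]
  exact Finset.sum_congr rfl fun m _ => (hψ m).symm

end sums

section eigen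

variable (p : ℕ) [Fact p.Prime] {R : Type u} [CommRing R] (u : R)
  (hu : u * ((p - 1 : ℕ) : R) = 1) (χ : (ZMod p)ˣ →* Rˣ)
  (hχ : ∀ m : (ZMod p)ˣ, m ≠ 1 → IsUnit ((χ m : R) - 1))
  {A : Type u} [CommRing A] [HopfAlgebra R A]
  (hp : (toConv (AlgHom.id R A)) ^ p = 1)

/-- the power map of a unit of `ZMod p` -/
noncomputable abbrev pm (m : (ZMod p)ˣ) : A →ₐ[R] A := SGA3b.powConv R A (m : ZMod p).val

include hp in
lemma pm_mul (m m' : (ZMod p)ˣ) :
    pm (R := R) (A := A) p (m * m') = (pm p m).comp (pm p m') := by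
  unfold pm
  rw [powConv_comp, Units.val_mul, ZMod.val_mul]
  exact (powConv_mod p hp _).symm

lemma pm_one : pm (R := R) (A := A) p (1 : (ZMod p)ˣ) = AlgHom.id R A := by
  unfold pm
  rw [Units.val_one, ZMod.val_one, powConv_one]

lemma mem_eigenAug_iff (i : ℕ) (f : A) :
    f ∈ OortTate.eigenAug R A p χ i ↔
      Coalgebra.counit (R := R) f = 0 ∧
        ∀ m : (ZMod p)ˣ, pm (R := R) p m f = (((χ m : Rˣ) : R) ^ i) • f := by
  unfold OortTate.eigenAug
  rw [Submodule.mem_inf, Submodule.mem_iInf, LinearMap.mem_ker]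
  refine and_congr Iff.rfl (forall_congr' fun m => ?_)
  rw [Module.End.mem_eigenspace_iff]
  rfl

lemma proj_apply (i : ℕ) (f : A) :
    OortTate.proj R A p u χ i f =
      u • ∑ m : (ZMod p)ˣ, (((χ m⁻¹ : Rˣ) : R) ^ i) • pm (R := R) p m f := by
  unfold OortTate.proj
  rw [LinearMap.smul_apply, LinearMap.sum_apply]
  rfl

include hu in
lemma proj_eq_self (i : ℕ) (f : A) (hf : f ∈ OortTate.eigenAug R A p χ i) :
    OortTate.proj R A p u χ i f = f := by
  rw [mem_eigenAug_iff] at hf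
  rw [proj_apply]
  have : ∀ m : (ZMod p)ˣ, (((χ m⁻¹ : Rˣ) : R) ^ i) • pm (R := R) p m f = f := by
    intro m
    rw [hf.2 m, smul_smul, ← mul_pow, ← Units.val_mul, ← map_mul, inv_mul_cancel, map_one,
      Units.val_one, one_pow, one_smul]
  rw [Finset.sum_congr rfl fun m _ => this m, Finset.sum_const, Finset.card_univ, ZMod.card_units,
    ← Nat.cast_smul_eq_nsmul R, smul_smul, hu, one_smul]

include hχ in
lemma proj_eq_zero (i j : ℕ) (hi : i < p - 1) (hj : j < p - 1) (hij : i ≠ j) (f : A)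
    (hf : f ∈ OortTate.eigenAug R A p χ j) :
    OortTate.proj R A p u χ i f = 0 := by
  rw [mem_eigenAug_iff] at hf
  rw [proj_apply]
  have : ∀ m : (ZMod p)ˣ, (((χ m⁻¹ : Rˣ) : R) ^ i) • pm (R := R) p m f =
      (((χ m⁻¹ : Rˣ) : R) ^ i * ((χ m : Rˣ) : R) ^ j) • f := by
    intro m
    rw [hf.2 m, smul_smul]
  rw [Finset.sum_congr rfl fun m _ => this m, ← Finset.sum_smul,
    sum_chi_cross p χ hχ i j hi hj hij, zero_smul, smul_zero]

include hp in
lemma proj_mem (i : ℕ) (f : A) (hf : Coalgebra.counit (R := R) f = 0) :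
    OortTate.proj R A p u χ i f ∈ OortTate.eigenAug R A p χ i := by
  rw [mem_eigenAug_iff, proj_apply]
  constructor
  · rw [map_smul, map_sum, Finset.sum_eq_zero, smul_zero]
    intro m _
    rw [map_smul, counit_powConv, hf, smul_zero]
  · intro m'
    rw [map_smul, map_sum, smul_comm]
    congr 1
    rw [Finset.smul_sum,
      ← Equiv.sum_comp (Equiv.mulLeft m')
        (fun n => (((χ m' : Rˣ) : R) ^ i) • ((((χ n⁻¹ : Rˣ) : R) ^ i) • pm (R := R) p n f))]
    refine Finset.sum_congr rfl fun m _ => ?_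
    rw [map_smul, Equiv.coe_mulLeft, pm_mul p hp, AlgHom.comp_apply, smul_smul]
    congr 1
    rw [← mul_pow, ← Units.val_mul, ← map_mul, mul_inv_rev, mul_comm m⁻¹, mul_inv_cancel_left]

include hu hχ in
lemma sum_proj (f : A) : ∑ i ∈ Finset.range (p - 1), OortTate.proj R A p u χ i f = f := by
  simp_rw [proj_apply]
  rw [← Finset.smul_sum, Finset.sum_comm]
  have : ∀ m : (ZMod p)ˣ, ∑ i ∈ Finset.range (p - 1),
      (((χ m⁻¹ : Rˣ) : R) ^ i) • pm (R := R) p m f =
      if m = 1 then ((p - 1 : ℕ) : R) • f else 0 := by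
    intro m
    rw [← Finset.sum_smul]
    split_ifs with h
    · subst h
      rw [inv_one, map_one, Units.val_one, pm_one]
      simp
    · rw [sum_chi_pow p χ hχ m⁻¹ (by simpa using h), zero_smul]
  rw [Finset.sum_congr rfl fun m _ => this m]
  simp only [Finset.sum_ite_eq', Finset.mem_univ, if_true]
  rw [smul_smul, hu, one_smul]

include hu hχ hp in
theorem eigen_decomposition :
    iSupIndep (fun i : Fin (p - 1) => OortTate.eigenAug R A p χ (i : ℕ)) ∧
      (⨆ i : Fin (p - 1), OortTate.eigenAug R A p χ (i : ℕ)) =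
        LinearMap.ker (Bialgebra.counitAlgHom R A).toLinearMap ∧
      ∀ i : Fin (p - 1), OortTate.eigenAug R A p χ (i : ℕ) =
        Submodule.map (OortTate.proj R A p u χ (i : ℕ))
          (LinearMap.ker (Bialgebra.counitAlgHom R A).toLinearMap) := by
  refine ⟨?_, ?_, ?_⟩
  · rw [iSupIndep_def]
    intro i
    rw [Submodule.disjoint_def]
    intro x hx hx'
    have hle : (⨆ j, ⨆ (_ : j ≠ i), OortTate.eigenAug R A p χ (j : ℕ)) ≤
        LinearMap.ker (OortTate.proj R A p u χ (i : ℕ)) := by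
      refine iSup₂_le fun j hj f hf => ?_
      rw [LinearMap.mem_ker]
      exact proj_eq_zero p u χ hχ i j i.2 j.2 (fun h => hj (Fin.ext h.symm)) f hf
    have h0 := LinearMap.mem_ker.mp (hle hx')
    rw [proj_eq_self p u hu χ i x hx] at h0
    exact h0
  · refine le_antisymm (iSup_le fun i f hf => ?_) (fun f hf => ?_)
    · rw [LinearMap.mem_ker]
      exact ((mem_eigenAug_iff p χ i f).mp hf).1
    · rw [← sum_proj p u hu χ hχ f, Finset.sum_range]
      refine Submodule.sum_mem _ fun i _ => Submodule.mem_iSup_of_mem i ?_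
      exact proj_mem p u χ hp i f (LinearMap.mem_ker.mp hf)
  · intro i
    ext f
    constructor
    · intro hf
      refine ⟨f, ?_, proj_eq_self p u hu χ i f hf⟩
      rw [SetLike.mem_coe, LinearMap.mem_ker]
      exact ((mem_eigenAug_iff p χ i f).mp hf).1
    · rintro ⟨g, hg, rfl⟩
      exact proj_mem p u χ hp i g (LinearMap.mem_ker.mp hg)

end eigen

end Groth.Agent.Helper2.OT
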