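import Mathlib
import Groth.Prelude.Def_CartDual
import Groth.Agent.Lib.Helper2.Hopf.OTEigen

/-!
# Power maps on the Cartier dual and duality of eigenspaces (helper2)
-/

set_option autoImplicit false
open scoped TensorProduct
open WithConv

namespace Groth.Agent.Helper2.OT

universe u

section dualpow

variable {R : Type u} [CommRing R] {A : Type u} [CommRing A] [HopfAlgebra R A]
  [Module.Finite R A] [Module.Projective R A]

/-- transpose of a linear endomorphism, on the dual -/
noncomputable def tr (f : A →ₗ[R] A) : CartDual.D R A →ₗ[R] CartDual.D R A :=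
  (CartDual.toDual R A).symm.toLinearMap ∘ₗ f.dualMap ∘ₗ (CartDual.toDual R A).toLinearMap

lemma tr_apply (f : A →ₗ[R] A) (φ : CartDual.D R A) (a : A) : (tr f φ) a = φ (f a) := rfl

lemma mul'_map_tr (f g : A →ₗ[R] A) (y : CartDual.D R A ⊗[R] CartDual.D R A) (a : A) :
    (LinearMap.mul' R (CartDual.D R A) (TensorProduct.map (tr f) (tr g) y)) a =
      CartDual.ev₂ R A y (TensorProduct.map f g (Coalgebra.comul (R := R) a)) := by
  induction y using TensorProduct.induction_on with
  | zero => simp
  | add y₁ y₂ h₁ h₂ =>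
    rw [map_add, map_add, map_add, LinearMap.add_apply, ← h₁, ← h₂]
    rfl
  | tmul x z =>
    rw [TensorProduct.map_tmul, LinearMap.mul'_apply, CartDual.ev₂_tmul_eq']
    show LinearMap.mul' R R (TensorProduct.map (tr f x).ofConv (tr g z).ofConv
      (Coalgebra.comul (R := R) a)) = _
    rw [LinearMap.comp_apply, ← LinearMap.comp_apply (TensorProduct.map x.ofConv z.ofConv),
      ← TensorProduct.map_comp]
    rfl

lemma tr_convMul (f g : WithConv (A →ₗ[R] A)) :
    toConv (tr (f * g).ofConv) = toConv (tr f.ofConv) * toConv (tr g.ofConv) := by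
  apply WithConv.ofConv_injective
  refine LinearMap.ext fun φ => ?_
  apply WithConv.ofConv_injective
  refine LinearMap.ext fun a => ?_
  show φ ((f * g) a) = (LinearMap.mul' R (CartDual.D R A)
    (TensorProduct.map (tr f.ofConv) (tr g.ofConv) (Coalgebra.comul (R := R) φ))) a
  rw [mul'_map_tr, CartDual.comul_def, CartDual.ev₂_comul]
  rfl

lemma tr_convOne : toConv (tr (1 : WithConv (A →ₗ[R] A)).ofConv) = 1 := by
  apply WithConv.ofConv_injective
  refine LinearMap.ext fun φ => ?_
  apply WithConv.ofConv_injective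
  refine LinearMap.ext fun a => ?_
  show φ ((1 : WithConv (A →ₗ[R] A)) a) =
    ((1 : WithConv (CartDual.D R A →ₗ[R] CartDual.D R A)) φ) a
  rw [LinearMap.convOne_apply, LinearMap.convOne_apply, Algebra.algebraMap_eq_smul_one,
    Algebra.algebraMap_eq_smul_one, map_smul, CartDual.coalgebra_counit_apply]
  show _ = (φ 1) • ((1 : CartDual.D R A) a)
  rw [LinearMap.convOne_apply, smul_eq_mul, smul_eq_mul, Algebra.algebraMap_eq_smul_one,
    smul_eq_mul, mul_one, mul_comm]

lemma tr_convPow (f : WithConv (A →ₗ[R] A)) (n : ℕ) :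
    toConv (tr (f ^ n).ofConv) = (toConv (tr f.ofConv)) ^ n := by
  induction n with
  | zero => rw [pow_zero, pow_zero, tr_convOne]
  | succ n ih => rw [pow_succ, pow_succ, tr_convMul, ih]

lemma tr_id : tr (LinearMap.id : A →ₗ[R] A) = LinearMap.id := rfl

variable [Coalgebra.IsCocomm R A]

lemma powConv_D (n : ℕ) :
    (SGA3b.powConv R (CartDual.D R A) n).toLinearMap = tr (SGA3b.powConv R A n).toLinearMap := by
  apply WithConv.toConv_injective
  unfold SGA3b.powConv
  rw [AlgHom.toLinearMap_convPow]
  have h := tr_convPow (toConv (LinearMap.id : A →ₗ[R] A)) n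
  have h2 : (toConv (LinearMap.id : A →ₗ[R] A)) ^ n =
      toConv ((toConv (AlgHom.id R A)) ^ n).ofConv.toLinearMap :=
    (AlgHom.toLinearMap_convPow (toConv (AlgHom.id R A)) n).symm
  rw [toConv_ofConv, tr_id, h2, toConv_ofConv] at h
  exact h.symm

lemma powConv_D_apply (n : ℕ) (φ : CartDual.D R A) (a : A) :
    (SGA3b.powConv R (CartDual.D R A) n φ) a = φ (SGA3b.powConv R A n a) := by
  have := congrArg (fun g : CartDual.D R A →ₗ[R] CartDual.D R A => g φ a) (powConv_D (R := R) (A := A) n)
  exact this

end dualpow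

section duality

variable (p : ℕ) [Fact p.Prime] {R : Type u} [CommRing R] (u : R)
  (hu : u * ((p - 1 : ℕ) : R) = 1) (χ : (ZMod p)ˣ →* Rˣ)
  (hχ : ∀ m : (ZMod p)ˣ, m ≠ 1 → IsUnit ((χ m : R) - 1))
  {A : Type u} [CommRing A] [HopfAlgebra R A]
  (hp : (toConv (AlgHom.id R A)) ^ p = 1)

include hp in
lemma proj_pm (i : ℕ) (m : (ZMod p)ˣ) (f : A) :
    OortTate.proj R A p u χ i (pm (R := R) p m f) =
      (((χ m : Rˣ) : R) ^ i) • OortTate.proj R A p u χ i f := by
  rw [proj_apply, proj_apply, smul_comm]
  congr 1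
  rw [Finset.smul_sum,
    ← Equiv.sum_comp (Equiv.mulRight m)
      (fun n => (((χ m : Rˣ) : R) ^ i) • ((((χ n⁻¹ : Rˣ) : R) ^ i) • pm (R := R) p n f))]
  refine Finset.sum_congr rfl fun m' _ => ?_
  rw [Equiv.coe_mulRight, pm_mul p hp, AlgHom.comp_apply, smul_smul]
  congr 1
  rw [← mul_pow, ← Units.val_mul, ← map_mul, mul_inv_rev, mul_inv_cancel_left]

variable [Coalgebra.IsCocomm R A] [Module.Finite R A] [Module.Projective R A]

include hp in
lemma conv_pow_D : (toConv (AlgHom.id R (CartDual.D R A))) ^ p = 1 := by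
  apply WithConv.ofConv_injective
  apply AlgHom.toLinearMap_injective
  have h1 := powConv_D (R := R) (A := A) p
  unfold SGA3b.powConv at h1
  rw [h1, hp]
  have h2 := tr_convOne (R := R) (A := A)
  exact congrArg WithConv.ofConv h2

lemma proj_D_apply (i : ℕ) (φ : CartDual.D R A) (a : A) :
    (OortTate.proj R (CartDual.D R A) p u χ i φ) a = φ (OortTate.proj R A p u χ i a) := by
  rw [proj_apply, proj_apply, map_smul, map_sum]
  show u • ((∑ m : (ZMod p)ˣ, (((χ m⁻¹ : Rˣ) : R) ^ i) •
    pm (R := R) p m φ : CartDual.D R A)) a = _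
  congr 1
  have : ∀ (s : Finset (ZMod p)ˣ) (F : (ZMod p)ˣ → CartDual.D R A),
      (∑ m ∈ s, F m : CartDual.D R A) a = ∑ m ∈ s, (F m) a := by
    intro s F
    exact map_sum ((LinearMap.applyₗ a) ∘ₗ (CartDual.toDual R A).toLinearMap) F s
  rw [this]
  refine Finset.sum_congr rfl fun m _ => ?_
  rw [map_smul]
  show (((χ m⁻¹ : Rˣ) : R) ^ i) • ((pm (R := R) p m φ) a) = _
  rw [powConv_D_apply]

/-- the projection of `A` onto the `i`-th eigenspace of the augmentation ideal -/
noncomputable def qproj (i : ℕ) : A →ₗ[R] OortTate.eigenAug R A p χ i :=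
  LinearMap.codRestrict (OortTate.eigenAug R A p χ i)
    ((OortTate.proj R A p u χ i) ∘ₗ
      (LinearMap.id - (Algebra.linearMap R A) ∘ₗ (Bialgebra.counitAlgHom R A).toLinearMap))
    (fun a => by
      refine proj_mem p u χ hp i _ ?_
      show Coalgebra.counit (R := R) (a - algebraMap R A (Coalgebra.counit (R := R) a)) = 0
      rw [map_sub, Algebra.algebraMap_eq_smul_one, map_smul, Bialgebra.counit_one, smul_eq_mul,
        mul_one, sub_self])

lemma qproj_coe (i : ℕ) (a : A) :
    ((qproj p u χ hp i a : OortTate.eigenAug R A p χ i) : A) =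
      OortTate.proj R A p u χ i (a - algebraMap R A (Coalgebra.counit (R := R) a)) := rfl

include hu in
lemma qproj_of_mem (i : ℕ) (a : OortTate.eigenAug R A p χ i) : qproj p u χ hp i (a : A) = a := by
  apply Subtype.ext
  rw [qproj_coe, ((mem_eigenAug_iff p χ i _).mp a.2).1, map_zero, sub_zero]
  exact proj_eq_self p u hu χ i _ a.2

include hu hp in
theorem eigen_duality (i : ℕ) :
    Function.Bijective (fun f : OortTate.eigenAug R (CartDual.D R A) p χ i =>
      ((CartDual.toDual R A) (f : CartDual.D R A)).comp (OortTate.eigenAug R A p χ i).subtype) := by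
  have hpD := conv_pow_D p (R := R) (A := A) hp
  constructor
  · intro f g hfg
    apply Subtype.ext
    apply WithConv.ofConv_injective
    refine LinearMap.ext fun a => ?_
    have key : ∀ φ : OortTate.eigenAug R (CartDual.D R A) p χ i, ∀ a : A,
        (φ : CartDual.D R A) a =
          (φ : CartDual.D R A) (qproj p u χ hp i a : OortTate.eigenAug R A p χ i) := by
      intro φ a
      have h1 := proj_eq_self p u hu χ i _ φ.2
      have h2 := proj_D_apply p u χ i (φ : CartDual.D R A) a
      rw [h1] at h2
      rw [h2, qproj_coe, map_sub, map_sub, eq_comm, sub_eq_self]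
      have h3 : OortTate.proj R A p u χ i (algebraMap R A (Coalgebra.counit (R := R) a)) =
          (u * ∑ m : (ZMod p)ˣ, (((χ m⁻¹ : Rˣ) : R) ^ i) * Coalgebra.counit (R := R) a) • (1 : A) := by
        rw [proj_apply, mul_smul, Finset.sum_smul]
        congr 1
        refine Finset.sum_congr rfl fun m _ => ?_
        rw [AlgHom.commutes, Algebra.algebraMap_eq_smul_one, smul_smul]
      rw [h3, map_smul]
      have h4 : (φ : CartDual.D R A) 1 = 0 :=
        ((mem_eigenAug_iff p χ i _).mp φ.2).1
      rw [h4, smul_zero]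
    have e1 := key f a
    have e2 := key g a
    have e3 := congrArg (fun l : OortTate.eigenAug R A p χ i →ₗ[R] R => l (qproj p u χ hp i a)) hfg
    show (f : CartDual.D R A) a = (g : CartDual.D R A) a
    rw [e1, e2]
    exact e3
  · intro l
    let φ : CartDual.D R A := toConv (l ∘ₗ qproj p u χ hp i)
    have hφ : φ ∈ OortTate.eigenAug R (CartDual.D R A) p χ i := by
      rw [mem_eigenAug_iff]
      constructor
      · show l (qproj p u χ hp i 1) = 0
        have : qproj p u χ hp i (1 : A) = 0 := by
          apply Subtype.ext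
          rw [qproj_coe, Bialgebra.counit_one, map_one, sub_self, map_zero]
          rfl
        rw [this, map_zero]
      · intro m
        apply WithConv.ofConv_injective
        refine LinearMap.ext fun a => ?_
        show (pm (R := R) p m φ) a = (((χ m : Rˣ) : R) ^ i) • (φ a)
        rw [powConv_D_apply]
        show l (qproj p u χ hp i (pm (R := R) p m a)) = (((χ m : Rˣ) : R) ^ i) • l (qproj p u χ hp i a)
        rw [← map_smul]
        congr 1
        apply Subtype.ext
        rw [Submodule.coe_smul, qproj_coe, qproj_coe, counit_powConv, ← proj_pm p u χ hp]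
        simp only [map_sub, AlgHom.commutes]
    refine ⟨⟨φ, hφ⟩, ?_⟩
    refine LinearMap.ext fun a => ?_
    show l (qproj p u χ hp i (a : A)) = l a
    rw [qproj_of_mem p u hu χ hp i a]

end duality

end Groth.Agent.Helper2.OT
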