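import Mathlib
import Groth.Agent.Lib.Helper2.Hopf.OTEigen

/-!
# The group algebra of the cyclic group of order `p` and its elements `y_i` (helper2)
-/

set_option autoImplicit false
open scoped TensorProduct
open WithConv MonoidAlgebra

namespace Groth.Agent.Helper2.OT

universe u

section grpalg

variable {R : Type u} [CommRing R] {G : Type} [CommGroup G]

lemma conv_pow_single_one (n : ℕ) (g : G) :
    ((toConv (AlgHom.id R (MonoidAlgebra R G))) ^ n).ofConv (single g 1) = single (g ^ n) 1 := by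
  induction n with
  | zero =>
    rw [pow_zero, pow_zero]
    show algebraMap R _ (Coalgebra.counit (R := R) (single g (1 : R))) = _
    rw [MonoidAlgebra.counit_single]
    simp
  | succ n ih =>
    rw [pow_succ]
    have := convMul_algHom_single_one (R := R) ((toConv (AlgHom.id R (MonoidAlgebra R G))) ^ n)
      (toConv (AlgHom.id R (MonoidAlgebra R G))) g
    erw [this, ih]
    simp [pow_succ]

lemma powConv_single (n : ℕ) (g : G) (r : R) :
    SGA3b.powConv R (MonoidAlgebra R G) n (single g r) = single (g ^ n) r := by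
  have h1 : (single g r : MonoidAlgebra R G) = r • single g 1 := by
    simp
  rw [h1, map_smul]
  unfold SGA3b.powConv
  rw [conv_pow_single_one]
  simp

end grpalg

section mup

variable (p : ℕ) [Fact p.Prime] (R : Type u) [CommRing R]

/-- the group algebra of the cyclic group of order `p` -/
abbrev Ap : Type u := MonoidAlgebra R (Multiplicative (ZMod p))

/-- the basis element `T ^ z` -/
noncomputable def tm (z : ZMod p) : Ap p R := single (Multiplicative.ofAdd z) 1

variable {R}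

lemma tm_zero : tm p R 0 = 1 := by
  unfold tm
  rw [ofAdd_zero]
  rfl

lemma muT_eq : OortTate.muT R p = tm p R 1 := by
  unfold OortTate.muT tm
  rw [MonoidAlgebra.of_apply]

/-- the explicit form of `y_i` -/
noncomputable def yE (u : R) (χ : (ZMod p)ˣ →* Rˣ) (i : ℕ) : Ap p R :=
  u • ∑ m : (ZMod p)ˣ, (((χ m⁻¹ : Rˣ) : R) ^ i) • (tm p R (m : ZMod p) - 1)

lemma pm_tm (m : (ZMod p)ˣ) (z : ZMod p) :
    SGA3b.powConv R (Ap p R) (m : ZMod p).val (tm p R z) = tm p R ((m : ZMod p) * z) := by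
  unfold tm
  rw [powConv_single, ← ofAdd_nsmul, nsmul_eq_mul, ZMod.natCast_zmod_val]

lemma ygen_eq (u : R) (χ : (ZMod p)ˣ →* Rˣ) (i : ℕ) : OortTate.ygen R p u χ i = yE p u χ i := by
  unfold OortTate.ygen yE
  rw [proj_apply]
  congr 1
  refine Finset.sum_congr rfl fun m _ => ?_
  congr 1
  rw [map_sub, map_one, muT_eq, pm_tm, mul_one]

/-- coefficient functional -/
noncomputable def cf (z : ZMod p) : Ap p R →ₗ[R] R where
  toFun x := x.coeff (Multiplicative.ofAdd z)
  map_add' x y := by simp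
  map_smul' r x := by simp

lemma cf_tm (z z' : ZMod p) : cf p z (tm p R z') = if z' = z then 1 else 0 := by
  show (tm p R z').coeff (Multiplicative.ofAdd z) = _
  unfold tm
  rw [MonoidAlgebra.coeff_single, Finsupp.single_apply]
  simp

lemma cf_tm_sub_one (m m' : (ZMod p)ˣ) :
    cf p (m : ZMod p) (tm p R (m' : ZMod p) - 1) = if m' = m then 1 else 0 := by
  rw [map_sub, ← tm_zero p, cf_tm, cf_tm]
  have h0 : ¬ ((0 : ZMod p) = (m : ZMod p)) := fun h => m.ne_zero h.symm
  rw [if_neg h0, sub_zero]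
  simp [Units.ext_iff]

lemma cf_yE (u : R) (χ : (ZMod p)ˣ →* Rˣ) (i : ℕ) (m : (ZMod p)ˣ) :
    cf p (m : ZMod p) (yE p u χ i) = u * ((χ m⁻¹ : Rˣ) : R) ^ i := by
  unfold yE
  rw [map_smul, map_sum, smul_eq_mul]
  congr 1
  rw [Finset.sum_eq_single m]
  · rw [map_smul, cf_tm_sub_one, if_pos rfl, smul_eq_mul, mul_one]
  · intro m' _ h
    rw [map_smul, cf_tm_sub_one, if_neg h, smul_zero]
  · intro h
    exact absurd (Finset.mem_univ m) h

variable (u : R) (hu : u * ((p - 1 : ℕ) : R) = 1) (χ : (ZMod p)ˣ →* Rˣ)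
  (hχ : ∀ m : (ZMod p)ˣ, m ≠ 1 → IsUnit ((χ m : R) - 1))

include hu hχ in
lemma tm_sub_one_eq (m : (ZMod p)ˣ) :
    tm p R (m : ZMod p) - 1 =
      ∑ i ∈ Finset.range (p - 1), (((χ m : Rˣ) : R) ^ i) • yE p u χ i := by
  have e1 : ∀ i : ℕ, (((χ m : Rˣ) : R) ^ i) • yE p u χ i =
      u • ∑ m' : (ZMod p)ˣ, (((χ m : Rˣ) : R) ^ i * ((χ m'⁻¹ : Rˣ) : R) ^ i) •
        (tm p R (m' : ZMod p) - 1) := by
    intro i
    unfold yE
    rw [smul_comm, Finset.smul_sum]
    congr 1
    refine Finset.sum_congr rfl fun m' _ => ?_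
    rw [smul_smul]
  rw [Finset.sum_congr rfl fun i _ => e1 i, ← Finset.smul_sum, Finset.sum_comm]
  have key : ∀ m' : (ZMod p)ˣ, ∑ i ∈ Finset.range (p - 1),
      (((χ m : Rˣ) : R) ^ i * ((χ m'⁻¹ : Rˣ) : R) ^ i) • (tm p R (m' : ZMod p) - 1) =
      if m' = m then ((p - 1 : ℕ) : R) • (tm p R (m : ZMod p) - 1) else 0 := by
    intro m'
    rw [← Finset.sum_smul]
    split_ifs with h
    · subst h
      have : ∀ i : ℕ, ((χ m' : Rˣ) : R) ^ i * ((χ m'⁻¹ : Rˣ) : R) ^ i = 1 := by
        intro i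
        rw [← mul_pow, ← Units.val_mul, ← map_mul, mul_inv_cancel, map_one, Units.val_one, one_pow]
      rw [Finset.sum_congr rfl fun i _ => this i, Finset.sum_const, Finset.card_range,
        nsmul_eq_mul, mul_one]
    · have h1 := sum_chi_pow p χ hχ (m * m'⁻¹)
        (by intro h'; apply h; rw [mul_inv_eq_one] at h'; exact h'.symm)
      simp only [map_mul, Units.val_mul, mul_pow] at h1
      rw [h1, zero_smul]
  rw [Finset.sum_congr rfl fun m' _ => key m']
  simp only [Finset.sum_ite_eq', Finset.mem_univ, if_true]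
  rw [smul_smul, hu, one_smul]

lemma eq_sum_cf_tm (f : Ap p R) : f = ∑ z : ZMod p, cf p z f • tm p R z := by
  conv_lhs => rw [← MonoidAlgebra.sum_coeff_single f]
  rw [Finsupp.sum_fintype _ _ (fun i => by simp)]
  rw [← Equiv.sum_comp (Multiplicative.ofAdd : ZMod p ≃ Multiplicative (ZMod p))]
  refine Finset.sum_congr rfl fun z _ => ?_
  unfold tm
  show single (Multiplicative.ofAdd z) (f.coeff (Multiplicative.ofAdd z)) =
    f.coeff (Multiplicative.ofAdd z) • single (Multiplicative.ofAdd z) (1 : R)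
  simp

lemma counit_tm (z : ZMod p) : Coalgebra.counit (R := R) (tm p R z) = 1 := by
  unfold tm
  rw [MonoidAlgebra.counit_single]
  rfl

lemma counit_yE (i : ℕ) : Coalgebra.counit (R := R) (yE p u χ i) = 0 := by
  unfold yE
  rw [map_smul, map_sum, Finset.sum_eq_zero, smul_zero]
  intro m _
  rw [map_smul, map_sub, counit_tm, ← tm_zero p, counit_tm, sub_self, smul_zero]

include hu hχ in
lemma mem_span_yE (f : Ap p R) (hf : Coalgebra.counit (R := R) f = 0) :
    f ∈ Submodule.span R (Set.range (fun i : Fin (p - 1) => yE p u χ (i : ℕ))) := by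
  have h1 := eq_sum_cf_tm p f
  have h2 : ∑ z : ZMod p, cf p z f = 0 := by
    have := congrArg (Coalgebra.counit (R := R)) h1
    rw [hf, map_sum] at this
    rw [this]
    refine Finset.sum_congr rfl fun z _ => ?_
    rw [map_smul, counit_tm, smul_eq_mul, mul_one]
  have h3 : f = ∑ z : ZMod p, cf p z f • (tm p R z - 1) := by
    conv_lhs => rw [h1]
    simp_rw [smul_sub]
    rw [Finset.sum_sub_distrib, ← Finset.sum_smul, h2, zero_smul, sub_zero]
  rw [h3]
  refine Submodule.sum_mem _ fun z _ => Submodule.smul_mem _ _ ?_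
  by_cases hz : z = 0
  · rw [hz, tm_zero, sub_self]
    exact Submodule.zero_mem _
  · have h4 := tm_sub_one_eq p u hu χ hχ (Units.mk0 z hz)
    rw [Units.val_mk0] at h4
    rw [h4, Finset.sum_range]
    refine Submodule.sum_mem _ fun i _ => Submodule.smul_mem _ _ ?_
    exact Submodule.subset_span ⟨i, rfl⟩

/-- the inverse transform -/
noncomputable def Phi : Ap p R →ₗ[R] (Fin (p - 1) → R) :=
  LinearMap.pi fun i => ∑ m : (ZMod p)ˣ, (((χ m : Rˣ) : R) ^ (i : ℕ)) • cf p (m : ZMod p)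

include hu hχ in
lemma Phi_yE (j : Fin (p - 1)) : Phi p χ (yE p u χ (j : ℕ)) = Pi.single j 1 := by
  funext i
  show (∑ m : (ZMod p)ˣ, (((χ m : Rˣ) : R) ^ (i : ℕ)) • cf p (m : ZMod p)) (yE p u χ (j : ℕ)) = _
  rw [LinearMap.sum_apply]
  simp_rw [LinearMap.smul_apply, cf_yE, smul_eq_mul]
  have e : ∀ m : (ZMod p)ˣ, ((χ m : Rˣ) : R) ^ (i : ℕ) * (u * ((χ m⁻¹ : Rˣ) : R) ^ (j : ℕ)) =
      u * (((χ m⁻¹ : Rˣ) : R) ^ (j : ℕ) * ((χ m : Rˣ) : R) ^ (i : ℕ)) := fun m => by ring
  rw [Finset.sum_congr rfl fun m _ => e m, ← Finset.mul_sum]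
  by_cases hij : j = i
  · subst hij
    rw [Pi.single_eq_same]
    have : ∀ m : (ZMod p)ˣ, ((χ m⁻¹ : Rˣ) : R) ^ (j : ℕ) * ((χ m : Rˣ) : R) ^ (j : ℕ) = 1 := by
      intro m
      rw [← mul_pow, ← Units.val_mul, ← map_mul, inv_mul_cancel, map_one, Units.val_one, one_pow]
    rw [Finset.sum_congr rfl fun m _ => this m, Finset.sum_const, Finset.card_univ,
      ZMod.card_units, nsmul_eq_mul, mul_one, hu]
  · rw [Pi.single_eq_of_ne (fun h => hij h.symm)]
    rw [sum_chi_cross p χ hχ j i j.2 i.2 (fun h => hij (Fin.ext h)), mul_zero]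

include hu hχ in
lemma linearIndependent_yE :
    LinearIndependent R (fun i : Fin (p - 1) => yE p u χ (i : ℕ)) := by
  refine LinearIndependent.of_comp (Phi p χ) ?_
  have : (Phi p χ) ∘ (fun i : Fin (p - 1) => yE p u χ (i : ℕ)) =
      fun i => Pi.basisFun R (Fin (p - 1)) i := by
    funext i
    rw [Function.comp_apply, Phi_yE p u hu χ hχ, Pi.basisFun_apply]
  rw [this]
  exact (Pi.basisFun R (Fin (p - 1))).linearIndependent

lemma conv_pow_p_Ap : (toConv (AlgHom.id R (Ap p R))) ^ p = 1 := by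
  apply WithConv.ofConv_injective
  refine MonoidAlgebra.algHom_ext (fun g => ?_) (Subsingleton.elim _ _)
  rw [conv_pow_single_one]
  have hg : g ^ p = 1 := by
    obtain ⟨z, rfl⟩ := Multiplicative.ofAdd.surjective g
    rw [← ofAdd_nsmul, nsmul_eq_mul, ZMod.natCast_self, zero_mul, ofAdd_zero]
  rw [hg]
  show _ = algebraMap R _ (Coalgebra.counit (R := R) (single g (1 : R)))
  rw [MonoidAlgebra.counit_single]
  simp

lemma yE_mem_eigenAug (i : ℕ) : yE p u χ i ∈ OortTate.eigenAug R (Ap p R) p χ i := by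
  rw [← ygen_eq]
  refine proj_mem p u χ (conv_pow_p_Ap p) i _ ?_
  rw [map_sub, muT_eq, counit_tm, Bialgebra.counit_one, sub_self]

end mup

section eigenmul

variable (p : ℕ) [Fact p.Prime] {R : Type u} [CommRing R] (χ : (ZMod p)ˣ →* Rˣ)
  {A : Type u} [CommRing A] [HopfAlgebra R A]

lemma mul_mem_eigenAug (a b : ℕ) (x y : A) (hx : x ∈ OortTate.eigenAug R A p χ a)
    (hy : y ∈ OortTate.eigenAug R A p χ b) : x * y ∈ OortTate.eigenAug R A p χ (a + b) := by
  rw [mem_eigenAug_iff] at hx hy ⊢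
  constructor
  · have : Coalgebra.counit (R := R) (x * y) =
        Coalgebra.counit (R := R) x * Coalgebra.counit (R := R) y :=
      map_mul (Bialgebra.counitAlgHom R A) x y
    rw [this, hx.1, zero_mul]
  · intro m
    rw [map_mul, hx.2 m, hy.2 m, smul_mul_smul_comm, pow_add]

lemma pow_mem_eigenAug (x : A) (hx : x ∈ OortTate.eigenAug R A p χ 1) (n : ℕ) (hn : 1 ≤ n) :
    x ^ n ∈ OortTate.eigenAug R A p χ n := by
  induction n, hn using Nat.le_induction with
  | base => rw [pow_one]; exact hx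
  | succ n _ ih =>
    rw [pow_succ]
    exact mul_mem_eigenAug p χ n 1 _ _ ih hx

lemma chi_pow_period (m : (ZMod p)ˣ) (i k : ℕ) :
    ((χ m : Rˣ) : R) ^ (i + (p - 1) * k) = ((χ m : Rˣ) : R) ^ i := by
  have h2 : ((χ m : Rˣ) : R) ^ (p - 1) = 1 := by
    rw [← Units.val_pow_eq_pow_val, ← map_pow, ZMod.units_pow_card_sub_one_eq_one, map_one,
      Units.val_one]
  rw [pow_add, pow_mul, h2, one_pow, mul_one]

lemma eigenAug_period (i k : ℕ) :
    OortTate.eigenAug R A p χ (i + (p - 1) * k) = OortTate.eigenAug R A p χ i := by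
  ext f
  rw [mem_eigenAug_iff, mem_eigenAug_iff]
  simp_rw [chi_pow_period]

end eigenmul

section mup2

variable (p : ℕ) [Fact p.Prime] {R : Type u} [CommRing R]
  (u : R) (hu : u * ((p - 1 : ℕ) : R) = 1) (χ : (ZMod p)ˣ →* Rˣ)
  (hχ : ∀ m : (ZMod p)ˣ, m ≠ 1 → IsUnit ((χ m : R) - 1))

lemma yE_period (i k : ℕ) : yE p u χ (i + (p - 1) * k) = yE p u χ i := by
  unfold yE
  simp_rw [chi_pow_period]

include hu hχ in
lemma eigenAug_le_span (i : ℕ) (hi : i < p - 1) :
    OortTate.eigenAug R (Ap p R) p χ i ≤ Submodule.span R {yE p u χ i} := by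
  intro f hf
  have hf0 := ((mem_eigenAug_iff p χ i f).mp hf).1
  have hspan := mem_span_yE p u hu χ hχ f hf0
  obtain ⟨c, hc⟩ := (Submodule.mem_span_range_iff_exists_fun R).mp hspan
  have h1 := proj_eq_self p u hu χ i f hf
  subst hc
  rw [← h1, map_sum]
  refine Submodule.sum_mem _ fun j _ => ?_
  rw [map_smul]
  refine Submodule.smul_mem _ _ ?_
  by_cases hji : (j : ℕ) = i
  · rw [hji, proj_eq_self p u hu χ i _ (yE_mem_eigenAug p u χ i)]
    exact Submodule.mem_span_singleton_self _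
  · rw [proj_eq_zero p u χ hχ i j hi j.2 (fun h => hji h.symm) _ (yE_mem_eigenAug p u χ j)]
    exact zero_mem _

include hu hχ in
lemma eigenAug_Ap_eq_span (i : ℕ) :
    OortTate.eigenAug R (Ap p R) p χ i = Submodule.span R {yE p u χ i} := by
  have hp1 : 0 < p - 1 := Nat.sub_pos_of_lt (Fact.out : p.Prime).one_lt
  refine le_antisymm ?_ ?_
  · rw [← Nat.mod_add_div i (p - 1), eigenAug_period, yE_period]
    exact eigenAug_le_span p u hu χ hχ _ (Nat.mod_lt _ hp1)
  · rw [Submodule.span_singleton_le_iff_mem]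
    exact yE_mem_eigenAug p u χ i

end mup2

section bc

variable (p : ℕ) [Fact p.Prime] {R : Type u} [CommRing R] {κ : Type u} [CommRing κ] (π : R →+* κ)

/-- base change of group algebras -/
noncomputable abbrev bc : Ap p R →+* Ap p κ := MonoidAlgebra.mapRingHom _ π

lemma bc_tm (z : ZMod p) : bc p π (tm p R z) = tm p κ z := by
  unfold tm
  rw [MonoidAlgebra.coe_mapRingHom, MonoidAlgebra.map_single]
  simp

lemma bc_smul (r : R) (x : Ap p R) : bc p π (r • x) = π r • bc p π x := by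
  ext g
  simp

lemma bc_yE (u : R) (χ : (ZMod p)ˣ →* Rˣ) (i : ℕ) :
    bc p π (yE p u χ i) = yE p (π u) ((Units.map (π : R →* κ)).comp χ) i := by
  unfold yE
  rw [bc_smul, map_sum]
  congr 1
  refine Finset.sum_congr rfl fun m _ => ?_
  rw [bc_smul, map_sub, map_one, bc_tm, map_pow]
  rfl

end bc

section field

variable (p : ℕ) [Fact p.Prime] {κ : Type u} [Field κ]

lemma tm_one_pow (R : Type u) [CommRing R] (n : ℕ) : (tm p R 1) ^ n = tm p R (n : ZMod p) := by
  unfold tm
  rw [MonoidAlgebra.single_pow, one_pow, ← ofAdd_nsmul, nsmul_eq_mul, mul_one]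

lemma cf_aeval (q : Polynomial κ) (hq : q.natDegree < p) (j : ℕ) (hj : j < p) :
    cf p (j : ZMod p) (Polynomial.aeval (tm p κ 1) q) = q.coeff j := by
  rw [Polynomial.aeval_eq_sum_range, map_sum]
  simp_rw [map_smul, tm_one_pow, cf_tm, smul_eq_mul]
  rw [Finset.sum_eq_single j]
  · simp
  · intro i hi hij
    rw [Finset.mem_range] at hi
    have : ¬ ((i : ZMod p) = (j : ZMod p)) := by
      intro h
      rw [ZMod.natCast_eq_natCast_iff'] at h
      rw [Nat.mod_eq_of_lt (by omega), Nat.mod_eq_of_lt hj] at h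
      exact hij h
    rw [if_neg this, mul_zero]
  · intro hj'
    rw [Finset.mem_range, not_lt] at hj'
    rw [Polynomial.coeff_eq_zero_of_natDegree_lt (by omega), zero_mul]

lemma t_pow_ne_zero : (tm p κ 1 - 1) ^ (p - 1) ≠ 0 := by
  intro h
  have hp1 : 1 ≤ p := (Fact.out : p.Prime).one_lt.le
  have hm : ((Polynomial.X - Polynomial.C (1 : κ)) ^ (p - 1)).Monic :=
    (Polynomial.monic_X_sub_C 1).pow _
  have hd : ((Polynomial.X - Polynomial.C (1 : κ)) ^ (p - 1)).natDegree = p - 1 := by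
    rw [(Polynomial.monic_X_sub_C (1 : κ)).natDegree_pow, Polynomial.natDegree_X_sub_C, mul_one]
  have h1 := cf_aeval p ((Polynomial.X - Polynomial.C (1 : κ)) ^ (p - 1)) (by omega) (p - 1)
    (by omega)
  rw [map_pow, map_sub, Polynomial.aeval_X, Polynomial.aeval_C, map_one, h, map_zero] at h1
  have h2 := hm.coeff_natDegree
  rw [hd] at h2
  rw [h2] at h1
  exact zero_ne_one h1

lemma charP_Ap [CharP κ p] : CharP (Ap p κ) p :=
  charP_of_injective_algebraMap (algebraMap κ (Ap p κ)).injective p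

lemma pow_p_eq [CharP κ p] (f : Ap p κ) :
    f ^ p = (Coalgebra.counit (R := κ) f) ^ p • (1 : Ap p κ) := by
  haveI := charP_Ap p (κ := κ)
  have key : frobenius (Ap p κ) p =
      (algebraMap κ (Ap p κ)).comp ((frobenius κ p).comp
        (Bialgebra.counitAlgHom κ (Ap p κ)).toRingHom) := by
    refine MonoidAlgebra.ringHom_ext (fun b => ?_) (fun a => ?_)
    · simp [frobenius_def, MonoidAlgebra.single_pow]
    · obtain ⟨z, rfl⟩ := Multiplicative.ofAdd.surjective a
      simp [frobenius_def, MonoidAlgebra.single_pow, ← ofAdd_nsmul]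
  have := congrArg (fun g : Ap p κ →+* Ap p κ => g f) key
  simp only [frobenius_def, RingHom.comp_apply] at this
  rw [this, Algebra.algebraMap_eq_smul_one]
  rfl

variable (u : κ) (hu : u * ((p - 1 : ℕ) : κ) = 1) (χ : (ZMod p)ˣ →* κˣ)

variable (κ) in
/-- geometric sum -/
noncomputable def gs (m : (ZMod p)ˣ) : Ap p κ :=
  ∑ j ∈ Finset.range (m : ZMod p).val, (tm p κ 1) ^ j

lemma t_mul_gs (m : (ZMod p)ˣ) : (tm p κ 1 - 1) * gs p κ m = tm p κ (m : ZMod p) - 1 := by
  unfold gs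
  rw [mul_geom_sum, tm_one_pow, ZMod.natCast_zmod_val]

lemma counit_gs (m : (ZMod p)ˣ) :
    Coalgebra.counit (R := κ) (gs p κ m) = (((m : ZMod p).val : ℕ) : κ) := by
  unfold gs
  rw [map_sum]
  simp_rw [tm_one_pow, counit_tm]
  simp

/-- the unit factor of `y_1` in characteristic `p` -/
noncomputable def vv : Ap p κ := u • ∑ m : (ZMod p)ˣ, ((χ m⁻¹ : κˣ) : κ) • gs p κ m

lemma yE_one_eq : yE p u χ 1 = (tm p κ 1 - 1) * vv p u χ := by
  unfold yE vv
  rw [mul_smul_comm, Finset.mul_sum]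
  congr 1
  refine Finset.sum_congr rfl fun m _ => ?_
  rw [pow_one, mul_smul_comm, t_mul_gs]

include hu in
lemma counit_vv (hχv : ∀ m : (ZMod p)ˣ, ((χ m : κˣ) : κ) = (((m : ZMod p).val : ℕ) : κ)) :
    Coalgebra.counit (R := κ) (vv p u χ) = 1 := by
  unfold vv
  rw [map_smul, map_sum]
  have : ∀ m : (ZMod p)ˣ,
      Coalgebra.counit (R := κ) (((χ m⁻¹ : κˣ) : κ) • gs p κ m) = 1 := by
    intro m
    rw [map_smul, counit_gs, ← hχv m, smul_eq_mul, ← Units.val_mul, ← map_mul, inv_mul_cancel,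
      map_one, Units.val_one]
  rw [Finset.sum_congr rfl fun m _ => this m, Finset.sum_const, Finset.card_univ, ZMod.card_units,
    smul_eq_mul, nsmul_eq_mul, mul_one, hu]

include hu in
lemma yE_one_pow_ne_zero
    (hχp : ∀ m : (ZMod p)ˣ, ((χ m : κˣ) : κ) - (((m : ZMod p).val : ℕ) : κ) ∈
      Ideal.span ({(p : κ)} : Set κ)) :
    (yE p u χ 1) ^ (p - 1) ≠ 0 := by
  have hp1 : 1 ≤ p := (Fact.out : p.Prime).one_lt.le
  by_cases hp0 : (p : κ) = 0
  · haveI : CharP κ p := (CharP.charP_iff_prime_eq_zero Fact.out).mpr hp0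
    have hχv : ∀ m : (ZMod p)ˣ, ((χ m : κˣ) : κ) = (((m : ZMod p).val : ℕ) : κ) := by
      intro m
      have := hχp m
      rw [hp0, Ideal.span_singleton_eq_bot.mpr rfl, Ideal.mem_bot, sub_eq_zero] at this
      exact this
    intro h
    rw [yE_one_eq, mul_pow] at h
    have hv : (vv p u χ) ^ p = 1 := by
      rw [pow_p_eq, counit_vv p u hu χ hχv, one_pow, one_smul]
    have h0 : (tm p κ 1 - 1) ^ (p - 1) = 0 := by
      calc (tm p κ 1 - 1) ^ (p - 1)
          = (tm p κ 1 - 1) ^ (p - 1) * (vv p u χ) ^ (p - 1) * vv p u χ := by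
            rw [mul_assoc, ← pow_succ, Nat.sub_add_cancel hp1, hv, mul_one]
        _ = 0 := by rw [h, zero_mul]
    exact t_pow_ne_zero p h0
  · haveI : NeZero ((Nat.card (Multiplicative (ZMod p)) : ℕ) : κ) := by
      refine ⟨?_⟩
      rw [Nat.card_eq_fintype_card, Fintype.card_multiplicative, ZMod.card]
      exact hp0
    haveI : IsSemisimpleRing (Ap p κ) := inferInstance
    haveI : IsReduced (Ap p κ) := inferInstance
    intro h
    have h1 : yE p u χ 1 = 0 := IsReduced.eq_zero _ ⟨p - 1, h⟩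
    have h2 := cf_yE p u χ 1 1
    rw [Units.val_one, h1, map_zero, inv_one, map_one, Units.val_one, one_pow, mul_one] at h2
    rw [← h2, zero_mul] at hu
    exact zero_ne_one hu

end field

section final

variable (p : ℕ) [Fact p.Prime] {R : Type u} [CommRing R]
  (u : R) (hu : u * ((p - 1 : ℕ) : R) = 1) (χ : (ZMod p)ˣ →* Rˣ)
  (hχ : ∀ m : (ZMod p)ˣ, m ≠ 1 → IsUnit ((χ m : R) - 1))
  (hχp : ∀ m : (ZMod p)ˣ, ((χ m : Rˣ) : R) - (((m : ZMod p).val : ℕ) : R) ∈
    Ideal.span ({(p : R)} : Set R))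

include hu hχ in
lemma exists_w (i : ℕ) (hi : 1 ≤ i) : ∃ w : R, (yE p u χ 1) ^ i = w • yE p u χ i := by
  have h1 := pow_mem_eigenAug p χ (yE p u χ 1) (yE_mem_eigenAug p u χ 1) i hi
  rw [eigenAug_Ap_eq_span p u hu χ hχ i, Submodule.mem_span_singleton] at h1
  obtain ⟨w, hw⟩ := h1
  exact ⟨w, hw.symm⟩

include hu hχp in
lemma w_isUnit (i : ℕ) (hip : i ≤ p - 1) (w : R)
    (hw : (yE p u χ 1) ^ i = w • yE p u χ i) : IsUnit w := by
  by_contra hnu
  obtain ⟨M, hM, hwM⟩ := exists_max_ideal_of_mem_nonunits hnu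
  letI : Field (R ⧸ M) := Ideal.Quotient.field M
  let π : R →+* (R ⧸ M) := Ideal.Quotient.mk M
  have hπw : π w = 0 := Ideal.Quotient.eq_zero_iff_mem.mpr hwM
  have h1 := congrArg (bc p π) hw
  rw [map_pow, bc_smul, hπw, zero_smul, bc_yE] at h1
  have h2 : (yE p (π u) ((Units.map (π : R →* (R ⧸ M))).comp χ) 1) ^ (p - 1) = 0 := by
    rw [← Nat.sub_add_cancel hip, pow_add, h1, mul_zero]
  refine yE_one_pow_ne_zero p (π u) ?_ _ ?_ h2
  · rw [← map_natCast π, ← map_mul, hu, map_one]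
  · intro m
    have h3 := Ideal.mem_map_of_mem π (hχp m)
    rw [Ideal.map_span, Set.image_singleton, map_natCast, map_sub, map_natCast] at h3
    exact h3

include hu hχ hχp in
lemma yE_mem_adjoin (i : ℕ) (hi : 1 ≤ i) (hip : i ≤ p - 1) :
    yE p u χ i ∈ Algebra.adjoin R ({yE p u χ 1} : Set (Ap p R)) := by
  obtain ⟨w, hw⟩ := exists_w p u hu χ hχ i hi
  obtain ⟨v, rfl⟩ := w_isUnit p u hu χ hχp i hip w hw
  have : yE p u χ i = ((v⁻¹ : Rˣ) : R) • (yE p u χ 1) ^ i := by
    rw [hw, smul_smul, Units.inv_mul, one_smul]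
  rw [this]
  have hmem : yE p u χ 1 ∈ Algebra.adjoin R ({yE p u χ 1} : Set (Ap p R)) :=
    Algebra.subset_adjoin (Set.mem_singleton _)
  exact Subalgebra.smul_mem _ (pow_mem hmem i) _

include hu hχ hχp in
theorem mup_main :
    LinearIndependent R (fun i : Fin (p - 1) => OortTate.ygen R p u χ (i : ℕ)) ∧
      Submodule.span R (Set.range (fun i : Fin (p - 1) => OortTate.ygen R p u χ (i : ℕ))) =
        LinearMap.ker (Bialgebra.counitAlgHom R (Ap p R)).toLinearMap ∧
      Algebra.adjoin R ({OortTate.ygen R p u χ 1} : Set (Ap p R)) = ⊤ ∧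
      ∃! w : R, OortTate.ygen R p u χ 1 ^ p = w • OortTate.ygen R p u χ 1 := by
  have hp1 : 1 < p := (Fact.out : p.Prime).one_lt
  have e1 : (fun i : Fin (p - 1) => OortTate.ygen R p u χ (i : ℕ)) =
      fun i : Fin (p - 1) => yE p u χ (i : ℕ) := funext fun i => ygen_eq p u χ i
  rw [e1, ygen_eq]
  have hspan : Submodule.span R (Set.range (fun i : Fin (p - 1) => yE p u χ (i : ℕ))) =
      LinearMap.ker (Bialgebra.counitAlgHom R (Ap p R)).toLinearMap := by
    refine le_antisymm ?_ ?_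
    · rw [Submodule.span_le]
      rintro _ ⟨i, rfl⟩
      rw [SetLike.mem_coe, LinearMap.mem_ker]
      exact counit_yE p u χ i
    · intro f hf
      exact mem_span_yE p u hu χ hχ f (LinearMap.mem_ker.mp hf)
  refine ⟨linearIndependent_yE p u hu χ hχ, hspan, ?_, ?_⟩
  · rw [eq_top_iff]
    intro f _
    have hle : Submodule.span R (Set.range (fun i : Fin (p - 1) => yE p u χ (i : ℕ))) ≤
        Subalgebra.toSubmodule (Algebra.adjoin R ({yE p u χ 1} : Set (Ap p R))) := by
      rw [Submodule.span_le]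
      rintro _ ⟨i, rfl⟩
      by_cases hi : (i : ℕ) = 0
      · have h0 := yE_period p u χ 0 1
        rw [zero_add, mul_one] at h0
        show yE p u χ (i : ℕ) ∈ Algebra.adjoin R ({yE p u χ 1} : Set (Ap p R))
        rw [hi, ← h0]
        exact yE_mem_adjoin p u hu χ hχ hχp (p - 1) (by omega) le_rfl
      · exact yE_mem_adjoin p u hu χ hχ hχp i (by omega) i.2.le
    have hdec : f = Coalgebra.counit (R := R) f • (1 : Ap p R) +
        (f - Coalgebra.counit (R := R) f • (1 : Ap p R)) := by ring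
    rw [hdec]
    refine Subalgebra.add_mem _ (Subalgebra.smul_mem _ (Subalgebra.one_mem _) _) ?_
    refine hle ?_
    rw [hspan, LinearMap.mem_ker]
    show Coalgebra.counit (R := R) (f - Coalgebra.counit (R := R) f • (1 : Ap p R)) = 0
    rw [map_sub, map_smul, Bialgebra.counit_one, smul_eq_mul, mul_one, sub_self]
  · obtain ⟨w, hw⟩ := exists_w p u hu χ hχ p hp1.le
    have hpe : yE p u χ p = yE p u χ 1 := by
      have := yE_period p u χ 1 1
      rwa [show 1 + (p - 1) * 1 = p by omega] at this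
    rw [hpe] at hw
    refine ⟨w, hw, fun w' hw' => ?_⟩
    have h2 : w' • yE p u χ 1 = w • yE p u χ 1 := by rw [← hw, ← hw']
    have h3 := congrArg (cf p ((1 : (ZMod p)ˣ) : ZMod p)) h2
    rw [map_smul, map_smul, cf_yE, inv_one, map_one, Units.val_one, one_pow, mul_one, smul_eq_mul,
      smul_eq_mul] at h3
    calc w' = w' * (u * ((p - 1 : ℕ) : R)) := by rw [hu, mul_one]
      _ = w * (u * ((p - 1 : ℕ) : R)) := by rw [← mul_assoc, h3, mul_assoc]
      _ = w := by rw [hu, mul_one]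

end final

end Groth.Agent.Helper2.OT
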