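import Mathlib
import Groth.Prelude.Def_AlphaP
import Groth.Prelude.Def_ConstGrp
import Groth.Agent.Lib.Helper2.Hopf.PrimeOrder
import Groth.Agent.Lib.Helper2.Hopf.SimpleMult

/-!
# Classification of finite group schemes of prime order over an algebraically closed field of
positive characteristic (helper2)
-/

set_option autoImplicit false
open scoped TensorProduct
open WithConv

namespace Groth.Agent.Helper2.HopfLib

universe u v w

section general

variable {k : Type u} [Field k] {A : Type v} [CommRing A] [HopfAlgebra k A] [Module.Finite k A]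

/-- a Hopf algebra of prime dimension has no nontrivial Hopf ideals -/
lemma hopfIdeal_trivial_of_prime (p : ℕ) (hp : p.Prime) (hA : Module.finrank k A = p)
    (J : Ideal A) (hJ : J.IsHopfIdeal k) : J = ⊥ ∨ J = augI k A := by
  have hdvd := finrank_quotient_dvd (k := k) J
  rw [hA] at hdvd
  rcases (Nat.dvd_prime hp).mp hdvd with h1 | h1
  · right
    apply le_antisymm
    · intro a ha
      exact (mem_augI_iff a).mpr (hJ.counit_eq_zero (show a ∈ J.restrictScalars k from ha))
    · intro a ha
      haveI : Nontrivial (A ⧸ J) := by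
        apply Module.nontrivial_of_finrank_pos (R := k)
        rw [h1]; exact Nat.one_pos
      have h2 := (finrank_eq_one_iff_of_nonzero' (1 : A ⧸ J) one_ne_zero).mp h1
        (Ideal.Quotient.mk J a)
      obtain ⟨c, hc⟩ := h2
      have h3 := congrArg (Coalgebra.counit (R := k)) hc
      rw [map_smul, Bialgebra.counit_one, smul_eq_mul, mul_one] at h3
      have h4 : Coalgebra.counit (R := k) (Ideal.Quotient.mk J a) = 0 := by
        rw [Bialgebra.Quotient.counit_mk]
        exact (mem_augI_iff a).mp ha
      rw [h4] at h3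
      rw [h3, zero_smul] at hc
      exact Ideal.Quotient.eq_zero_iff_mem.mp hc.symm
  · left
    have hsurj : Function.Surjective (Ideal.Quotient.mkₐ k J).toLinearMap :=
      Ideal.Quotient.mk_surjective
    have hinj : Function.Injective (Ideal.Quotient.mkₐ k J).toLinearMap :=
      (LinearMap.injective_iff_surjective_of_finrank_eq_finrank (by rw [hA, h1])).mpr hsurj
    rw [eq_bot_iff]
    intro a ha
    rw [Ideal.mem_bot]
    apply hinj
    rw [map_zero]
    exact Ideal.Quotient.eq_zero_iff_mem.mpr ha

lemma finrank_quot_frobI (ℓ : ℕ) [Fact ℓ.Prime] [CharP k ℓ] :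
    Module.finrank k (A ⧸ frobI k A ℓ) = ℓ ^ Module.finrank k (augI k A).Cotangent := by
  haveI := isHopfIdeal_frobI (k := k) (A := A) ℓ
  have h1 := finrank_heightOne (k := k) (H := A ⧸ frobI k A ℓ) ℓ
    (heightOne_quotient ℓ (frobI k A ℓ) (fun a ha => pow_mem_frobI ℓ ha))
  rw [finrank_cotangent_quotient (frobI k A ℓ) (frobI_le_augI_sq ℓ)] at h1
  exact h1

/-- a non-étale group scheme of order `p` in characteristic `p` has height one -/
lemma heightOne_of_nonetale (p : ℕ) [Fact p.Prime] [CharP k p] (hA : Module.finrank k A = p)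
    (h : ¬ augI k A ≤ (augI k A) ^ 2) :
    ∀ a : A, Coalgebra.counit (R := k) a = 0 → a ^ p = 0 := by
  have hp : p.Prime := Fact.out
  have hpos := finrank_cotangent_pos h
  have hfin := finrank_quot_frobI (k := k) (A := A) p
  haveI := isHopfIdeal_frobI (k := k) (A := A) p
  have hdvd := finrank_quotient_dvd (k := k) (frobI k A p)
  rw [hfin, hA] at hdvd
  have hJ : frobI k A p = ⊥ := by
    rcases hopfIdeal_trivial_of_prime p hp hA (frobI k A p) inferInstance with h1 | h1
    · exact h1
    · exfalso
      -- then the quotient has dimension one, but it is p^r with r ≥ 1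
      have h2 : Module.finrank k (A ⧸ frobI k A p) = 1 := by
        rw [h1]
        have e : (A ⧸ augI k A) ≃ₗ[k] k :=
          (Ideal.quotientKerAlgEquivOfSurjective
            (f := Bialgebra.counitAlgHom k A) (fun c => ⟨algebraMap k A c, by simp⟩)).toLinearEquiv
        rw [e.finrank_eq, Module.finrank_self]
      rw [hfin] at h2
      have : p ^ Module.finrank k (augI k A).Cotangent ≥ p := by
        calc p = p ^ 1 := (pow_one p).symm
          _ ≤ p ^ Module.finrank k (augI k A).Cotangent :=
            Nat.pow_le_pow_right hp.pos hpos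
      have := hp.one_lt
      omega
  intro a ha
  have h3 := pow_mem_frobI (k := k) p ((mem_augI_iff a).mpr ha)
  rw [hJ, Ideal.mem_bot] at h3
  exact h3

lemma isLocalRing_of_heightOne (p : ℕ)
    (h1 : ∀ a : A, Coalgebra.counit (R := k) a = 0 → a ^ p = 0) : IsLocalRing A := by
  have hunit : ∀ a : A, Coalgebra.counit (R := k) a ≠ 0 → IsUnit a := by
    intro a ha
    have hn : IsNilpotent (a - algebraMap k A (Coalgebra.counit (R := k) a)) := by
      refine ⟨p, h1 _ ?_⟩
      rw [map_sub, Algebra.algebraMap_eq_smul_one, map_smul, Bialgebra.counit_one, smul_eq_mul,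
        mul_one, sub_self]
    have hu : IsUnit (algebraMap k A (Coalgebra.counit (R := k) a)) :=
      (IsUnit.mk0 _ ha).map (algebraMap k A)
    have := hn.isUnit_add_left_of_commute hu (Commute.all _ _)
    rwa [add_sub_cancel] at this
  haveI : Nontrivial A := by
    by_contra hcon
    rw [not_nontrivial_iff_subsingleton] at hcon
    have : (1 : k) = 0 := by
      rw [← Bialgebra.counit_one (R := k) (A := A), Subsingleton.elim (1 : A) 0, map_zero]
    exact one_ne_zero this
  refine IsLocalRing.of_nonunits_add ?_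
  intro a b ha hb
  have ha0 : Coalgebra.counit (R := k) a = 0 := by
    by_contra hne; exact ha (hunit a hne)
  have hb0 : Coalgebra.counit (R := k) b = 0 := by
    by_contra hne; exact hb (hunit b hne)
  intro hab
  have h2 : (a + b) ^ p = 0 := h1 _ (by rw [map_add, ha0, hb0, add_zero])
  have h3 : IsUnit ((a + b) ^ p) := hab.pow p
  rw [h2] at h3
  exact not_isUnit_zero h3

end general

section isos

variable {k : Type u} [Field k] {A : Type v} [CommRing A] [HopfAlgebra k A] [Module.Finite k A]

/-- a Hopf algebra spanned by the powers of a primitive `p`-nilpotent element is `α_p` -/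
theorem nonempty_bialgEquiv_alphaP (p : ℕ) [Fact p.Prime] [CharP k p] (x : A)
    (hprim : Coalgebra.comul (R := k) x = x ⊗ₜ[k] (1 : A) + (1 : A) ⊗ₜ[k] x) (hx : x ^ p = 0)
    (hli : LinearIndependent k (fun i : Fin p => x ^ (i : ℕ)))
    (hA : Module.finrank k A = p) : Nonempty (A ≃ₐc[k] AlphaP.A p k) := by
  haveI : Nontrivial A := by
    apply Module.nontrivial_of_finrank_pos (R := k)
    rw [hA]; exact (Fact.out : p.Prime).pos
  let Φ : AlphaP.A p k →ₐ[k] A := AlphaP.lift p k x hx
  have hΦx : Φ (AlphaP.x p k) = x := AlphaP.lift_x x hx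
  have hcounit : (Bialgebra.counitAlgHom k A).comp Φ = Bialgebra.counitAlgHom k (AlphaP.A p k) := by
    apply AlphaP.algHom_ext
    rw [AlgHom.comp_apply, hΦx]
    show Coalgebra.counit (R := k) x = Coalgebra.counit (R := k) (AlphaP.x p k)
    rw [counit_eq_zero_of_primitive hprim, AlphaP.counit_x]
  have hcomul : (Algebra.TensorProduct.map Φ Φ).comp (Bialgebra.comulAlgHom k (AlphaP.A p k)) =
      (Bialgebra.comulAlgHom k A).comp Φ := by
    apply AlphaP.algHom_ext
    rw [AlgHom.comp_apply, AlgHom.comp_apply, hΦx]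
    show Algebra.TensorProduct.map Φ Φ (Coalgebra.comul (R := k) (AlphaP.x p k)) =
      Coalgebra.comul (R := k) x
    rw [AlphaP.comul_x, map_add, Algebra.TensorProduct.map_tmul, Algebra.TensorProduct.map_tmul,
      hΦx, map_one, hprim]
  let Φb : AlphaP.A p k →ₐc[k] A := BialgHom.ofAlgHom Φ hcounit hcomul
  have hspan : Submodule.span k (Set.range (fun i : Fin p => x ^ (i : ℕ))) = ⊤ := by
    apply hli.span_eq_top_of_card_eq_finrank'
    rw [Fintype.card_fin, hA]
  have hsurj : Function.Surjective Φ.toLinearMap := by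
    rw [← LinearMap.range_eq_top, eq_top_iff, ← hspan, Submodule.span_le]
    rintro _ ⟨i, rfl⟩
    exact ⟨(AlphaP.x p k) ^ (i : ℕ), by
      show Φ ((AlphaP.x p k) ^ (i : ℕ)) = x ^ (i : ℕ)
      rw [map_pow, hΦx]⟩
  have hinj : Function.Injective Φ.toLinearMap :=
    (LinearMap.injective_iff_surjective_of_finrank_eq_finrank
      (by rw [AlphaP.finrank_eq, hA])).mpr hsurj
  exact ⟨(BialgEquiv.ofBijective Φb ⟨hinj, hsurj⟩).symm⟩

/-- a Hopf algebra spanned by the powers of a group-like element of order `p` is `μ_p` -/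
theorem nonempty_bialgEquiv_muP (p : ℕ) [Fact p.Prime] (g : A) (hg : IsGroupLikeElem k g)
    (hgp : g ^ p = 1) (hli : LinearIndependent k (fun i : Fin p => g ^ (i : ℕ)))
    (hA : Module.finrank k A = p) :
    Nonempty (A ≃ₐc[k] MonoidAlgebra k (Multiplicative (ZMod p))) := by
  let ψ : Multiplicative (ZMod p) →* A :=
    { toFun := fun z => g ^ (Multiplicative.toAdd z).val
      map_one' := by
        show g ^ (0 : ZMod p).val = 1
        rw [ZMod.val_zero, pow_zero]
      map_mul' := by
        intro a b
        show g ^ (Multiplicative.toAdd a + Multiplicative.toAdd b).val =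
          g ^ (Multiplicative.toAdd a).val * g ^ (Multiplicative.toAdd b).val
        rw [ZMod.val_add, ← pow_add]
        exact (pow_eq_pow_mod _ hgp).symm }
  let Φ : MonoidAlgebra k (Multiplicative (ZMod p)) →ₐ[k] A :=
    MonoidAlgebra.lift k A (Multiplicative (ZMod p)) ψ
  have hΦ : ∀ z : Multiplicative (ZMod p), Φ (MonoidAlgebra.single z 1) =
      g ^ (Multiplicative.toAdd z).val := by
    intro z
    show MonoidAlgebra.lift k A (Multiplicative (ZMod p)) ψ (MonoidAlgebra.single z 1) = _
    rw [MonoidAlgebra.lift_single, one_smul]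
    rfl
  have hcounit : (Bialgebra.counitAlgHom k A).comp Φ =
      Bialgebra.counitAlgHom k (MonoidAlgebra k (Multiplicative (ZMod p))) := by
    refine MonoidAlgebra.algHom_ext (fun z => ?_) (Subsingleton.elim _ _)
    rw [AlgHom.comp_apply, hΦ]
    show Coalgebra.counit (R := k) (g ^ (Multiplicative.toAdd z).val) =
      Coalgebra.counit (R := k) (MonoidAlgebra.single z (1 : k))
    rw [(hg.pow).counit_eq_one, MonoidAlgebra.counit_single]
    rfl
  have hcomul : (Algebra.TensorProduct.map Φ Φ).comp
      (Bialgebra.comulAlgHom k (MonoidAlgebra k (Multiplicative (ZMod p)))) =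
      (Bialgebra.comulAlgHom k A).comp Φ := by
    refine MonoidAlgebra.algHom_ext (fun z => ?_) (Subsingleton.elim _ _)
    rw [AlgHom.comp_apply, AlgHom.comp_apply, hΦ]
    show Algebra.TensorProduct.map Φ Φ (Coalgebra.comul (R := k) (MonoidAlgebra.single z (1 : k))) =
      Coalgebra.comul (R := k) (g ^ (Multiplicative.toAdd z).val)
    rw [(hg.pow).comul_eq_tmul_self, MonoidAlgebra.comul_single]
    simp [hΦ]
  let Φb : MonoidAlgebra k (Multiplicative (ZMod p)) →ₐc[k] A := BialgHom.ofAlgHom Φ hcounit hcomul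
  have hspan : Submodule.span k (Set.range (fun i : Fin p => g ^ (i : ℕ))) = ⊤ := by
    apply hli.span_eq_top_of_card_eq_finrank'
    rw [Fintype.card_fin, hA]
  have hsurj : Function.Surjective Φ.toLinearMap := by
    rw [← LinearMap.range_eq_top, eq_top_iff, ← hspan, Submodule.span_le]
    rintro _ ⟨i, rfl⟩
    refine ⟨MonoidAlgebra.single (Multiplicative.ofAdd ((i : ℕ) : ZMod p)) 1, ?_⟩
    show Φ (MonoidAlgebra.single (Multiplicative.ofAdd ((i : ℕ) : ZMod p)) 1) = g ^ (i : ℕ)
    rw [hΦ, toAdd_ofAdd, ZMod.val_natCast, Nat.mod_eq_of_lt i.2]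
  have hfin : Module.finrank k (MonoidAlgebra k (Multiplicative (ZMod p))) = p := by
    have e : MonoidAlgebra k (Multiplicative (ZMod p)) ≃ₗ[k] (Multiplicative (ZMod p) →₀ k) :=
      { MonoidAlgebra.coeffAddEquiv with map_smul' := fun _ _ => rfl }
    rw [e.finrank_eq, Module.finrank_finsupp_self, Fintype.card_multiplicative, ZMod.card]
  have hinj : Function.Injective Φ.toLinearMap :=
    (LinearMap.injective_iff_surjective_of_finrank_eq_finrank (by rw [hfin, hA])).mpr hsurj
  exact ⟨(BialgEquiv.ofBijective Φb ⟨hinj, hsurj⟩).symm⟩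

end isos

section classify

variable {k : Type u} [Field k] [IsAlgClosed k] {A : Type v} [CommRing A] [HopfAlgebra k A]

open Classical in
theorem nonempty_bialgEquiv_const_of_etale [Module.Finite k A] (ℓ : ℕ) [Fact ℓ.Prime]
    (hA : Module.finrank k A = ℓ) (h : augI k A ≤ (augI k A) ^ 2) :
    Nonempty (A ≃ₐc[k] ConstGrp.F k (Multiplicative (ZMod ℓ))) := by
  haveI := isReduced_of_augI_idem h
  have hcard : Nat.card (Pts k A) = ℓ := card_Pts'.trans hA
  have hcard' : Nat.card (Multiplicative (ZMod ℓ)) = ℓ := by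
    rw [Nat.card_eq_fintype_card, Fintype.card_multiplicative, ZMod.card]
  let e : Pts k A ≃* Multiplicative (ZMod ℓ) := mulEquivOfPrimeCardEq hcard hcard'
  exact ⟨(thetaEquiv (k := k) (A := A)).trans (constCongr k e)⟩

theorem classify_prime_order (p : ℕ) [Fact p.Prime] [CharP k p] (ℓ : ℕ) [Fact ℓ.Prime]
    (hA : Module.finrank k A = ℓ) :
    (ℓ ≠ p → Nonempty (A ≃ₐc[k] ConstGrp.F k (Multiplicative (ZMod ℓ)))) ∧
      (ℓ = p → Nonempty (A ≃ₐc[k] ConstGrp.F k (Multiplicative (ZMod p))) ∨
        Nonempty (A ≃ₐc[k] MonoidAlgebra k (Multiplicative (ZMod p))) ∨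
        Nonempty (A ≃ₐc[k] AlphaP.A p k)) := by
  have hℓ : ℓ.Prime := Fact.out
  have hp : p.Prime := Fact.out
  haveI : Module.Finite k A := Module.finite_of_finrank_pos (by rw [hA]; exact hℓ.pos)
  constructor
  · intro hne
    apply nonempty_bialgEquiv_const_of_etale ℓ hA
    by_contra h
    have hdvd := frob_pow_dvd (k := k) (A := A) p
    rw [hA] at hdvd
    have hpos := finrank_cotangent_pos h
    have h1 : p ∣ ℓ := dvd_trans (dvd_pow_self p (by omega)) hdvd
    exact hne ((Nat.prime_dvd_prime_iff_eq hp hℓ).mp h1).symm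
  · intro heq
    subst heq
    by_cases h : augI k A ≤ (augI k A) ^ 2
    · exact Or.inl (nonempty_bialgEquiv_const_of_etale ℓ hA h)
    · right
      haveI : Coalgebra.IsCocomm k A := isCocomm_of_prime_order ℓ hℓ hA
      have h1 := heightOne_of_nonetale ℓ hA h
      haveI : IsLocalRing A := isLocalRing_of_heightOne ℓ h1
      have hsimple := hopfIdeal_trivial_of_prime ℓ hℓ hA
      have hA1 : 1 < Module.finrank k A := by rw [hA]; exact hℓ.one_lt
      have hD : Module.finrank k (CartDual.D k A) = ℓ := by rw [finrank_cartDual, hA]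
      by_cases hd : augI k (CartDual.D k A) ≤ (augI k (CartDual.D k A)) ^ 2
      · left
        have hred : IsReduced (CartDual.D k A) := isReduced_of_augI_idem hd
        obtain ⟨g, hg, hgp, hli, hfin⟩ := simple_multiplicative ℓ hred hA1 hsimple
        exact nonempty_bialgEquiv_muP ℓ g hg hgp hli hfin
      · right
        have h1D := heightOne_of_nonetale ℓ hD hd
        have hloc : IsLocalRing (CartDual.D k A) := isLocalRing_of_heightOne ℓ h1D
        obtain ⟨x, hprim, hx, hli, hfin⟩ := simple_biinfinitesimal ℓ hloc hA1 hsimple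
        exact nonempty_bialgEquiv_alphaP ℓ x hprim hx hli hfin

end classify

end Groth.Agent.Helper2.HopfLib
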