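import Mathlib
import Groth.Agent.Lib.Helper2.Hopf.OTRank
import Groth.Agent.Lib.Helper2.Alg.RankOne

/-!
# The canonical element of `A ⊗ A^D` and the Cartier pairing (helper2)
-/

set_option autoImplicit false
open scoped TensorProduct
open WithConv

namespace Groth.Agent.Helper2.OT

universe u

section psi

variable {R : Type u} [CommRing R] {A : Type u} [CommRing A] [HopfAlgebra R A]
  [Module.Finite R A] [Module.Projective R A]

instance instRightDistribClassTensorAD : RightDistribClass (A ⊗[R] CartDual.D R A) := by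
  let _ : Semiring (A ⊗[R] CartDual.D R A) := inferInstance
  infer_instance

instance instLeftDistribClassTensorAD : LeftDistribClass (A ⊗[R] CartDual.D R A) := by
  let _ : Semiring (A ⊗[R] CartDual.D R A) := inferInstance
  infer_instance

noncomputable instance instMulZeroClassTensorAD : MulZeroClass (A ⊗[R] CartDual.D R A) := by
  let _ : Semiring (A ⊗[R] CartDual.D R A) := inferInstance
  infer_instance

/-- `Ψ : A ⊗ A^D → End A`, `x ⊗ φ ↦ (a ↦ φ(a) x)` -/
noncomputable def PsiEquiv : A ⊗[R] CartDual.D R A ≃ₗ[R] (A →ₗ[R] A) :=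
  (LinearEquiv.lTensor A (CartDual.toDual R A)) ≪≫ₗ TensorProduct.comm R A (Module.Dual R A) ≪≫ₗ
    dualTensorHomEquiv R A A

/-- `Ψ` as a linear map -/
noncomputable abbrev Psi : A ⊗[R] CartDual.D R A →ₗ[R] (A →ₗ[R] A) :=
  (PsiEquiv (R := R) (A := A)).toLinearMap

lemma Psi_tmul (x : A) (φ : CartDual.D R A) (a : A) : Psi (x ⊗ₜ[R] φ) a = φ a • x := by
  show dualTensorHom R A A (TensorProduct.comm R A (Module.Dual R A)
    ((LinearEquiv.lTensor A (CartDual.toDual R A)) (x ⊗ₜ[R] φ))) a = _
  rw [LinearEquiv.lTensor_tmul, TensorProduct.comm_tmul, dualTensorHom_apply]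
  rfl

lemma Psi_injective : Function.Injective (Psi (R := R) (A := A)) :=
  (PsiEquiv (R := R) (A := A)).injective

lemma Psi_eval (z : A ⊗[R] CartDual.D R A) (a : A) :
    TensorProduct.rid R A (LinearMap.lTensor A
      ((Module.Dual.eval R A a) ∘ₗ (CartDual.toDual R A).toLinearMap) z) = Psi z a := by
  induction z using TensorProduct.induction_on with
  | zero => simp
  | add s t hs ht => rw [map_add, map_add, hs, ht, map_add, LinearMap.add_apply]
  | tmul x φ =>
    rw [LinearMap.lTensor_tmul, TensorProduct.rid_tmul, Psi_tmul]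
    rfl

lemma Psi_mul_aux (x y : A) (φ ψ : CartDual.D R A) (t : A ⊗[R] A) :
    (LinearMap.mul' R R (TensorProduct.map φ.ofConv ψ.ofConv t)) • (x * y) =
      LinearMap.mul' R A (TensorProduct.map (Psi (x ⊗ₜ[R] φ)) (Psi (y ⊗ₜ[R] ψ)) t) := by
  induction t using TensorProduct.induction_on with
  | zero => simp
  | add s t hs ht => rw [map_add, map_add, add_smul, hs, ht, map_add, map_add]
  | tmul a b =>
    rw [TensorProduct.map_tmul, TensorProduct.map_tmul, LinearMap.mul'_apply, LinearMap.mul'_apply,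
      Psi_tmul, Psi_tmul, smul_mul_smul_comm]

lemma Psi_mul (z w : A ⊗[R] CartDual.D R A) :
    toConv (Psi (z * w)) = toConv (Psi z) * toConv (Psi w) := by
  induction z using TensorProduct.induction_on with
  | zero => rw [zero_mul, map_zero, toConv_zero, zero_mul]
  | add s t hs ht => rw [add_mul, map_add, toConv_add, hs, ht, map_add, toConv_add, add_mul]
  | tmul x φ =>
    induction w using TensorProduct.induction_on with
    | zero => rw [mul_zero, map_zero, toConv_zero, mul_zero]
    | add s t hs ht => rw [mul_add, map_add, toConv_add, hs, ht, map_add, toConv_add, mul_add]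
    | tmul y ψ =>
      apply WithConv.ofConv_injective
      refine LinearMap.ext fun a => ?_
      rw [Algebra.TensorProduct.tmul_mul_tmul]
      show Psi ((x * y) ⊗ₜ[R] (φ * ψ)) a = (toConv (Psi (x ⊗ₜ[R] φ)) * toConv (Psi (y ⊗ₜ[R] ψ))) a
      rw [Psi_tmul, LinearMap.convMul_apply, LinearMap.convMul_apply]
      exact Psi_mul_aux x y φ ψ _

lemma Psi_one : toConv (Psi (1 : A ⊗[R] CartDual.D R A)) = 1 := by
  apply WithConv.ofConv_injective
  refine LinearMap.ext fun a => ?_
  rw [Algebra.TensorProduct.one_def]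
  show Psi ((1 : A) ⊗ₜ[R] (1 : CartDual.D R A)) a = (1 : WithConv (A →ₗ[R] A)) a
  rw [Psi_tmul, LinearMap.convOne_apply, LinearMap.convOne_apply, Algebra.algebraMap_eq_smul_one,
    Algebra.algebraMap_eq_smul_one, smul_eq_mul, mul_one]

lemma Psi_pow (z : A ⊗[R] CartDual.D R A) (n : ℕ) :
    toConv (Psi (z ^ n)) = (toConv (Psi z)) ^ n := by
  induction n with
  | zero => rw [pow_zero, pow_zero, Psi_one]
  | succ n ih => rw [pow_succ, pow_succ, Psi_mul, ih]

lemma Psi_map (f h : A →ₗ[R] A) (z : A ⊗[R] CartDual.D R A) :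
    Psi (TensorProduct.map f (tr h) z) = f ∘ₗ Psi z ∘ₗ h := by
  induction z using TensorProduct.induction_on with
  | zero => simp
  | add s t hs ht =>
    rw [map_add, map_add, hs, ht, map_add, LinearMap.add_comp, LinearMap.comp_add]
  | tmul x φ =>
    refine LinearMap.ext fun a => ?_
    rw [TensorProduct.map_tmul, Psi_tmul, LinearMap.comp_apply, LinearMap.comp_apply, Psi_tmul,
      map_smul, tr_apply]

/-- evaluation at `a` as a linear form on the dual -/
noncomputable def evA (a : A) : CartDual.D R A →ₗ[R] R :=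
  (LinearMap.applyₗ a) ∘ₗ (CartDual.toDual R A).toLinearMap

lemma evA_apply (a : A) (φ : CartDual.D R A) : evA a φ = φ a := rfl

end psi

section pairing

variable (p : ℕ) [Fact p.Prime] {R : Type u} [CommRing R] (u : R)
  (hu : u * ((p - 1 : ℕ) : R) = 1) (χ : (ZMod p)ˣ →* Rˣ)
  {A : Type u} [CommRing A] [HopfAlgebra R A]

/-- the constant `c_i = u Σ χ(m⁻¹)^i` -/
noncomputable def cc (i : ℕ) : R := u * ∑ m : (ZMod p)ˣ, ((χ m⁻¹ : Rˣ) : R) ^ i

lemma proj_one (i : ℕ) : OortTate.proj R A p u χ i 1 = cc p u χ i • (1 : A) := by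
  rw [proj_apply]
  simp_rw [map_one]
  rw [← Finset.sum_smul, smul_smul]
  rfl

lemma counit_proj (i : ℕ) (a : A) :
    Coalgebra.counit (R := R) (OortTate.proj R A p u χ i a) =
      cc p u χ i * Coalgebra.counit (R := R) a := by
  rw [proj_apply, map_smul, map_sum]
  simp_rw [map_smul, counit_powConv]
  rw [← Finset.sum_smul, smul_smul]
  rfl

variable [Coalgebra.IsCocomm R A] [Module.Finite R A] [Module.Projective R A]
  (hp : (toConv (AlgHom.id R A)) ^ p = 1)

/-- the projector of `A` onto `I_i` -/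
noncomputable def piA (i : ℕ) : A →ₗ[R] A :=
  (OortTate.eigenAug R A p χ i).subtype ∘ₗ qproj p u χ hp i

lemma piA_apply (i : ℕ) (a : A) :
    piA p u χ hp i a = OortTate.proj R A p u χ i a -
      (cc p u χ i * Coalgebra.counit (R := R) a) • (1 : A) := by
  show ((qproj p u χ hp i a : OortTate.eigenAug R A p χ i) : A) = _
  rw [qproj_coe, map_sub, Algebra.algebraMap_eq_smul_one, map_smul, proj_one, smul_smul, mul_comm]

lemma piA_mem (i : ℕ) (a : A) : piA p u χ hp i a ∈ OortTate.eigenAug R A p χ i :=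
  (qproj p u χ hp i a).2

include hu in
lemma piA_of_mem (i : ℕ) (a : A) (ha : a ∈ OortTate.eigenAug R A p χ i) :
    piA p u χ hp i a = a := by
  show ((qproj p u χ hp i a : OortTate.eigenAug R A p χ i) : A) = a
  have := qproj_of_mem p u hu χ hp i ⟨a, ha⟩
  exact congrArg Subtype.val this

lemma tr_piA (i : ℕ) :
    tr (piA p u χ hp i) = piA (A := CartDual.D R A) p u χ (conv_pow_D p hp) i := by
  refine LinearMap.ext fun φ => ?_
  apply WithConv.ofConv_injective
  refine LinearMap.ext fun a => ?_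
  show φ (piA p u χ hp i a) = evA a (piA p u χ (conv_pow_D p hp) i φ)
  rw [piA_apply, piA_apply, map_sub, map_sub, map_smul, map_smul, evA_apply, evA_apply,
    proj_D_apply, CartDual.coalgebra_counit_apply, LinearMap.convOne_apply]
  congr 1
  simp only [smul_eq_mul, Algebra.algebraMap_self, RingHom.id_apply]
  ring

variable (δ : A ⊗[R] CartDual.D R A) (hδ : Psi δ = LinearMap.id)
  (ϕ : Ap p R →ₐ[R] A ⊗[R] CartDual.D R A) (hϕ : ϕ (tm p R 1) = δ)

include hδ hϕ in
lemma Psi_phi_pow (n : ℕ) :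
    Psi (ϕ (tm p R (n : ZMod p))) = (SGA3b.powConv R A n).toLinearMap := by
  rw [← tm_one_pow, show ϕ (tm p R 1 ^ n) = (ϕ (tm p R 1)) ^ n from ϕ.toRingHom.map_pow _ n, hϕ]
  apply WithConv.toConv_injective
  rw [Psi_pow, hδ]
  unfold SGA3b.powConv
  rw [AlgHom.toLinearMap_convPow]
  rfl

include hδ hϕ in
lemma Psi_phi_yE (i : ℕ) : Psi (ϕ (yE p u χ i)) = piA p u χ hp i := by
  refine LinearMap.ext fun a => ?_
  have e1 : ∀ m : (ZMod p)ˣ, Psi (ϕ (tm p R (m : ZMod p) - 1)) a =
      pm (R := R) p m a - algebraMap R A (Coalgebra.counit (R := R) a) := by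
    intro m
    have h1 : ϕ 1 = 1 := ϕ.toRingHom.map_one
    rw [map_sub, map_sub, h1, LinearMap.sub_apply]
    congr 1
    · have := Psi_phi_pow p δ hδ ϕ hϕ (m : ZMod p).val
      rw [ZMod.natCast_zmod_val] at this
      rw [this]
      rfl
    · have := congrArg (fun f : WithConv (A →ₗ[R] A) => f a) (Psi_one (R := R) (A := A))
      simp only at this
      rw [LinearMap.convOne_apply] at this
      exact this
  have e2 : Psi (ϕ (yE p u χ i)) a = u • ∑ m : (ZMod p)ˣ, (((χ m⁻¹ : Rˣ) : R) ^ i) •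
      (pm (R := R) p m a - algebraMap R A (Coalgebra.counit (R := R) a)) := by
    unfold yE
    rw [map_smul, map_smul, LinearMap.smul_apply, map_sum, map_sum, LinearMap.sum_apply]
    congr 1
    refine Finset.sum_congr rfl fun m _ => ?_
    rw [map_smul, map_smul, LinearMap.smul_apply, e1]
  rw [e2, piA_apply, proj_apply]
  simp_rw [smul_sub]
  rw [Finset.sum_sub_distrib, smul_sub, ← Finset.sum_smul, smul_smul, Algebra.algebraMap_eq_smul_one,
    smul_smul]
  rfl

end pairing

section main

variable (p : ℕ) [Fact p.Prime] {R : Type u} [CommRing R] (u : R)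
  (hu : u * ((p - 1 : ℕ) : R) = 1) (χ : (ZMod p)ˣ →* Rˣ)
  (hχ : ∀ m : (ZMod p)ˣ, m ≠ 1 → IsUnit ((χ m : R) - 1))
  (hχp : ∀ m : (ZMod p)ˣ, ((χ m : Rˣ) : R) - (((m : ZMod p).val : ℕ) : R) ∈
    Ideal.span ({(p : R)} : Set R))
  {A : Type u} [CommRing A] [HopfAlgebra R A]
  [Coalgebra.IsCocomm R A] [Module.Finite R A] [Module.Projective R A]
  (hrk : ∀ q : PrimeSpectrum R, Module.rankAtStalk A q = p)
  (δ : A ⊗[R] CartDual.D R A) (hδ : Psi δ = LinearMap.id)
  (ϕ : Ap p R →ₐ[R] A ⊗[R] CartDual.D R A) (hϕ : ϕ (tm p R 1) = δ)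

include hu hχ hχp hrk hδ hϕ in
theorem pairing_main :
    Submodule.span R {ϕ (yE p u χ 1)} =
        LinearMap.range (TensorProduct.map (OortTate.eigenAug R A p χ 1).subtype
          (OortTate.eigenAug R (CartDual.D R A) p χ 1).subtype) ∧
      ∀ r : R, r • ϕ (yE p u χ 1) = 0 → r = 0 := by
  have hp : (toConv (AlgHom.id R A)) ^ p = 1 := conv_id_pow_of_rank p hrk
  have hpD := conv_pow_D p hp
  haveI := finite_eigenAug p u hu χ hp 1
  haveI := projective_eigenAug p u hu χ hp 1
  have hrk1 := fun q => rank_one p u hu χ hχ hχp hp hrk q 1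
  set z := ϕ (yE p u χ 1) with hz
  have hPz : Psi z = piA p u χ hp 1 := Psi_phi_yE p u χ hp δ hδ ϕ hϕ 1
  have hidem : ∀ a : A, piA p u χ hp 1 (piA p u χ hp 1 a) = piA p u χ hp 1 a := fun a =>
    piA_of_mem p u hu χ hp 1 _ (piA_mem p u χ hp 1 a)
  -- the rank one identity on `I_1`
  have hstar : ∀ (φ : CartDual.D R A) (x y : A), x ∈ OortTate.eigenAug R A p χ 1 →
      y ∈ OortTate.eigenAug R A p χ 1 → φ y • x = φ x • y := by
    intro φ x y hx hy
    have := RankOne.apply_smul_comm hrk1
      ((CartDual.toDual R A φ) ∘ₗ (OortTate.eigenAug R A p χ 1).subtype) ⟨x, hx⟩ ⟨y, hy⟩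
    exact congrArg Subtype.val this
  refine ⟨le_antisymm ?_ ?_, ?_⟩
  · rw [Submodule.span_singleton_le_iff_mem]
    have h1 : TensorProduct.map (piA p u χ hp 1) (tr (piA p u χ hp 1)) z = z := by
      apply Psi_injective
      rw [Psi_map, hPz]
      refine LinearMap.ext fun a => ?_
      rw [LinearMap.comp_apply, LinearMap.comp_apply, hidem, hidem]
    rw [tr_piA] at h1
    refine ⟨TensorProduct.map (qproj p u χ hp 1) (qproj p u χ hpD 1) z, ?_⟩
    rw [← LinearMap.comp_apply, ← TensorProduct.map_comp]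
    exact h1
  · rintro w ⟨t, rfl⟩
    induction t using TensorProduct.induction_on with
    | zero =>
      rw [map_zero]
      exact Submodule.zero_mem _
    | add s t hs ht =>
      rw [map_add]
      exact Submodule.add_mem _ hs ht
    | tmul x φ =>
      rw [TensorProduct.map_tmul, Submodule.mem_span_singleton]
      refine ⟨(φ : CartDual.D R A) (x : A), ?_⟩
      apply Psi_injective
      rw [map_smul, hPz]
      refine LinearMap.ext fun a => ?_
      show _ = Psi ((x : A) ⊗ₜ[R] (φ : CartDual.D R A)) a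
      rw [Psi_tmul, LinearMap.smul_apply]
      have h2 : (φ : CartDual.D R A) a = (φ : CartDual.D R A) (piA p u χ hp 1 a) := by
        have h3 : piA (A := CartDual.D R A) p u χ hpD 1 (φ : CartDual.D R A) = φ :=
          piA_of_mem p u hu χ hpD 1 _ φ.2
        rw [← tr_piA] at h3
        conv_lhs => rw [← h3]
        rfl
      rw [h2]
      exact (hstar φ x _ x.2 (piA_mem p u χ hp 1 a)).symm
  · intro r hr
    refine RankOne.faithful hrk1 r fun y => ?_
    apply Subtype.ext
    have h4 := congrArg (fun w => Psi w (y : A)) hr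
    simp only [map_smul, map_zero, LinearMap.smul_apply, LinearMap.zero_apply] at h4
    rw [hPz, piA_of_mem p u hu χ hp 1 _ y.2] at h4
    exact h4

end main

end Groth.Agent.Helper2.OT
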