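import Mathlib
import Groth.Agent.Lib.Helper2.Hopf.OTPair

/-!
# Oort–Tate classification: a group scheme of order `p` is determined by `(α, β)` (helper2)
-/

set_option autoImplicit false
open scoped TensorProduct
open WithConv

namespace Groth.Agent.Helper2.OT

universe u

section monogenic

variable {R : Type*} [CommRing R]

lemma monogenic_pow {B B' : Type*} [Ring B] [Algebra R B] [Ring B'] [Algebra R B']
    (p : ℕ) (hp2 : 2 ≤ p) (b : B) (b' : B') (γ γ' c : R) (hb : b ^ p = γ • b)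
    (hb' : b' ^ p = γ' • b') (hγ : γ' = c ^ (p - 1) * γ) (T : B' →ₗ[R] B)
    (hT : ∀ i, i < p → T (b' ^ i) = (c • b) ^ i) (n : ℕ) : T (b' ^ n) = (c • b) ^ n := by
  induction n using Nat.strong_induction_on with
  | _ n ih =>
    by_cases hn : n < p
    · exact hT n hn
    · have hn' : p ≤ n := not_lt.mp hn
      have e1 : b' ^ n = γ' • b' ^ (n - p + 1) := by
        calc b' ^ n = b' ^ p * b' ^ (n - p) := by rw [← pow_add, Nat.add_sub_cancel' hn']
          _ = γ' • (b' * b' ^ (n - p)) := by rw [hb', smul_mul_assoc]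
          _ = γ' • b' ^ (n - p + 1) := by rw [← pow_succ']
      have e2 : (c • b) ^ n = γ' • (c • b) ^ (n - p + 1) := by
        calc (c • b) ^ n = (c • b) ^ p * (c • b) ^ (n - p) := by
              rw [← pow_add, Nat.add_sub_cancel' hn']
          _ = (c ^ p • γ • b) * (c • b) ^ (n - p) := by rw [smul_pow, hb]
          _ = γ' • ((c • b) * (c • b) ^ (n - p)) := by
              rw [hγ, ← smul_mul_assoc]
              congr 1
              rw [smul_smul, smul_smul]
              congr 1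
              obtain ⟨k, rfl⟩ : ∃ k, p = k + 1 := ⟨p - 1, by omega⟩
              rw [Nat.add_sub_cancel, pow_succ]
              ring
          _ = γ' • (c • b) ^ (n - p + 1) := by rw [← pow_succ']
      rw [e1, map_smul, ih (n - p + 1) (by omega), e2]

lemma monogenic_mul {B B' : Type*} [Ring B] [Algebra R B] [Ring B'] [Algebra R B']
    (p : ℕ) (hp2 : 2 ≤ p) (b : B) (b' : B') (γ γ' c : R) (hb : b ^ p = γ • b)
    (hb' : b' ^ p = γ' • b') (hγ : γ' = c ^ (p - 1) * γ) (T : B' →ₗ[R] B)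
    (hT : ∀ i, i < p → T (b' ^ i) = (c • b) ^ i)
    (hspan : Submodule.span R (Set.range (fun j : Fin p => b' ^ (j : ℕ))) = ⊤) :
    (∀ y z, T (y * z) = T y * T z) ∧ T 1 = 1 := by
  have hpow := monogenic_pow p hp2 b b' γ γ' c hb hb' hγ T hT
  have h1 : ∀ (i : ℕ) (z : B'), T (b' ^ i * z) = T (b' ^ i) * T z := by
    intro i z
    have hz : z ∈ Submodule.span R (Set.range (fun j : Fin p => b' ^ (j : ℕ))) := by
      rw [hspan]
      trivial
    induction hz using Submodule.span_induction with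
    | mem z hz =>
      obtain ⟨j, rfl⟩ := hz
      simp only
      rw [← pow_add, hpow, hpow, hpow, pow_add]
    | zero => rw [mul_zero, map_zero, mul_zero]
    | add z w _ _ hz hw => rw [mul_add, map_add, hz, hw, map_add, mul_add]
    | smul r z _ hz => rw [mul_smul_comm, map_smul, hz, map_smul, mul_smul_comm]
  refine ⟨fun y z => ?_, ?_⟩
  · have hy : y ∈ Submodule.span R (Set.range (fun j : Fin p => b' ^ (j : ℕ))) := by
      rw [hspan]
      trivial
    induction hy using Submodule.span_induction with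
    | mem y hy =>
      obtain ⟨j, rfl⟩ := hy
      exact h1 j z
    | zero => rw [zero_mul, map_zero, zero_mul]
    | add y w _ _ hy hw => rw [add_mul, map_add, hy, hw, map_add, add_mul]
    | smul r y _ hy => rw [smul_mul_assoc, map_smul, hy, map_smul, smul_mul_assoc]
  · have := hpow 0
    rwa [pow_zero, pow_zero] at this

end monogenic

section sep

variable {R : Type u} [CommRing R] {A : Type u} [CommRing A] [Algebra R A]
  [Module.Finite R A] [Module.Projective R A]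

lemma eq_of_ev₂ (s t : A ⊗[R] A)
    (h : ∀ φ ψ : CartDual.D R A, CartDual.ev₂ R A (φ ⊗ₜ[R] ψ) s = CartDual.ev₂ R A (φ ⊗ₜ[R] ψ) t) :
    s = t := by
  apply Module.eval_apply_injective R
  refine LinearMap.ext fun f => ?_
  obtain ⟨y, rfl⟩ := (CartDual.ev₂ R A).surjective f
  show CartDual.ev₂ R A y s = CartDual.ev₂ R A y t
  induction y using TensorProduct.induction_on with
  | zero => rw [map_zero, LinearMap.zero_apply, LinearMap.zero_apply]
  | add y z hy hz => rw [map_add, LinearMap.add_apply, LinearMap.add_apply, hy, hz]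
  | tmul φ ψ => exact h φ ψ

end sep

section existsphi

variable (p : ℕ) [Fact p.Prime] {R : Type u} [CommRing R]
  {A : Type u} [CommRing A] [HopfAlgebra R A]
  [Coalgebra.IsCocomm R A] [Module.Finite R A] [Module.Projective R A]
  (hp : (toConv (AlgHom.id R A)) ^ p = 1)

/-- the canonical element of `A ⊗ A^D` -/
noncomputable def canonδ : A ⊗[R] CartDual.D R A := (PsiEquiv (R := R) (A := A)).symm LinearMap.id

lemma Psi_canonδ : Psi (canonδ (R := R) (A := A)) = LinearMap.id :=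
  (PsiEquiv (R := R) (A := A)).apply_symm_apply _

include hp in
lemma canonδ_pow : (canonδ (R := R) (A := A)) ^ p = 1 := by
  apply Psi_injective
  apply WithConv.toConv_injective
  rw [Psi_pow, Psi_one, Psi_canonδ]
  have := AlgHom.toLinearMap_convPow (toConv (AlgHom.id R A)) p
  rw [hp] at this
  exact this.symm

include hp in
lemma exists_pairing :
    ∃ ϕ : Ap p R →ₐ[R] A ⊗[R] CartDual.D R A, Psi (ϕ (tm p R 1)) = LinearMap.id := by
  have hp1 : 1 < p := (Fact.out : p.Prime).one_lt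
  haveI : Fact (1 < p) := ⟨hp1⟩
  let δ : A ⊗[R] CartDual.D R A := canonδ
  have hδp : δ ^ p = 1 := canonδ_pow p hp
  let f : Multiplicative (ZMod p) →* A ⊗[R] CartDual.D R A :=
    { toFun := fun m => δ ^ (Multiplicative.toAdd m).val
      map_one' := by
        show δ ^ (0 : ZMod p).val = 1
        rw [ZMod.val_zero, pow_zero]
      map_mul' := fun a b => by
        show δ ^ (Multiplicative.toAdd a + Multiplicative.toAdd b).val =
          δ ^ (Multiplicative.toAdd a).val * δ ^ (Multiplicative.toAdd b).val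
        rw [ZMod.val_add, ← pow_add, ← pow_eq_pow_mod _ hδp] }
  refine ⟨MonoidAlgebra.lift R (A ⊗[R] CartDual.D R A) (Multiplicative (ZMod p)) f, ?_⟩
  have : MonoidAlgebra.lift R (A ⊗[R] CartDual.D R A) (Multiplicative (ZMod p)) f (tm p R 1) = δ := by
    unfold tm
    rw [MonoidAlgebra.lift_single, one_smul]
    show δ ^ (1 : ZMod p).val = δ
    rw [ZMod.val_one, pow_one]
  rw [this]
  exact Psi_canonδ

end existsphi

section wdef

variable (p : ℕ) [Fact p.Prime] {R : Type u} [CommRing R] (u : R)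
  (hu : u * ((p - 1 : ℕ) : R) = 1) (χ : (ZMod p)ˣ →* Rˣ)
  (hχ : ∀ m : (ZMod p)ˣ, m ≠ 1 → IsUnit ((χ m : R) - 1))
  (hχp : ∀ m : (ZMod p)ˣ, ((χ m : Rˣ) : R) - (((m : ZMod p).val : ℕ) : R) ∈
    Ideal.span ({(p : R)} : Set R))

/-- the Oort–Tate constants `w_i`: `y_1 ^ i = w_i y_i` -/
noncomputable def wOT (i : ℕ) : R :=
  ((p - 1 : ℕ) : R) * cf p ((1 : (ZMod p)ˣ) : ZMod p) ((yE p u χ 1) ^ i)

include hu hχ in
lemma yE_one_pow (i : ℕ) (hi : 1 ≤ i) : (yE p u χ 1) ^ i = wOT p u χ i • yE p u χ i := by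
  obtain ⟨w, hw⟩ := exists_w p u hu χ hχ i hi
  have : wOT p u χ i = w := by
    unfold wOT
    rw [hw, map_smul, cf_yE, inv_one, map_one, Units.val_one, one_pow, mul_one, smul_eq_mul]
    calc ((p - 1 : ℕ) : R) * (w * u) = w * (u * ((p - 1 : ℕ) : R)) := by ring
      _ = w := by rw [hu, mul_one]
  rw [this, hw]

include hu hχ hχp in
lemma wOT_isUnit (i : ℕ) (hi : 1 ≤ i) (hip : i ≤ p - 1) : IsUnit (wOT p u χ i) :=
  w_isUnit p u hu χ hχp i hip _ (yE_one_pow p u hu χ hχ i hi)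

/-- the constants `w_i` as units (`w_0 = 1`) -/
noncomputable def wU (i : ℕ) : Rˣ :=
  if h : 1 ≤ i ∧ i ≤ p - 1 then (wOT_isUnit p u hu χ hχ hχp i h.1 h.2).unit else 1

lemma wU_zero : wU p u hu χ hχ hχp 0 = 1 := by
  unfold wU
  rw [dif_neg]
  omega

lemma wU_val (i : ℕ) (hi : 1 ≤ i) (hip : i ≤ p - 1) :
    ((wU p u hu χ hχ hχp i : Rˣ) : R) = wOT p u χ i := by
  unfold wU
  rw [dif_pos ⟨hi, hip⟩]
  rfl

include hu hχ in
lemma tm_one_sub_one :
    tm p R 1 - 1 = ∑ i ∈ Finset.range (p - 1), yE p u χ (i + 1) := by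
  have hp1 : 1 < p := (Fact.out : p.Prime).one_lt
  have h := tm_sub_one_eq p u hu χ hχ 1
  rw [Units.val_one] at h
  simp only [map_one, Units.val_one, one_pow, one_smul] at h
  rw [h]
  obtain ⟨n, hn⟩ : ∃ n, p - 1 = n + 1 := ⟨p - 2, by omega⟩
  rw [hn, Finset.sum_range_succ', Finset.sum_range_succ]
  congr 1
  have := yE_period p u χ 0 1
  rw [zero_add, mul_one, hn] at this
  exact this.symm

end wdef

section gens

variable (p : ℕ) [Fact p.Prime] {R : Type u} [CommRing R] (u : R)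
  (hu : u * ((p - 1 : ℕ) : R) = 1) (χ : (ZMod p)ˣ →* Rˣ)
  (hχ : ∀ m : (ZMod p)ˣ, m ≠ 1 → IsUnit ((χ m : R) - 1))
  (hχp : ∀ m : (ZMod p)ˣ, ((χ m : Rˣ) : R) - (((m : ZMod p).val : ℕ) : R) ∈
    Ideal.span ({(p : R)} : Set R))
  {A : Type u} [CommRing A] [HopfAlgebra R A]
  [Coalgebra.IsCocomm R A] [Module.Finite R A] [Module.Projective R A]
  (hp : (toConv (AlgHom.id R A)) ^ p = 1)
  (x : A) (hx : Submodule.span R {x} = OortTate.eigenAug R A p χ 1)
  (ξ : CartDual.D R A) (hξ : Submodule.span R {ξ} = OortTate.eigenAug R (CartDual.D R A) p χ 1)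
  (hxξ : ξ x = 1)

include hu hx hξ hxξ in
lemma Psi_x_xi : Psi (x ⊗ₜ[R] ξ) = piA p u χ hp 1 := by
  refine LinearMap.ext fun a => ?_
  rw [Psi_tmul]
  have hξmem : ξ ∈ OortTate.eigenAug R (CartDual.D R A) p χ 1 := by
    rw [← hξ]
    exact Submodule.mem_span_singleton_self ξ
  have h2 : ξ a = ξ (piA p u χ hp 1 a) := by
    have h3 : piA (A := CartDual.D R A) p u χ (conv_pow_D p hp) 1 ξ = ξ :=
      piA_of_mem p u hu χ (conv_pow_D p hp) 1 _ hξmem
    rw [← tr_piA] at h3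
    conv_lhs => rw [← h3]
    rfl
  have h4 := piA_mem p u χ hp 1 a
  rw [← hx, Submodule.mem_span_singleton] at h4
  obtain ⟨r, hr⟩ := h4
  rw [h2, ← hr, map_smul, hxξ, smul_eq_mul, mul_one]

variable (ϕ : Ap p R →ₐ[R] A ⊗[R] CartDual.D R A) (hϕ : Psi (ϕ (tm p R 1)) = LinearMap.id)

include hu hx hξ hxξ hϕ hp in
lemma phi_yE_one : ϕ (yE p u χ 1) = x ⊗ₜ[R] ξ := by
  apply Psi_injective
  rw [Psi_x_xi p u hu χ hp x hx ξ hξ hxξ]
  exact Psi_phi_yE p u χ hp _ hϕ ϕ rfl 1

include hu hχ hx hξ hxξ hϕ hp in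
lemma phi_yE (i : ℕ) (hi : 1 ≤ i) (hip : i ≤ p - 1) :
    ϕ (yE p u χ i) = ((wU p u hu χ hχ hχp i)⁻¹ : Rˣ) • ((x ^ i) ⊗ₜ[R] (ξ ^ i)) := by
  have h1 := congrArg ϕ (yE_one_pow p u hu χ hχ i hi)
  rw [show ϕ (yE p u χ 1 ^ i) = (ϕ (yE p u χ 1)) ^ i from ϕ.toRingHom.map_pow _ i,
    phi_yE_one p u hu χ hp x hx ξ hξ hxξ ϕ hϕ, Algebra.TensorProduct.tmul_pow, map_smul,
    ← wU_val p u hu χ hχ hχp i hi hip] at h1
  rw [h1, Units.smul_def, smul_smul, Units.inv_mul, one_smul]

include hu hχ hx hξ hxξ hp in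
lemma expansion (a : A) :
    a = ∑ i ∈ Finset.range p,
      (((wU p u hu χ hχ hχp i)⁻¹ : Rˣ) : R) • ((ξ ^ i : CartDual.D R A) a) • x ^ i := by
  have hp1 : 1 < p := (Fact.out : p.Prime).one_lt
  obtain ⟨ϕ, hϕ⟩ := exists_pairing p hp
  have h1 : ϕ (tm p R 1) = 1 + ∑ i ∈ Finset.range (p - 1),
      ((wU p u hu χ hχ hχp (i + 1))⁻¹ : Rˣ) • ((x ^ (i + 1)) ⊗ₜ[R] (ξ ^ (i + 1))) := by
    have h2 := congrArg ϕ (tm_one_sub_one p u hu χ hχ)
    have h3 : ϕ 1 = 1 := ϕ.toRingHom.map_one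
    rw [map_sub, h3, map_sum, sub_eq_iff_eq_add'] at h2
    rw [h2]
    congr 1
    refine Finset.sum_congr rfl fun i hi => ?_
    rw [Finset.mem_range] at hi
    exact phi_yE p u hu χ hχ hχp hp x hx ξ hξ hxξ ϕ hϕ (i + 1) (by omega) (by omega)
  have h4 := congrArg (fun f : A →ₗ[R] A => f a) hϕ
  simp only [LinearMap.id_apply] at h4
  rw [h1, map_add, LinearMap.add_apply, map_sum, LinearMap.sum_apply] at h4
  have h6 := Finset.sum_range_succ' (fun i =>
      (((wU p u hu χ hχ hχp i)⁻¹ : Rˣ) : R) • ((ξ ^ i : CartDual.D R A) a) • x ^ i) (p - 1)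
  rw [Nat.sub_add_cancel hp1.le] at h6
  rw [h6]
  conv_lhs => rw [← h4, add_comm]
  congr 1
  · refine Finset.sum_congr rfl fun i _ => ?_
    rw [Units.smul_def, map_smul, LinearMap.smul_apply, Psi_tmul]
  · have h5 := congrArg (fun f : WithConv (A →ₗ[R] A) => f a) (Psi_one (R := R) (A := A))
    simp only at h5
    rw [LinearMap.convOne_apply] at h5
    rw [wU_zero, pow_zero, pow_zero, inv_one, Units.val_one, one_smul, LinearMap.convOne_apply]
    rw [Algebra.algebraMap_eq_smul_one] at h5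
    exact h5

include hu hχ hχp hx hξ hxξ hp in
lemma span_pow : Submodule.span R (Set.range (fun j : Fin p => x ^ (j : ℕ))) = ⊤ := by
  rw [eq_top_iff]
  intro a _
  rw [expansion p u hu χ hχ hχp hp x hx ξ hξ hxξ a,
    ← Fin.sum_univ_eq_sum_range (fun i =>
      (((wU p u hu χ hχ hχp i)⁻¹ : Rˣ) : R) • ((ξ ^ i : CartDual.D R A) a) • x ^ i) p]
  exact Submodule.sum_mem _ fun j _ => Submodule.smul_mem _ _
    (Submodule.smul_mem _ _ (Submodule.subset_span ⟨j, rfl⟩))

include hu hχ hχp hx hξ hxξ hp in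
lemma linearIndependent_pow (hrk : ∀ q : PrimeSpectrum R, Module.rankAtStalk A q = p) :
    LinearIndependent R (fun j : Fin p => x ^ (j : ℕ)) := by
  rw [linearIndependent_iff_injective_fintypeLinearCombination]
  have hs : Function.Surjective (Fintype.linearCombination R (fun j : Fin p => x ^ (j : ℕ))) := by
    rw [← LinearMap.range_eq_top, Fintype.range_linearCombination]
    exact span_pow p u hu χ hχ hχp hp x hx ξ hξ hxξ
  refine (Module.bijective_of_surjective_of_rankAtStalk_eq hs fun m hm => ?_).1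
  haveI : Nontrivial R := (⟨m, hm.isPrime⟩ : PrimeSpectrum R).nontrivial
  rw [hrk, Module.rankAtStalk_eq_finrank_of_free]
  rw [Module.finrank_fin_fun]
  rfl

include hu hχ hx hξ hxξ hp in
/-- the pairing table `ξ^i(x^j) = w_i δ_ij` -/
lemma pairing_table (hrk : ∀ q : PrimeSpectrum R, Module.rankAtStalk A q = p)
    (i j : ℕ) (hi : i < p) (hj : j < p) :
    (ξ ^ i : CartDual.D R A) (x ^ j) = if i = j then ((wU p u hu χ hχ hχp i : Rˣ) : R) else 0 := by
  have hli := linearIndependent_pow p u hu χ hχ hχp hp x hx ξ hξ hxξ hrk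
  rw [Fintype.linearIndependent_iffₛ] at hli
  have h1 := expansion p u hu χ hχ hχp hp x hx ξ hξ hxξ (x ^ j)
  rw [← Fin.sum_univ_eq_sum_range (fun i =>
      (((wU p u hu χ hχ hχp i)⁻¹ : Rˣ) : R) • ((ξ ^ i : CartDual.D R A) (x ^ j)) • x ^ i) p] at h1
  have h2 : x ^ j = ∑ k : Fin p, (if (k : ℕ) = j then (1 : R) else 0) • x ^ (k : ℕ) := by
    rw [Finset.sum_eq_single (⟨j, hj⟩ : Fin p)]
    · rw [if_pos rfl, one_smul]
    · intro k _ hk
      rw [if_neg (fun h => hk (Fin.ext h)), zero_smul]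
    · intro h
      exact absurd (Finset.mem_univ _) h
  have h3 := hli (fun k : Fin p => (((wU p u hu χ hχ hχp k)⁻¹ : Rˣ) : R) *
      ((ξ ^ (k : ℕ) : CartDual.D R A) (x ^ j))) (fun k : Fin p => if (k : ℕ) = j then (1 : R) else 0)
    (by
      rw [← h2]
      conv_rhs => rw [h1]
      refine Finset.sum_congr rfl fun k _ => ?_
      rw [smul_smul]) ⟨i, hi⟩
  simp only at h3
  split_ifs with hij
  · rw [if_pos hij] at h3
    calc (ξ ^ i : CartDual.D R A) (x ^ j)
        = ((wU p u hu χ hχ hχp i : Rˣ) : R) * ((((wU p u hu χ hχ hχp i)⁻¹ : Rˣ) : R) *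
          ((ξ ^ i : CartDual.D R A) (x ^ j))) := by
          rw [← mul_assoc, Units.mul_inv, one_mul]
      _ = ((wU p u hu χ hχ hχp i : Rˣ) : R) := by rw [h3, mul_one]
  · rw [if_neg hij] at h3
    calc (ξ ^ i : CartDual.D R A) (x ^ j)
        = ((wU p u hu χ hχ hχp i : Rˣ) : R) * ((((wU p u hu χ hχ hχp i)⁻¹ : Rˣ) : R) *
          ((ξ ^ i : CartDual.D R A) (x ^ j))) := by
          rw [← mul_assoc, Units.mul_inv, one_mul]
      _ = 0 := by rw [h3, mul_zero]

include hu hχ hχp hx hξ hxξ hp in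
lemma span_pow_D : Submodule.span R (Set.range (fun j : Fin p => ξ ^ (j : ℕ))) = ⊤ := by
  rw [eq_top_iff]
  intro φ _
  have : φ = ∑ i : Fin p, ((((wU p u hu χ hχ hχp i)⁻¹ : Rˣ) : R) * φ (x ^ (i : ℕ))) • ξ ^ (i : ℕ) := by
    apply WithConv.ofConv_injective
    refine LinearMap.ext fun a => ?_
    show φ a = evA a (∑ i : Fin p,
      ((((wU p u hu χ hχ hχp i)⁻¹ : Rˣ) : R) * φ (x ^ (i : ℕ))) • ξ ^ (i : ℕ))
    rw [map_sum]
    simp_rw [map_smul, evA_apply]
    conv_lhs => rw [expansion p u hu χ hχ hχp hp x hx ξ hξ hxξ a,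
      ← Fin.sum_univ_eq_sum_range (fun i =>
        (((wU p u hu χ hχ hχp i)⁻¹ : Rˣ) : R) • ((ξ ^ i : CartDual.D R A) a) • x ^ i) p, map_sum]
    refine Finset.sum_congr rfl fun i _ => ?_
    rw [map_smul, map_smul, smul_eq_mul, smul_eq_mul, smul_eq_mul]
    ring
  rw [this]
  exact Submodule.sum_mem _ fun j _ => Submodule.smul_mem _ _ (Submodule.subset_span ⟨j, rfl⟩)

end gens

section iso

variable (p : ℕ) [Fact p.Prime] {R : Type u} [CommRing R] (u : R)
  (hu : u * ((p - 1 : ℕ) : R) = 1) (χ : (ZMod p)ˣ →* Rˣ)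
  (hχ : ∀ m : (ZMod p)ˣ, m ≠ 1 → IsUnit ((χ m : R) - 1))
  (hχp : ∀ m : (ZMod p)ˣ, ((χ m : Rˣ) : R) - (((m : ZMod p).val : ℕ) : R) ∈
    Ideal.span ({(p : R)} : Set R))
  {A : Type u} [CommRing A] [HopfAlgebra R A]
  [Coalgebra.IsCocomm R A] [Module.Finite R A] [Module.Projective R A]
  (hrk : ∀ q : PrimeSpectrum R, Module.rankAtStalk A q = p)
  {A' : Type u} [CommRing A'] [HopfAlgebra R A']
  [Coalgebra.IsCocomm R A'] [Module.Finite R A'] [Module.Projective R A']
  (hrk' : ∀ q : PrimeSpectrum R, Module.rankAtStalk A' q = p)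
  (x : A) (hx : Submodule.span R {x} = OortTate.eigenAug R A p χ 1)
  (ξ : CartDual.D R A) (hξ : Submodule.span R {ξ} = OortTate.eigenAug R (CartDual.D R A) p χ 1)
  (hxξ : ξ x = 1)
  (x' : A') (hx' : Submodule.span R {x'} = OortTate.eigenAug R A' p χ 1)
  (ξ' : CartDual.D R A') (hξ' : Submodule.span R {ξ'} = OortTate.eigenAug R (CartDual.D R A') p χ 1)
  (hxξ' : ξ' x' = 1)
  (α β α' β' : R) (hα : x ^ p = α • x) (hβ : ξ ^ p = β • ξ) (hα' : x' ^ p = α' • x')
  (hβ' : ξ' ^ p = β' • ξ')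
  (v : Rˣ) (hαv : α' = ((v ^ (p - 1) : Rˣ) : R) * α) (hβv : β' = ((v⁻¹ ^ (p - 1) : Rˣ) : R) * β)

include hu hχ hχp hrk hrk' hx hξ hxξ hx' hξ' hxξ' hα hβ hα' hβ' hαv hβv in
theorem exists_bialgEquiv : Nonempty (A ≃ₐc[R] A') := by
  have hpp : p.Prime := Fact.out
  have hp : (toConv (AlgHom.id R A)) ^ p = 1 := conv_id_pow_of_rank p hrk
  have hp' : (toConv (AlgHom.id R A')) ^ p = 1 := conv_id_pow_of_rank p hrk'
  have hli := linearIndependent_pow p u hu χ hχ hχp hp x hx ξ hξ hxξ hrk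
  have hsp := span_pow p u hu χ hχ hχp hp x hx ξ hξ hxξ
  have hsp' := span_pow p u hu χ hχ hχp hp' x' hx' ξ' hξ' hxξ'
  have hspD' := span_pow_D p u hu χ hχ hχp hp' x' hx' ξ' hξ' hxξ'
  let bA : Module.Basis (Fin p) R A := Module.Basis.mk hli hsp.ge
  have hbA : ∀ j : Fin p, bA j = x ^ (j : ℕ) := fun j => by
    show Module.Basis.mk hli hsp.ge j = _
    rw [Module.Basis.mk_apply]
  let c : R := ((v⁻¹ : Rˣ) : R)
  have hcv : c * (v : R) = 1 := Units.inv_mul v
  let θ : A →ₗ[R] A' := bA.constr R (fun j : Fin p => (c • x') ^ (j : ℕ))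
  have hθ : ∀ i, i < p → θ (x ^ i) = (c • x') ^ i := by
    intro i hi
    have := bA.constr_basis R (fun j : Fin p => (c • x') ^ (j : ℕ)) ⟨i, hi⟩
    rwa [hbA] at this
  have hαc : α = c ^ (p - 1) * α' := by
    rw [hαv, ← mul_assoc, Units.val_pow_eq_pow_val, ← mul_pow, hcv, one_pow, one_mul]
  obtain ⟨hθmul, hθone⟩ := monogenic_mul p hpp.two_le x' x α' α c hα' hα hαc θ hθ hsp
  let T : CartDual.D R A' →ₗ[R] CartDual.D R A :=
    (CartDual.toDual R A).symm.toLinearMap ∘ₗ θ.dualMap ∘ₗ (CartDual.toDual R A').toLinearMap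
  have hTapp : ∀ (φ' : CartDual.D R A') (a : A), (T φ') a = φ' (θ a) := fun _ _ => rfl
  have hsmulD : ∀ (r : R) (φ : CartDual.D R A) (a : A), (r • φ) a = r * φ a := fun _ _ _ => rfl
  have hT : ∀ i, i < p → T (ξ' ^ i) = (c • ξ) ^ i := by
    intro i hi
    apply WithConv.ofConv_injective
    refine bA.ext fun j => ?_
    show (T (ξ' ^ i)) (bA j) = ((c • ξ) ^ i : CartDual.D R A) (bA j)
    rw [hbA, hTapp, hθ j j.2, smul_pow, smul_pow, map_smul, hsmulD,
      pairing_table p u hu χ hχ hχp hp' x' hx' ξ' hξ' hxξ' hrk' i j hi j.2,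
      pairing_table p u hu χ hχ hχp hp x hx ξ hξ hxξ hrk i j hi j.2]
    split_ifs with hij
    · rw [hij, smul_eq_mul]
    · rw [smul_zero, mul_zero]
  have hβc : β' = c ^ (p - 1) * β := by
    rw [hβv, Units.val_pow_eq_pow_val]
  obtain ⟨hTmul, hTone⟩ := monogenic_mul p hpp.two_le ξ ξ' β β' c hβ hβ' hβc T hT hspD'
  let θa : A →ₐ[R] A' := AlgHom.ofLinearMap θ hθone hθmul
  have hθa : ∀ a, θa a = θ a := fun _ => rfl
  have hsurj : Function.Surjective θ := by
    rw [← LinearMap.range_eq_top, eq_top_iff, ← hsp', Submodule.span_le]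
    rintro _ ⟨j, rfl⟩
    refine ⟨((v : R) ^ (j : ℕ)) • x ^ (j : ℕ), ?_⟩
    rw [map_smul, hθ j j.2, smul_pow, smul_smul, ← mul_pow, mul_comm, hcv, one_pow, one_smul]
  have hbij : Function.Bijective θ :=
    Module.bijective_of_surjective_of_rankAtStalk_eq hsurj fun m _ => by rw [hrk, hrk']
  let e : A ≃ₐ[R] A' := AlgEquiv.ofBijective θa hbij
  have he : ∀ a, e a = θ a := fun _ => rfl
  refine ⟨BialgEquiv.ofAlgEquiv e ?_ ?_⟩
  · refine AlgHom.ext fun a => ?_
    show Coalgebra.counit (R := R) (e a) = Coalgebra.counit (R := R) a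
    have h1 := congrArg (fun φ : CartDual.D R A => φ a) hTone
    rw [hTapp, LinearMap.convOne_apply, LinearMap.convOne_apply] at h1
    exact h1
  · refine AlgHom.ext fun a => ?_
    show Algebra.TensorProduct.map (e : A →ₐ[R] A') (e : A →ₐ[R] A') (Coalgebra.comul (R := R) a) =
      Coalgebra.comul (R := R) (e a)
    have hmap : ∀ t : A ⊗[R] A, Algebra.TensorProduct.map (e : A →ₐ[R] A') (e : A →ₐ[R] A') t =
        TensorProduct.map θ θ t := by
      intro t
      induction t using TensorProduct.induction_on with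
      | zero => rw [map_zero, map_zero]
      | add s t hs ht => rw [map_add, map_add, hs, ht]
      | tmul a b => rfl
    rw [hmap]
    refine eq_of_ev₂ _ _ fun φ' ψ' => ?_
    have h2 : ∀ t : A ⊗[R] A, CartDual.ev₂ R A' (φ' ⊗ₜ[R] ψ') (TensorProduct.map θ θ t) =
        CartDual.ev₂ R A (T φ' ⊗ₜ[R] T ψ') t := by
      intro t
      induction t using TensorProduct.induction_on with
      | zero => rw [map_zero, map_zero, map_zero]
      | add s t hs ht => rw [map_add, map_add, hs, ht, map_add]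
      | tmul a b =>
        rw [TensorProduct.map_tmul, CartDual.ev₂_tmul, CartDual.ev₂_tmul, hTapp, hTapp]
    have h3 : ∀ (B : Type u) [CommRing B] [HopfAlgebra R B] [Module.Finite R B]
        [Module.Projective R B] (φ ψ : CartDual.D R B) (b : B),
        CartDual.ev₂ R B (φ ⊗ₜ[R] ψ) (Coalgebra.comul (R := R) b) = (φ * ψ) b := by
      intro B _ _ _ _ φ ψ b
      rw [CartDual.ev₂_tmul_eq', LinearMap.convMul_apply]
      rfl
    rw [h2, h3, h3, ← hTmul, hTapp, he]

end iso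

end Groth.Agent.Helper2.OT
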