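import Mathlib
import Groth.Agent.Lib.Helper2.Hopf.OTClass

/-!
# Powers of the eigenspace `I_1`: `I_1 ^ t = I_t` (helper2)
-/

set_option autoImplicit false
open scoped TensorProduct
open WithConv

namespace Groth.Agent.Helper2.OT

universe u

section JJ

variable {R : Type u} [CommRing R] {A : Type u} [CommRing A] [HopfAlgebra R A]
  [Coalgebra.IsCocomm R A] [Module.Finite R A] [Module.Projective R A]

/-- the image of `N ⊗ A^D` in `A ⊗ A^D` -/
def JJ (N : Submodule R A) : Submodule R (A ⊗[R] CartDual.D R A) :=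
  Submodule.span R {w | ∃ n ∈ N, ∃ φ : CartDual.D R A, w = n ⊗ₜ[R] φ}

lemma Psi_mem_of_mem_JJ (N : Submodule R A) (w : A ⊗[R] CartDual.D R A) (hw : w ∈ JJ N) (a : A) :
    Psi w a ∈ N := by
  induction hw using Submodule.span_induction with
  | mem w hw =>
    obtain ⟨n, hn, φ, rfl⟩ := hw
    rw [Psi_tmul]
    exact N.smul_mem _ hn
  | zero =>
    rw [map_zero]
    exact N.zero_mem
  | add x y _ _ hx hy =>
    rw [map_add]
    exact N.add_mem hx hy
  | smul r x _ hx =>
    rw [map_smul]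
    exact N.smul_mem _ hx

lemma JJ_mul_mem (N N' : Submodule R A) (w w' : A ⊗[R] CartDual.D R A) (hw : w ∈ JJ N)
    (hw' : w' ∈ JJ N') : w * w' ∈ JJ (N * N') := by
  induction hw using Submodule.span_induction with
  | mem w hw =>
    obtain ⟨n, hn, φ, rfl⟩ := hw
    induction hw' using Submodule.span_induction with
    | mem w' hw' =>
      obtain ⟨n', hn', ψ, rfl⟩ := hw'
      rw [Algebra.TensorProduct.tmul_mul_tmul]
      exact Submodule.subset_span ⟨n * n', Submodule.mul_mem_mul hn hn', φ * ψ, rfl⟩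
    | zero =>
      rw [mul_zero]
      exact Submodule.zero_mem _
    | add x y _ _ hx hy =>
      rw [mul_add]
      exact Submodule.add_mem _ hx hy
    | smul r x _ hx =>
      rw [mul_smul_comm]
      exact Submodule.smul_mem _ _ hx
  | zero =>
    rw [zero_mul]
    exact Submodule.zero_mem _
  | add x y _ _ hx hy =>
    rw [add_mul]
    exact Submodule.add_mem _ hx hy
  | smul r x _ hx =>
    rw [smul_mul_assoc]
    exact Submodule.smul_mem _ _ hx

lemma pow_mem_JJ (N : Submodule R A) (z : A ⊗[R] CartDual.D R A) (hz : z ∈ JJ N) (t : ℕ)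
    (ht : 1 ≤ t) : z ^ t ∈ JJ (N ^ t) := by
  induction t, ht using Nat.le_induction with
  | base => rwa [pow_one, pow_one]
  | succ t _ ih =>
    rw [pow_succ, pow_succ]
    exact JJ_mul_mem _ _ _ _ ih hz

lemma range_map_le_JJ (N : Submodule R A) (N' : Submodule R (CartDual.D R A)) :
    LinearMap.range (TensorProduct.map N.subtype N'.subtype) ≤ JJ N := by
  rintro _ ⟨t, rfl⟩
  induction t using TensorProduct.induction_on with
  | zero =>
    rw [map_zero]
    exact Submodule.zero_mem _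
  | add s t hs ht =>
    rw [map_add]
    exact Submodule.add_mem _ hs ht
  | tmul n φ =>
    rw [TensorProduct.map_tmul]
    exact Submodule.subset_span ⟨n, n.2, φ, rfl⟩

end JJ

section pow

variable (p : ℕ) [Fact p.Prime] {R : Type u} [CommRing R] (u : R)
  (hu : u * ((p - 1 : ℕ) : R) = 1) (χ : (ZMod p)ˣ →* Rˣ)
  (hχ : ∀ m : (ZMod p)ˣ, m ≠ 1 → IsUnit ((χ m : R) - 1))
  (hχp : ∀ m : (ZMod p)ˣ, ((χ m : Rˣ) : R) - (((m : ZMod p).val : ℕ) : R) ∈
    Ideal.span ({(p : R)} : Set R))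
  {A : Type u} [CommRing A] [HopfAlgebra R A]
  [Coalgebra.IsCocomm R A] [Module.Finite R A] [Module.Projective R A]
  (hrk : ∀ q : PrimeSpectrum R, Module.rankAtStalk A q = p)

lemma eigenAug_pow_le (t : ℕ) (ht : 1 ≤ t) :
    (OortTate.eigenAug R A p χ 1) ^ t ≤ OortTate.eigenAug R A p χ t := by
  induction t, ht using Nat.le_induction with
  | base => rw [pow_one]
  | succ t _ ih =>
    rw [pow_succ]
    exact Submodule.mul_le.mpr fun a ha b hb => mul_mem_eigenAug p χ t 1 a b (ih ha) hb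

include hu hχ hχp hrk in
theorem eigenAug_pow_eq (t : ℕ) (ht : 1 ≤ t) (htp : t ≤ p - 1) :
    (OortTate.eigenAug R A p χ 1) ^ t = OortTate.eigenAug R A p χ t := by
  refine le_antisymm (eigenAug_pow_le p χ t ht) ?_
  intro a ha
  have hp : (toConv (AlgHom.id R A)) ^ p = 1 := conv_id_pow_of_rank p hrk
  obtain ⟨ϕ, hϕ⟩ := exists_pairing p hp
  have hmain := (pairing_main p u hu χ hχ hχp hrk _ hϕ ϕ rfl).1
  have hz : ϕ (yE p u χ 1) ∈ JJ (OortTate.eigenAug R A p χ 1) := by
    apply range_map_le_JJ _ (OortTate.eigenAug R (CartDual.D R A) p χ 1)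
    rw [← hmain]
    exact Submodule.mem_span_singleton_self _
  have hzt := pow_mem_JJ _ _ hz t ht
  have h1 := congrArg ϕ (yE_one_pow p u hu χ hχ t ht)
  rw [show ϕ (yE p u χ 1 ^ t) = (ϕ (yE p u χ 1)) ^ t from ϕ.toRingHom.map_pow _ t, map_smul] at h1
  have h2 := Psi_mem_of_mem_JJ _ _ hzt a
  rw [h1, map_smul, LinearMap.smul_apply, Psi_phi_yE p u χ hp _ hϕ ϕ rfl t,
    piA_of_mem p u hu χ hp t a ha] at h2
  obtain ⟨w, hw⟩ := wOT_isUnit p u hu χ hχ hχp t ht htp
  rw [← hw] at h2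
  have h3 := Submodule.smul_mem _ ((w⁻¹ : Rˣ) : R) h2
  rwa [smul_smul, Units.inv_mul, one_smul] at h3

end pow

end Groth.Agent.Helper2.OT
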