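import Mathlib
import Groth.Agent.Lib.Helper2.Hopf.OTPow

/-!
# Presentation of a group scheme of order `p` by the tensor algebra of `I_1` (helper2)
-/

set_option autoImplicit false
open scoped TensorProduct
open WithConv

namespace Groth.Agent.Helper2.OT

universe u v

section tpow

variable {R : Type u} [CommRing R] {L : Type v} [AddCommGroup L] [Module R L]

theorem invertible_tensorPower [Module.Invertible R L] (n : ℕ) :
    Module.Invertible R (⨂[R]^n L) := by
  induction n with
  | zero =>
    exact Module.Invertible.congr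
      (PiTensorProduct.isEmptyEquiv (R := R) (s := fun _ : Fin 0 => L) (Fin 0)).symm
  | succ n ih =>
    have := ih
    have : Module.Invertible R (⨂[R]^1 L) :=
      Module.Invertible.congr
        (PiTensorProduct.subsingletonEquiv (R := R) (s := fun _ : Fin 1 => L) (0 : Fin 1)).symm
    exact Module.Invertible.congr (TensorPower.mulEquiv (R := R) (M := L) (n := n) (m := 1))

end tpow

section pres

variable (p : ℕ) [Fact p.Prime] {R : Type u} [CommRing R] (u : R)
  (hu : u * ((p - 1 : ℕ) : R) = 1) (χ : (ZMod p)ˣ →* Rˣ)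
  (hχ : ∀ m : (ZMod p)ˣ, m ≠ 1 → IsUnit ((χ m : R) - 1))
  (hχp : ∀ m : (ZMod p)ˣ, ((χ m : Rˣ) : R) - (((m : ZMod p).val : ℕ) : R) ∈
    Ideal.span ({(p : R)} : Set R))
  {A : Type u} [CommRing A] [HopfAlgebra R A]
  [Coalgebra.IsCocomm R A] [Module.Finite R A] [Module.Projective R A]
  (hrk : ∀ q : PrimeSpectrum R, Module.rankAtStalk A q = p)

/-- the canonical algebra map from the tensor algebra of `I_1` -/
noncomputable abbrev fT : TensorAlgebra R (OortTate.eigenAug R A p χ 1) →ₐ[R] A :=
  TensorAlgebra.lift R (OortTate.eigenAug R A p χ 1).subtype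

lemma fT_tprod (t : ℕ) (y : Fin t → OortTate.eigenAug R A p χ 1) :
    fT p χ (TensorPower.toTensorAlgebra (PiTensorProduct.tprod R y)) = ∏ i, (y i : A) := by
  rw [TensorPower.toTensorAlgebra_tprod, TensorAlgebra.tprod_apply, map_list_prod, List.map_ofFn,
    List.prod_ofFn]
  refine Finset.prod_congr rfl fun i _ => ?_
  simp [fT]

lemma prod_mem_pow (t : ℕ) (y : Fin t → OortTate.eigenAug R A p χ 1) :
    ∏ i, (y i : A) ∈ (OortTate.eigenAug R A p χ 1) ^ t := by
  rw [Submodule.pow_eq_span_pow_set]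
  refine Submodule.subset_span ?_
  rw [Set.mem_pow_iff_prod]
  exact ⟨fun i => (y i : A), fun i => (y i).2, rfl⟩

lemma fT_mem (t : ℕ) (ht : 1 ≤ t) (w : ⨂[R]^t (OortTate.eigenAug R A p χ 1)) :
    fT p χ (TensorPower.toTensorAlgebra w) ∈ OortTate.eigenAug R A p χ t := by
  induction w using PiTensorProduct.induction_on with
  | smul_tprod r y =>
    rw [map_smul, map_smul, fT_tprod]
    exact Submodule.smul_mem _ _ (eigenAug_pow_le p χ t ht (prod_mem_pow p χ t y))
  | add x y hx hy =>
    rw [map_add, map_add]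
    exact Submodule.add_mem _ hx hy

/-- the multiplication map `I_1^{⊗ t} → I_t` -/
noncomputable def gT (t : ℕ) (ht : 1 ≤ t) :
    ⨂[R]^t (OortTate.eigenAug R A p χ 1) →ₗ[R] OortTate.eigenAug R A p χ t :=
  LinearMap.codRestrict _ ((fT p χ).toLinearMap ∘ₗ TensorPower.toTensorAlgebra)
    (fun w => fT_mem (A := A) p χ t ht w)

lemma gT_coe (t : ℕ) (ht : 1 ≤ t) (w : ⨂[R]^t (OortTate.eigenAug R A p χ 1)) :
    ((gT p χ t ht w : OortTate.eigenAug R A p χ t) : A) =
      fT p χ (TensorPower.toTensorAlgebra w) := rfl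

include hu hχ hχp hrk in
lemma gT_surjective (t : ℕ) (ht : 1 ≤ t) (htp : t ≤ p - 1) :
    Function.Surjective (gT (A := A) p χ t ht) := by
  intro a
  have ha : (a : A) ∈ (OortTate.eigenAug R A p χ 1) ^ t := by
    rw [eigenAug_pow_eq p u hu χ hχ hχp hrk t ht htp]
    exact a.2
  have hle : (OortTate.eigenAug R A p χ 1) ^ t ≤
      Submodule.map (OortTate.eigenAug R A p χ t).subtype (LinearMap.range (gT p χ t ht)) := by
    rw [Submodule.pow_eq_span_pow_set, Submodule.span_le]
    intro b hb
    rw [Set.mem_pow_iff_prod] at hb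
    obtain ⟨y, hy, rfl⟩ := hb
    refine ⟨gT p χ t ht (PiTensorProduct.tprod R fun i => ⟨y i, hy i⟩), ⟨_, rfl⟩, ?_⟩
    rw [Submodule.subtype_apply, gT_coe p χ, fT_tprod (A := A) p χ]
  obtain ⟨b, ⟨w, rfl⟩, hb⟩ := hle ha
  exact ⟨w, Subtype.ext hb⟩

include hu hχ hχp hrk in
lemma gT_injective (t : ℕ) (ht : 1 ≤ t) (htp : t ≤ p - 1) :
    Function.Injective (gT (A := A) p χ t ht) := by
  have hp : (toConv (AlgHom.id R A)) ^ p = 1 := conv_id_pow_of_rank p hrk
  haveI := fun i => finite_eigenAug p u hu χ hp (A := A) i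
  haveI := fun i => projective_eigenAug p u hu χ hp (A := A) i
  haveI : Module.Invertible R (OortTate.eigenAug R A p χ 1) :=
    RankOne.invertible (fun q => rank_one p u hu χ hχ hχp hp hrk q 1)
  haveI : Module.Invertible R (OortTate.eigenAug R A p χ t) :=
    RankOne.invertible (fun q => rank_one p u hu χ hχ hχp hp hrk q t)
  haveI := invertible_tensorPower (R := R) (L := OortTate.eigenAug R A p χ 1) t
  exact (Module.Invertible.bijective_of_surjective
    (gT_surjective p u hu χ hχ hχp hrk t ht htp)).1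

/-- the relations `ι(x_1)⋯ι(x_p) - ι(x_1⋯x_p)` -/
def relSet : Set (TensorAlgebra R (OortTate.eigenAug R A p χ 1)) :=
  {x | ∃ (f : Fin p → OortTate.eigenAug R A p χ 1) (g : OortTate.eigenAug R A p χ 1),
    (g : A) = ∏ i, (f i : A) ∧
    x = (List.ofFn fun i => TensorAlgebra.ι R (f i)).prod - TensorAlgebra.ι R g}

/-- the graded pieces of the tensor algebra -/
noncomputable def TT (t : ℕ) : Submodule R (TensorAlgebra R (OortTate.eigenAug R A p χ 1)) :=
  (LinearMap.range (TensorAlgebra.ι R (M := OortTate.eigenAug R A p χ 1))) ^ t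

/-- relations plus low degree part -/
noncomputable def WW : Submodule R (TensorAlgebra R (OortTate.eigenAug R A p χ 1)) :=
  (Ideal.span (relSet (A := A) p χ)).restrictScalars R ⊔ ⨆ t ∈ Finset.range p, TT (A := A) p χ t

lemma TT_le_WW (t : ℕ) (ht : t < p) : TT (A := A) p χ t ≤ WW p χ :=
  le_sup_of_le_right (le_iSup₂_of_le t (Finset.mem_range.mpr ht) le_rfl)

lemma TT_le_range (t : ℕ) :
    TT (A := A) p χ t ≤ LinearMap.range
      (TensorPower.toTensorAlgebra (R := R) (M := OortTate.eigenAug R A p χ 1) (n := t)) := by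
  unfold TT
  rw [Submodule.pow_eq_span_pow_set, Submodule.span_le]
  intro b hb
  rw [Set.mem_pow] at hb
  obtain ⟨F, rfl⟩ := hb
  choose y hy using fun i => (F i).2
  refine ⟨PiTensorProduct.tprod R y, ?_⟩
  rw [TensorPower.toTensorAlgebra_tprod, TensorAlgebra.tprod_apply]
  exact congrArg (fun f => (List.ofFn f).prod) (funext fun i => hy i)

lemma prod_mem_one (y : Fin p → OortTate.eigenAug R A p χ 1) :
    ∏ i, (y i : A) ∈ OortTate.eigenAug R A p χ 1 := by
  have hp1 : 1 < p := (Fact.out : p.Prime).one_lt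
  have h1 := eigenAug_pow_le p χ p hp1.le (prod_mem_pow (A := A) p χ p y)
  have h2 := eigenAug_period (R := R) (A := A) p χ 1 1
  rw [show 1 + (p - 1) * 1 = p by omega] at h2
  rwa [h2] at h1

lemma iota_mul_mem_WW (x : OortTate.eigenAug R A p χ 1)
    (w : TensorAlgebra R (OortTate.eigenAug R A p χ 1)) (hw : w ∈ WW (A := A) p χ) :
    TensorAlgebra.ι R x * w ∈ WW (A := A) p χ := by
  have hp1 : 1 < p := (Fact.out : p.Prime).one_lt
  have hmap : Submodule.map (LinearMap.mulLeft R (TensorAlgebra.ι R x)) (WW (A := A) p χ) ≤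
      WW (A := A) p χ := by
    unfold WW
    rw [Submodule.map_sup]
    refine sup_le ?_ ?_
    · refine le_sup_of_le_left ?_
      rintro _ ⟨k, hk, rfl⟩
      exact Ideal.mul_mem_left _ _ hk
    · rw [Submodule.map_iSup]
      refine iSup_le fun t => ?_
      rw [Submodule.map_iSup]
      refine iSup_le fun ht => ?_
      rw [Finset.mem_range] at ht
      by_cases htp : t + 1 < p
      · refine le_trans ?_ (TT_le_WW (A := A) p χ (t + 1) htp)
        rintro _ ⟨b, hb, rfl⟩
        show TensorAlgebra.ι R x * b ∈ TT (A := A) p χ (t + 1)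
        unfold TT
        rw [pow_succ']
        exact Submodule.mul_mem_mul ⟨x, rfl⟩ hb
      · have htp' : t + 1 = p := by omega
        unfold TT
        rw [Submodule.pow_eq_span_pow_set, Submodule.map_span, Submodule.span_le]
        rintro _ ⟨b, hb, rfl⟩
        rw [Set.mem_pow] at hb
        obtain ⟨F, rfl⟩ := hb
        choose y hy using fun i => (F i).2
        show TensorAlgebra.ι R x * (List.ofFn fun i => (F i : TensorAlgebra R _)).prod ∈ _
        subst htp'
        let yy : Fin (t + 1) → OortTate.eigenAug R A (t + 1) χ 1 := Fin.cons x y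
        have e1 : TensorAlgebra.ι R x * (List.ofFn fun i => (F i : TensorAlgebra R _)).prod =
            (List.ofFn fun i => TensorAlgebra.ι R (yy i)).prod := by
          rw [List.ofFn_succ, List.prod_cons]
          exact congrArg (fun f => TensorAlgebra.ι R x * (List.ofFn f).prod)
            (funext fun i => (hy i).symm)
        let g : OortTate.eigenAug R A (t + 1) χ 1 := ⟨∏ i, (yy i : A), prod_mem_one (t + 1) χ yy⟩
        have e2 : (List.ofFn fun i => TensorAlgebra.ι R (yy i)).prod =
            ((List.ofFn fun i => TensorAlgebra.ι R (yy i)).prod - TensorAlgebra.ι R g) +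
              TensorAlgebra.ι R g := by abel
        rw [e1, e2]
        refine Submodule.add_mem _ ?_ ?_
        · refine Submodule.mem_sup_left ?_
          exact Ideal.subset_span ⟨yy, g, rfl, rfl⟩
        · refine Submodule.mem_sup_right ?_
          refine Submodule.mem_iSup_of_mem 1 (Submodule.mem_iSup_of_mem (Finset.mem_range.mpr hp1) ?_)
          rw [pow_one]
          exact ⟨g, rfl⟩
  exact hmap ⟨w, hw, rfl⟩

lemma WW_eq_top : WW (A := A) p χ = ⊤ := by
  have hp1 : 1 < p := (Fact.out : p.Prime).one_lt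
  rw [eq_top_iff]
  intro τ _
  have key : ∀ τ : TensorAlgebra R (OortTate.eigenAug R A p χ 1),
      ∀ w ∈ WW (A := A) p χ, τ * w ∈ WW (A := A) p χ := by
    intro τ
    induction τ using TensorAlgebra.induction with
    | algebraMap r =>
      intro w hw
      rw [Algebra.algebraMap_eq_smul_one, smul_mul_assoc, one_mul]
      exact Submodule.smul_mem _ _ hw
    | ι x => exact fun w hw => iota_mul_mem_WW p χ x w hw
    | mul a b ha hb =>
      intro w hw
      rw [mul_assoc]
      exact ha _ (hb w hw)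
    | add a b ha hb =>
      intro w hw
      rw [add_mul]
      exact Submodule.add_mem _ (ha w hw) (hb w hw)
  have h1 : (1 : TensorAlgebra R (OortTate.eigenAug R A p χ 1)) ∈ WW (A := A) p χ := by
    refine TT_le_WW (A := A) p χ 0 (by omega) ?_
    unfold TT
    rw [pow_zero]
    exact Submodule.one_le.mp le_rfl
  have := key τ 1 h1
  rwa [mul_one] at this

lemma proj_period (i k : ℕ) :
    OortTate.proj R A p u χ (i + (p - 1) * k) = OortTate.proj R A p u χ i := by
  refine LinearMap.ext fun f => ?_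
  rw [proj_apply, proj_apply]
  simp_rw [chi_pow_period]

lemma mod_inj (s t : ℕ) (hs1 : 1 ≤ s) (hs : s ≤ p - 1) (ht1 : 1 ≤ t) (ht : t ≤ p - 1)
    (h : s % (p - 1) = t % (p - 1)) : s = t := by
  rcases Nat.lt_or_ge s (p - 1) with h1 | h1
  · rcases Nat.lt_or_ge t (p - 1) with h2 | h2
    · rwa [Nat.mod_eq_of_lt h1, Nat.mod_eq_of_lt h2] at h
    · have : t = p - 1 := le_antisymm ht h2
      rw [this, Nat.mod_self, Nat.mod_eq_of_lt h1] at h
      omega
  · have hs' : s = p - 1 := le_antisymm hs h1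
    rcases Nat.lt_or_ge t (p - 1) with h2 | h2
    · rw [hs', Nat.mod_self, Nat.mod_eq_of_lt h2] at h
      omega
    · omega

include hχ in
lemma piA_eq_zero (hp : (toConv (AlgHom.id R A)) ^ p = 1) (s t : ℕ)
    (hst : s % (p - 1) ≠ t % (p - 1)) (a : A) (ha : a ∈ OortTate.eigenAug R A p χ t) :
    piA p u χ hp s a = 0 := by
  have hp1 : 0 < p - 1 := Nat.sub_pos_of_lt (Fact.out : p.Prime).one_lt
  rw [piA_apply, ((mem_eigenAug_iff p χ t a).mp ha).1, mul_zero, zero_smul, sub_zero]
  have h1 : OortTate.proj R A p u χ s = OortTate.proj R A p u χ (s % (p - 1)) := by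
    conv_lhs => rw [← Nat.mod_add_div s (p - 1)]
    exact proj_period p u χ _ _
  have h2 : a ∈ OortTate.eigenAug R A p χ (t % (p - 1)) := by
    rw [← eigenAug_period p χ (t % (p - 1)) (t / (p - 1)), Nat.mod_add_div]
    exact ha
  rw [h1]
  exact proj_eq_zero p u χ hχ _ _ (Nat.mod_lt _ hp1) (Nat.mod_lt _ hp1) hst a h2

include hu hχ in
lemma indep_sum (hp : (toConv (AlgHom.id R A)) ^ p = 1) (r : R) (c : ℕ → A)
    (hc : ∀ t, 1 ≤ t → t ≤ p - 1 → c t ∈ OortTate.eigenAug R A p χ t)
    (h : algebraMap R A r + ∑ t ∈ Finset.Ico 1 p, c t = 0) :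
    r = 0 ∧ ∀ t, 1 ≤ t → t ≤ p - 1 → c t = 0 := by
  have hr : r = 0 := by
    have h1 := congrArg (Coalgebra.counit (R := R)) h
    rw [map_add, map_sum, map_zero, Finset.sum_eq_zero, add_zero, Algebra.algebraMap_eq_smul_one,
      map_smul, Bialgebra.counit_one, smul_eq_mul, mul_one] at h1
    · exact h1
    · intro t ht
      rw [Finset.mem_Ico] at ht
      exact ((mem_eigenAug_iff p χ t _).mp (hc t ht.1 (by omega))).1
  refine ⟨hr, fun s hs1 hs => ?_⟩
  have h2 := congrArg (piA p u χ hp s) h
  rw [hr, map_zero, zero_add, map_sum, map_zero, Finset.sum_eq_single s] at h2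
  · rwa [piA_of_mem p u hu χ hp s _ (hc s hs1 hs)] at h2
  · intro t ht hts
    rw [Finset.mem_Ico] at ht
    refine piA_eq_zero p u χ hχ hp s t (fun hmod => hts ?_) _ (hc t ht.1 (by omega))
    exact (mod_inj p s t hs1 hs ht.1 (by omega) hmod).symm
  · intro hs'
    exact absurd (Finset.mem_Ico.mpr ⟨hs1, by omega⟩) hs'

lemma relSet_le_ker :
    Ideal.span (relSet (A := A) p χ) ≤ RingHom.ker (fT (A := A) p χ) := by
  rw [Ideal.span_le]
  rintro _ ⟨f, g, hg, rfl⟩
  rw [SetLike.mem_coe, RingHom.mem_ker, map_sub, map_list_prod, List.map_ofFn, List.prod_ofFn]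
  have e1 : ∀ i, ((fT (A := A) p χ) ∘ fun i => TensorAlgebra.ι R (f i)) i = (f i : A) := by
    intro i
    simp [fT]
  rw [Finset.prod_congr rfl fun i _ => e1 i, ← hg]
  simp [fT]

include hu hχ hχp hrk in
theorem presentation :
    Function.Surjective (fT (A := A) p χ) ∧
      RingHom.ker (fT (A := A) p χ) = Ideal.span (relSet (A := A) p χ) := by
  have hp : (toConv (AlgHom.id R A)) ^ p = 1 := conv_id_pow_of_rank p hrk
  have hp1 : 1 < p := (Fact.out : p.Prime).one_lt
  refine ⟨?_, le_antisymm ?_ (relSet_le_ker p χ)⟩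
  · intro a
    have hmem : ∀ (t : ℕ) (ht : 1 ≤ t) (_ : t ≤ p - 1) (b : A),
        b ∈ OortTate.eigenAug R A p χ t → b ∈ (fT (A := A) p χ).range := by
      intro t ht htp b hb
      obtain ⟨w, hw⟩ := gT_surjective p u hu χ hχ hχp hrk t ht htp ⟨b, hb⟩
      refine ⟨TensorPower.toTensorAlgebra w, ?_⟩
      show fT (A := A) p χ (TensorPower.toTensorAlgebra w) = b
      rw [← gT_coe p χ t ht w, hw]
    have hdec := decomp_left p u hu χ hχ hp a
    have : a ∈ (fT (A := A) p χ).range := by
      rw [← hdec]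
      refine Subalgebra.add_mem _ (Subalgebra.algebraMap_mem _ _)
        (Subalgebra.sum_mem _ fun i _ => ?_)
      by_cases hi : (i : ℕ) = 0
      · refine hmem (p - 1) (by omega) le_rfl _ ?_
        have h1 := (qproj p u χ hp (i : ℕ) a).2
        have hper := eigenAug_period (R := R) (A := A) p χ 0 1
        rw [zero_add, mul_one] at hper
        rw [hper, ← hi]
        exact h1
      · exact hmem i (by omega) (by have := i.2; omega) _ (qproj p u χ hp i a).2
    exact this
  · intro τ hτ
    rw [RingHom.mem_ker] at hτ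
    have hW : τ ∈ WW (A := A) p χ := by
      rw [WW_eq_top]
      trivial
    obtain ⟨κ, hκ, c, hc, rfl⟩ := Submodule.mem_sup.mp hW
    rw [Submodule.mem_iSup_finset_iff_exists_sum] at hc
    obtain ⟨μ, rfl⟩ := hc
    have hκ0 : fT (A := A) p χ κ = 0 := RingHom.mem_ker.mp (relSet_le_ker p χ hκ)
    rw [map_add, hκ0, zero_add, map_sum, Finset.range_eq_Ico,
      Finset.sum_eq_sum_Ico_succ_bot (by omega : 0 < p)] at hτ
    -- degree zero part
    have h0 : ((μ 0 : TT (A := A) p χ 0) : TensorAlgebra R (OortTate.eigenAug R A p χ 1)) ∈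
        (1 : Submodule R (TensorAlgebra R (OortTate.eigenAug R A p χ 1))) := by
      have e : TT (A := A) p χ 0 = 1 := pow_zero _
      exact e.le (μ 0).2
    obtain ⟨r, hr⟩ := Submodule.mem_one.mp h0
    -- higher degree parts
    have hw : ∀ t : ℕ, ∃ w : ⨂[R]^t (OortTate.eigenAug R A p χ 1),
        TensorPower.toTensorAlgebra w = ((μ t : TT (A := A) p χ t) : TensorAlgebra R (OortTate.eigenAug R A p χ 1)) :=
      fun t => TT_le_range p χ t (μ t).2
    choose w hw using hw
    have hc : ∀ t, 1 ≤ t → t ≤ p - 1 →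
        fT (A := A) p χ ((μ t : TT (A := A) p χ t) : TensorAlgebra R (OortTate.eigenAug R A p χ 1)) ∈
          OortTate.eigenAug R A p χ t := by
      intro t ht _
      rw [← hw t]
      exact fT_mem p χ t ht (w t)
    rw [← hr, AlgHom.commutes] at hτ
    obtain ⟨hr0, hct⟩ := indep_sum p u hu χ hχ hp r
      (fun t => fT (A := A) p χ ((μ t : TT (A := A) p χ t) : TensorAlgebra R (OortTate.eigenAug R A p χ 1))) hc hτ
    have hμ : ∀ t ∈ Finset.range p, ((μ t : TT (A := A) p χ t) : TensorAlgebra R (OortTate.eigenAug R A p χ 1)) = 0 := by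
      intro t ht
      rw [Finset.mem_range] at ht
      rcases Nat.eq_zero_or_pos t with h | h
      · subst h
        rw [← hr, hr0, map_zero]
      · have h1 := hct t h (by omega)
        rw [← hw t] at h1 ⊢
        have h2 : gT (A := A) p χ t h (w t) = 0 := Subtype.ext h1
        rw [gT_injective p u hu χ hχ hχp hrk t h (by omega) (h2.trans (map_zero _).symm), map_zero]
    rw [Finset.sum_eq_zero hμ, add_zero]
    exact hκ

end pres

end Groth.Agent.Helper2.OT
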