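import Mathlib
import Groth.Agent.Lib.Helper2.Hopf.OTPres

/-!
# Oort–Tate classification: the general (non free) injectivity statement (helper2)
-/

set_option autoImplicit false
open scoped TensorProduct
open WithConv

namespace Groth.Agent.Helper2.OT

universe u v

section liftsurj

variable {R : Type*} [CommRing R] {T A C : Type*} [Ring T] [Ring A] [Ring C]
  [Algebra R T] [Algebra R A] [Algebra R C]

/-- descend an algebra map along a surjective algebra map (no commutativity assumed) -/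
theorem exists_algHom_of_ker_le (f : T →ₐ[R] A) (hf : Function.Surjective f) (F : T →ₐ[R] C)
    (H : ∀ τ, f τ = 0 → F τ = 0) : ∃ Θ : A →ₐ[R] C, ∀ τ, Θ (f τ) = F τ := by
  have key : ∀ τ σ, f τ = f σ → F τ = F σ := by
    intro τ σ h
    have := H (τ - σ) (by rw [map_sub, h, sub_self])
    rwa [map_sub, sub_eq_zero] at this
  let g : A → C := fun a => F (Function.surjInv hf a)
  have hg : ∀ τ, g (f τ) = F τ := fun τ => key _ _ (Function.surjInv_eq hf (f τ))
  refine ⟨{ toFun := g
            map_one' := by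
              have := hg 1
              rwa [map_one, map_one] at this
            map_mul' := fun a b => by
              obtain ⟨τ, rfl⟩ := hf a
              obtain ⟨σ, rfl⟩ := hf b
              rw [← map_mul, hg, hg, hg, map_mul]
            map_zero' := by
              have := hg 0
              rwa [map_zero, map_zero] at this
            map_add' := fun a b => by
              obtain ⟨τ, rfl⟩ := hf a
              obtain ⟨σ, rfl⟩ := hf b
              rw [← map_add, hg, hg, hg, map_add]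
            commutes' := fun r => by
              have := hg (algebraMap R T r)
              rwa [AlgHom.commutes, AlgHom.commutes] at this }, hg⟩

end liftsurj

section transpose

variable {R : Type u} [CommRing R] {A : Type u} [CommRing A] [HopfAlgebra R A]
  [Module.Finite R A] [Module.Projective R A]
  {A' : Type u} [CommRing A'] [HopfAlgebra R A'] [Module.Finite R A'] [Module.Projective R A']

/-- transpose of a linear map, on the duals -/
noncomputable def trL (θ : A →ₗ[R] A') : CartDual.D R A' →ₗ[R] CartDual.D R A :=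
  (CartDual.toDual R A).symm.toLinearMap ∘ₗ θ.dualMap ∘ₗ (CartDual.toDual R A').toLinearMap

lemma trL_apply (θ : A →ₗ[R] A') (φ' : CartDual.D R A') (a : A) : (trL θ φ') a = φ' (θ a) := rfl

/-- an algebra isomorphism whose transpose is multiplicative is a bialgebra isomorphism -/
theorem bialgEquiv_of_transpose (e : A ≃ₐ[R] A')
    (hmul : ∀ φ' ψ' : CartDual.D R A', trL (e : A →ₗ[R] A') (φ' * ψ') =
      trL (e : A →ₗ[R] A') φ' * trL (e : A →ₗ[R] A') ψ')
    (hone : trL (e : A →ₗ[R] A') 1 = 1) : Nonempty (A ≃ₐc[R] A') := by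
  set θ : A →ₗ[R] A' := (e : A →ₗ[R] A') with hθdef
  have he : ∀ a, e a = θ a := fun _ => rfl
  refine ⟨BialgEquiv.ofAlgEquiv e ?_ ?_⟩
  · refine AlgHom.ext fun a => ?_
    show Coalgebra.counit (R := R) (e a) = Coalgebra.counit (R := R) a
    have h1 := congrArg (fun φ : CartDual.D R A => φ a) hone
    rw [trL_apply, LinearMap.convOne_apply, LinearMap.convOne_apply] at h1
    exact h1
  · refine AlgHom.ext fun a => ?_
    show Algebra.TensorProduct.map (e : A →ₐ[R] A') (e : A →ₐ[R] A') (Coalgebra.comul (R := R) a) =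
      Coalgebra.comul (R := R) (e a)
    have hmap : ∀ t : A ⊗[R] A, Algebra.TensorProduct.map (e : A →ₐ[R] A') (e : A →ₐ[R] A') t =
        TensorProduct.map θ θ t := by
      intro t
      induction t using TensorProduct.induction_on with
      | zero => rw [map_zero, map_zero]
      | add s t hs ht => rw [map_add, map_add, hs, ht]
      | tmul a b => rfl
    rw [hmap]
    refine eq_of_ev₂ _ _ fun φ' ψ' => ?_
    have h2 : ∀ t : A ⊗[R] A, CartDual.ev₂ R A' (φ' ⊗ₜ[R] ψ') (TensorProduct.map θ θ t) =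
        CartDual.ev₂ R A (trL θ φ' ⊗ₜ[R] trL θ ψ') t := by
      intro t
      induction t using TensorProduct.induction_on with
      | zero => rw [map_zero, map_zero, map_zero]
      | add s t hs ht => rw [map_add, map_add, hs, ht, map_add]
      | tmul a b =>
        rw [TensorProduct.map_tmul, CartDual.ev₂_tmul, CartDual.ev₂_tmul, trL_apply, trL_apply]
    have h3 : ∀ (B : Type u) [CommRing B] [HopfAlgebra R B] [Module.Finite R B]
        [Module.Projective R B] (φ ψ : CartDual.D R B) (b : B),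
        CartDual.ev₂ R B (φ ⊗ₜ[R] ψ) (Coalgebra.comul (R := R) b) = (φ * ψ) b := by
      intro B _ _ _ _ φ ψ b
      rw [CartDual.ev₂_tmul_eq', LinearMap.convMul_apply]
      rfl
    rw [h2, h3, h3, ← hmul, trL_apply, he]

end transpose

section algmap

variable (p : ℕ) [Fact p.Prime] {R : Type u} [CommRing R] (u : R)
  (hu : u * ((p - 1 : ℕ) : R) = 1) (χ : (ZMod p)ˣ →* Rˣ)
  (hχ : ∀ m : (ZMod p)ˣ, m ≠ 1 → IsUnit ((χ m : R) - 1))
  (hχp : ∀ m : (ZMod p)ˣ, ((χ m : Rˣ) : R) - (((m : ZMod p).val : ℕ) : R) ∈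
    Ideal.span ({(p : R)} : Set R))
  {A : Type u} [CommRing A] [HopfAlgebra R A]
  [Coalgebra.IsCocomm R A] [Module.Finite R A] [Module.Projective R A]
  (hrk : ∀ q : PrimeSpectrum R, Module.rankAtStalk A q = p)

include hu hχ hχp hrk in
/-- an `R`-linear map out of `I_1` compatible with `p`-fold products extends to an algebra map -/
theorem exists_algHom_of_compat {C : Type*} [CommRing C] [Algebra R C]
    (θ : OortTate.eigenAug R A p χ 1 →ₗ[R] C)
    (hθ : ∀ (f : Fin p → OortTate.eigenAug R A p χ 1) (g : OortTate.eigenAug R A p χ 1),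
      (g : A) = ∏ i, (f i : A) → θ g = ∏ i, θ (f i)) :
    ∃ Θ : A →ₐ[R] C, ∀ y : OortTate.eigenAug R A p χ 1, Θ (y : A) = θ y := by
  obtain ⟨hsurj, hker⟩ := presentation p u hu χ hχ hχp hrk (A := A)
  let F : TensorAlgebra R (OortTate.eigenAug R A p χ 1) →ₐ[R] C := TensorAlgebra.lift R θ
  have hF : ∀ τ, fT (A := A) p χ τ = 0 → F τ = 0 := by
    intro τ hτ
    have h1 : τ ∈ RingHom.ker (fT (A := A) p χ) := RingHom.mem_ker.mpr hτ
    rw [hker] at h1
    have hle : Ideal.span (relSet (A := A) p χ) ≤ RingHom.ker F := by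
      rw [Ideal.span_le]
      rintro _ ⟨f, g, hg, rfl⟩
      rw [SetLike.mem_coe, RingHom.mem_ker, map_sub, map_list_prod, List.map_ofFn, List.prod_ofFn]
      have e1 : ∀ i, (F ∘ fun i => TensorAlgebra.ι R (f i)) i = θ (f i) := by
        intro i
        simp [F]
      rw [Finset.prod_congr rfl fun i _ => e1 i, ← hθ f g hg]
      simp [F]
    exact RingHom.mem_ker.mp (hle h1)
  obtain ⟨Θ, hΘ⟩ := exists_algHom_of_ker_le (fT (A := A) p χ) hsurj F hF
  refine ⟨Θ, fun y => ?_⟩
  have := hΘ (TensorAlgebra.ι R y)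
  simpa [fT, F] using this

include hu hχ hχp hrk in
/-- algebra maps out of `A` are determined by their restriction to `I_1` -/
theorem algHom_ext_of_eigen {C : Type*} [Ring C] [Algebra R C] (Φ Ψ : A →ₐ[R] C)
    (h : ∀ y : OortTate.eigenAug R A p χ 1, Φ (y : A) = Ψ (y : A)) : Φ = Ψ := by
  obtain ⟨hsurj, -⟩ := presentation p u hu χ hχ hχp hrk (A := A)
  have h1 : Φ.comp (fT (A := A) p χ) = Ψ.comp (fT (A := A) p χ) := by
    apply TensorAlgebra.hom_ext
    refine LinearMap.ext fun y => ?_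
    simpa [fT] using h y
  refine AlgHom.ext fun a => ?_
  obtain ⟨τ, rfl⟩ := hsurj a
  exact congrArg (fun g : TensorAlgebra R (OortTate.eigenAug R A p χ 1) →ₐ[R] C => g τ) h1

include hu hχ hχp hrk in
/-- a subalgebra of `A` containing `I_1` is everything -/
theorem subalgebra_eq_top_of_eigen (S : Subalgebra R A)
    (h : ∀ y : OortTate.eigenAug R A p χ 1, (y : A) ∈ S) : S = ⊤ := by
  obtain ⟨hsurj, -⟩ := presentation p u hu χ hχ hχp hrk (A := A)
  rw [eq_top_iff]
  intro a _
  obtain ⟨τ, rfl⟩ := hsurj a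
  induction τ using TensorAlgebra.induction with
  | algebraMap r =>
    rw [AlgHom.commutes]
    exact S.algebraMap_mem r
  | ι y =>
    have : fT (A := A) p χ (TensorAlgebra.ι R y) = (y : A) := by simp [fT]
    rw [this]
    exact h y
  | mul a b ha hb =>
    rw [map_mul]
    exact S.mul_mem (ha trivial) (hb trivial)
  | add a b ha hb =>
    rw [map_add]
    exact S.add_mem (ha trivial) (hb trivial)

end algmap

section canon

variable (p : ℕ) [Fact p.Prime] {R : Type u} [CommRing R] (u : R)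
  (hu : u * ((p - 1 : ℕ) : R) = 1) (χ : (ZMod p)ˣ →* Rˣ)
  (hχ : ∀ m : (ZMod p)ˣ, m ≠ 1 → IsUnit ((χ m : R) - 1))
  (hχp : ∀ m : (ZMod p)ˣ, ((χ m : Rˣ) : R) - (((m : ZMod p).val : ℕ) : R) ∈
    Ideal.span ({(p : R)} : Set R))
  {A : Type u} [CommRing A] [HopfAlgebra R A]
  [Coalgebra.IsCocomm R A] [Module.Finite R A] [Module.Projective R A]
  (ϕ : Ap p R →ₐ[R] A ⊗[R] CartDual.D R A)

include hu hχ in
lemma phi_yE_gen (i : ℕ) (hi : 1 ≤ i) (hip : i ≤ p - 1) :
    ϕ (yE p u χ i) = ((wU p u hu χ hχ hχp i)⁻¹ : Rˣ) • (ϕ (yE p u χ 1)) ^ i := by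
  have h1 := congrArg ϕ (yE_one_pow p u hu χ hχ i hi)
  rw [show ϕ (yE p u χ 1 ^ i) = (ϕ (yE p u χ 1)) ^ i from ϕ.toRingHom.map_pow _ i, map_smul,
    ← wU_val p u hu χ hχ hχp i hi hip] at h1
  rw [h1, Units.smul_def, smul_smul, Units.inv_mul, one_smul]

include hu hχ in
lemma phi_tm_one :
    ϕ (tm p R 1) = 1 + ∑ i ∈ Finset.range (p - 1),
      ((wU p u hu χ hχ hχp (i + 1))⁻¹ : Rˣ) • (ϕ (yE p u χ 1)) ^ (i + 1) := by
  have h2 := congrArg ϕ (tm_one_sub_one p u hu χ hχ)
  have h3 : ϕ 1 = 1 := ϕ.toRingHom.map_one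
  rw [map_sub, h3, map_sum, sub_eq_iff_eq_add'] at h2
  rw [h2]
  congr 1
  refine Finset.sum_congr rfl fun i hi => ?_
  rw [Finset.mem_range] at hi
  exact phi_yE_gen p u hu χ hχ hχp ϕ (i + 1) (by omega) (by omega)

end canon

section resdual

variable (p : ℕ) [Fact p.Prime] {R : Type u} [CommRing R] (u : R)
  (hu : u * ((p - 1 : ℕ) : R) = 1) (χ : (ZMod p)ˣ →* Rˣ)
  {A : Type u} [CommRing A] [HopfAlgebra R A]
  [Coalgebra.IsCocomm R A] [Module.Finite R A] [Module.Projective R A]
  (hp : (toConv (AlgHom.id R A)) ^ p = 1)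

/-- restriction of a form in `I_1(A^D)` to `I_1(A)` -/
noncomputable def resL : OortTate.eigenAug R (CartDual.D R A) p χ 1 →ₗ[R]
    (OortTate.eigenAug R A p χ 1 →ₗ[R] R) :=
  (LinearMap.lcomp R R (OortTate.eigenAug R A p χ 1).subtype) ∘ₗ
    (CartDual.toDual R A).toLinearMap ∘ₗ (OortTate.eigenAug R (CartDual.D R A) p χ 1).subtype

lemma resL_apply (φ : OortTate.eigenAug R (CartDual.D R A) p χ 1)
    (x : OortTate.eigenAug R A p χ 1) :
    resL p χ φ x = (φ : CartDual.D R A) (x : A) := rfl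

include hu hp in
lemma resL_bijective : Function.Bijective (resL (R := R) (A := A) p χ) :=
  eigen_duality p u hu χ hp 1

/-- the duality `I_1(A^D) ≃ I_1(A)^*` -/
noncomputable def resEquiv (hu : u * ((p - 1 : ℕ) : R) = 1) :
    OortTate.eigenAug R (CartDual.D R A) p χ 1 ≃ₗ[R] (OortTate.eigenAug R A p χ 1 →ₗ[R] R) :=
  LinearEquiv.ofBijective (resL p χ) (resL_bijective p u hu χ hp)

lemma resEquiv_apply (φ : OortTate.eigenAug R (CartDual.D R A) p χ 1)
    (x : OortTate.eigenAug R A p χ 1) :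
    resEquiv p u χ hp hu φ x = (φ : CartDual.D R A) (x : A) := rfl

include hu in
/-- forms in `I_1(A^D)` factor through the projector onto `I_1(A)` -/
lemma form_piA (φ : CartDual.D R A) (hφ : φ ∈ OortTate.eigenAug R (CartDual.D R A) p χ 1) (a : A) :
    φ a = φ (piA p u χ hp 1 a) := by
  have h3 : piA (A := CartDual.D R A) p u χ (conv_pow_D p hp) 1 φ = φ :=
    piA_of_mem p u hu χ (conv_pow_D p hp) 1 _ hφ
  rw [← tr_piA] at h3
  conv_lhs => rw [← h3]
  rfl

end resdual

section general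

variable (p : ℕ) [Fact p.Prime] {R : Type u} [CommRing R] (u : R)
  (hu : u * ((p - 1 : ℕ) : R) = 1) (χ : (ZMod p)ˣ →* Rˣ)
  (hχ : ∀ m : (ZMod p)ˣ, m ≠ 1 → IsUnit ((χ m : R) - 1))
  (hχp : ∀ m : (ZMod p)ˣ, ((χ m : Rˣ) : R) - (((m : ZMod p).val : ℕ) : R) ∈
    Ideal.span ({(p : R)} : Set R))
  {A : Type u} [CommRing A] [HopfAlgebra R A]
  [Coalgebra.IsCocomm R A] [Module.Finite R A] [Module.Projective R A]
  (hrk : ∀ q : PrimeSpectrum R, Module.rankAtStalk A q = p)
  {A' : Type u} [CommRing A'] [HopfAlgebra R A']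
  [Coalgebra.IsCocomm R A'] [Module.Finite R A'] [Module.Projective R A']
  (hrk' : ∀ q : PrimeSpectrum R, Module.rankAtStalk A' q = p)

include hrk in
lemma rank_D (q : PrimeSpectrum R) : Module.rankAtStalk (CartDual.D R A) q = p := by
  rw [Module.rankAtStalk_eq_of_equiv (CartDual.toDual R A), RankOne.rankAtStalk_dual, hrk]

/-- evaluation `φ ⊗ id : A ⊗ A^D → A^D` -/
noncomputable def cphi (φ : CartDual.D R A) : A ⊗[R] CartDual.D R A →ₗ[R] CartDual.D R A :=
  (TensorProduct.lid R (CartDual.D R A)).toLinearMap ∘ₗ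
    LinearMap.rTensor (CartDual.D R A) (CartDual.toDual R A φ)

lemma cphi_tmul (φ ψ : CartDual.D R A) (x : A) : cphi φ (x ⊗ₜ[R] ψ) = φ x • ψ := by
  unfold cphi
  rw [LinearMap.comp_apply, LinearMap.rTensor_tmul]
  exact TensorProduct.lid_tmul _ _

lemma cphi_apply (φ : CartDual.D R A) (w : A ⊗[R] CartDual.D R A) (a : A) :
    (cphi φ w) a = φ (Psi w a) := by
  induction w using TensorProduct.induction_on with
  | zero =>
    rw [map_zero, map_zero, LinearMap.zero_apply, map_zero]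
    rfl
  | add s t hs ht =>
    rw [map_add, map_add, LinearMap.add_apply, map_add, ← hs, ← ht]
    rfl
  | tmul x ψ =>
    rw [cphi_tmul, Psi_tmul, map_smul]
    show φ x * ψ a = ψ a * φ x
    exact mul_comm _ _

include hu hχ hχp hrk hrk' in
theorem exists_bialgEquiv_general
    (θ : OortTate.eigenAug R A p χ 1 ≃ₗ[R] OortTate.eigenAug R A' p χ 1)
    (hθ : ∀ (f : Fin p → OortTate.eigenAug R A p χ 1) (g : OortTate.eigenAug R A p χ 1),
      (g : A) = ∏ i, (f i : A) → ((θ g : OortTate.eigenAug R A' p χ 1) : A') = ∏ i, ((θ (f i)) : A'))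
    (hθD : ∀ (φ : Fin p → OortTate.eigenAug R (CartDual.D R A) p χ 1)
      (φ' : Fin p → OortTate.eigenAug R (CartDual.D R A') p χ 1)
      (ψ : OortTate.eigenAug R (CartDual.D R A) p χ 1)
      (ψ' : OortTate.eigenAug R (CartDual.D R A') p χ 1),
      (∀ i, ∀ x : OortTate.eigenAug R A p χ 1,
        (φ i : CartDual.D R A) (x : A) =
          (φ' i : CartDual.D R A') ((θ x : OortTate.eigenAug R A' p χ 1) : A')) →
      (ψ : CartDual.D R A) = ∏ i, (φ i : CartDual.D R A) →
      (ψ' : CartDual.D R A') = ∏ i, (φ' i : CartDual.D R A') →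
      ∀ x : OortTate.eigenAug R A p χ 1,
        (ψ : CartDual.D R A) (x : A) =
          (ψ' : CartDual.D R A') ((θ x : OortTate.eigenAug R A' p χ 1) : A')) :
    Nonempty (A ≃ₐc[R] A') := by
  have hp : (toConv (AlgHom.id R A)) ^ p = 1 := conv_id_pow_of_rank p hrk
  have hp' : (toConv (AlgHom.id R A')) ^ p = 1 := conv_id_pow_of_rank p hrk'
  have hrkD := rank_D p hrk
  have hrkD' := rank_D p hrk'
  -- Step 1: the algebra map
  obtain ⟨Θ, hΘ⟩ := exists_algHom_of_compat p u hu χ hχ hχp hrk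
    ((OortTate.eigenAug R A' p χ 1).subtype ∘ₗ θ.toLinearMap) (fun f g hg => hθ f g hg)
  have hΘ' : ∀ y : OortTate.eigenAug R A p χ 1, Θ (y : A) = ((θ y : _) : A') := hΘ
  -- Step 2: bijectivity
  have hΘsurj : Function.Surjective Θ := by
    have h1 : Θ.range = ⊤ := subalgebra_eq_top_of_eigen p u hu χ hχ hχp hrk' Θ.range
      (fun y' => ⟨(θ.symm y' : A), by
        show Θ ((θ.symm y' : _) : A) = (y' : A')
        rw [hΘ', LinearEquiv.apply_symm_apply]⟩)
    intro a'
    have : a' ∈ Θ.range := by rw [h1]; trivial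
    exact this
  have hΘbij : Function.Bijective Θ :=
    Module.bijective_of_surjective_of_rankAtStalk_eq (φ := Θ.toLinearMap) hΘsurj
      fun m _ => by rw [hrk, hrk']
  let e : A ≃ₐ[R] A' := AlgEquiv.ofBijective Θ hΘbij
  have he : ∀ a, e a = Θ a := fun _ => rfl
  -- Step 3: the dual map on `I_1`
  let Ξ₁ : OortTate.eigenAug R (CartDual.D R A) p χ 1 ≃ₗ[R]
      OortTate.eigenAug R (CartDual.D R A') p χ 1 :=
    (resEquiv p u χ hp hu) ≪≫ₗ (LinearEquiv.congrLeft R R θ) ≪≫ₗ (resEquiv p u χ hp' hu).symm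
  have hΞ₁ : ∀ (φ : OortTate.eigenAug R (CartDual.D R A) p χ 1)
      (x : OortTate.eigenAug R A p χ 1),
      (Ξ₁ φ : CartDual.D R A') ((θ x : _) : A') = (φ : CartDual.D R A) (x : A) := by
    intro φ x
    have h1 : resEquiv p u χ hp' hu (Ξ₁ φ) =
        LinearEquiv.congrLeft R R θ (resEquiv p u χ hp hu φ) :=
      LinearEquiv.apply_symm_apply _ _
    have h2 := congrArg (fun l : OortTate.eigenAug R A' p χ 1 →ₗ[R] R => l (θ x)) h1
    simp only [resEquiv_apply, LinearEquiv.congrLeft_apply] at h2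
    rw [h2]
    show resEquiv p u χ hp hu φ (θ.symm (θ x)) = _
    rw [LinearEquiv.symm_apply_apply, resEquiv_apply]
  have hΞ₁prod : ∀ (f : Fin p → OortTate.eigenAug R (CartDual.D R A) p χ 1)
      (g : OortTate.eigenAug R (CartDual.D R A) p χ 1),
      (g : CartDual.D R A) = ∏ i, (f i : CartDual.D R A) →
      ((OortTate.eigenAug R (CartDual.D R A') p χ 1).subtype ∘ₗ Ξ₁.toLinearMap) g =
        ∏ i, ((OortTate.eigenAug R (CartDual.D R A') p χ 1).subtype ∘ₗ Ξ₁.toLinearMap) (f i) := by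
    intro f g hg
    show ((Ξ₁ g : _) : CartDual.D R A') = ∏ i, ((Ξ₁ (f i) : _) : CartDual.D R A')
    let ψ' : OortTate.eigenAug R (CartDual.D R A') p χ 1 :=
      ⟨∏ i, ((Ξ₁ (f i) : _) : CartDual.D R A'), prod_mem_one p χ fun i => Ξ₁ (f i)⟩
    have h1 := hθD f (fun i => Ξ₁ (f i)) g ψ' (fun i x => (hΞ₁ (f i) x).symm) hg rfl
    have h2 : Ξ₁ g = ψ' := by
      apply (resEquiv p u χ hp' hu).injective
      refine LinearMap.ext fun x' => ?_
      obtain ⟨x, rfl⟩ := θ.surjective x'
      rw [resEquiv_apply, resEquiv_apply, hΞ₁, h1]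
    rw [h2]
  -- Step 4: the dual algebra map
  obtain ⟨Ξ, hΞ⟩ := exists_algHom_of_compat p u hu χ hχ hχp hrkD
    ((OortTate.eigenAug R (CartDual.D R A') p χ 1).subtype ∘ₗ Ξ₁.toLinearMap) hΞ₁prod
  have hΞ' : ∀ φ : OortTate.eigenAug R (CartDual.D R A) p χ 1,
      Ξ (φ : CartDual.D R A) = ((Ξ₁ φ : _) : CartDual.D R A') := hΞ
  -- Step 5: canonical elements
  obtain ⟨ϕ, hϕ⟩ := exists_pairing p hp (A := A)
  obtain ⟨ϕ', hϕ'⟩ := exists_pairing p hp' (A := A')
  have hz : Psi (ϕ (yE p u χ 1)) = piA p u χ hp 1 := Psi_phi_yE p u χ hp _ hϕ ϕ rfl 1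
  have hz' : Psi (ϕ' (yE p u χ 1)) = piA p u χ hp' 1 := Psi_phi_yE p u χ hp' _ hϕ' ϕ' rfl 1
  let ΘΞ : A ⊗[R] CartDual.D R A →ₐ[R] A' ⊗[R] CartDual.D R A' := Algebra.TensorProduct.map Θ Ξ
  have hΘΞ : ∀ (x : A) (ψ : CartDual.D R A), ΘΞ (x ⊗ₜ[R] ψ) = Θ x ⊗ₜ[R] Ξ ψ := fun _ _ => rfl
  have hzz : ΘΞ (ϕ (yE p u χ 1)) = ϕ' (yE p u χ 1) := by
    have hmem := (pairing_main p u hu χ hχ hχp hrk _ hϕ ϕ rfl).1
    have hzmem : ϕ (yE p u χ 1) ∈ LinearMap.range
        (TensorProduct.map (OortTate.eigenAug R A p χ 1).subtype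
          (OortTate.eigenAug R (CartDual.D R A) p χ 1).subtype) := by
      rw [← hmem]
      exact Submodule.mem_span_singleton_self _
    obtain ⟨t, ht⟩ := hzmem
    have key : ∀ (t : OortTate.eigenAug R A p χ 1 ⊗[R] OortTate.eigenAug R (CartDual.D R A) p χ 1)
        (a' : A'),
        Psi (ΘΞ (TensorProduct.map (OortTate.eigenAug R A p χ 1).subtype
          (OortTate.eigenAug R (CartDual.D R A) p χ 1).subtype t)) a' =
        Θ (Psi (TensorProduct.map (OortTate.eigenAug R A p χ 1).subtype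
          (OortTate.eigenAug R (CartDual.D R A) p χ 1).subtype t)
            ((θ.symm (qproj p u χ hp' 1 a') : _) : A)) := by
      intro t a'
      induction t using TensorProduct.induction_on with
      | zero => simp
      | add s t hs ht =>
        simp only [map_add, LinearMap.add_apply, hs, ht]
      | tmul x ξ =>
        rw [TensorProduct.map_tmul, Submodule.subtype_apply, Submodule.subtype_apply, hΘΞ,
          Psi_tmul, Psi_tmul, map_smul, hΞ']
        congr 1
        rw [form_piA p u hu χ hp' _ (Ξ₁ ξ).2 a']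
        have h1 : piA p u χ hp' 1 a' =
            ((θ (θ.symm (qproj p u χ hp' 1 a')) : _) : A') := by
          rw [LinearEquiv.apply_symm_apply]
          rfl
        rw [h1, hΞ₁]
    apply Psi_injective
    refine LinearMap.ext fun a' => ?_
    rw [← ht, key t a', ht, hz, hz',
      piA_of_mem p u hu χ hp 1 _ (θ.symm (qproj p u χ hp' 1 a')).2, hΘ',
      LinearEquiv.apply_symm_apply]
    rfl
  have hδ : ΘΞ (ϕ (tm p R 1)) = ϕ' (tm p R 1) := by
    rw [phi_tm_one p u hu χ hχ hχp ϕ, phi_tm_one p u hu χ hχ hχp ϕ', map_add, map_sum,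
      show ΘΞ 1 = 1 from ΘΞ.toRingHom.map_one]
    congr 1
    refine Finset.sum_congr rfl fun i _ => ?_
    rw [Units.smul_def, Units.smul_def, map_smul,
      show ΘΞ (ϕ (yE p u χ 1) ^ (i + 1)) = (ΘΞ (ϕ (yE p u χ 1))) ^ (i + 1) from
        ΘΞ.toRingHom.map_pow _ _, hzz]
  -- Step 6: `Ξ` inverts the transpose of `Θ`
  have hkey : ∀ (φ : CartDual.D R A) (a : A), (Ξ φ) (Θ a) = φ a := by
    intro φ a
    have hE : ∀ w : A ⊗[R] CartDual.D R A,
        (Ξ (cphi φ w)) (Θ a) = φ (e.symm (Psi (ΘΞ w) (Θ a))) := by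
      intro w
      induction w using TensorProduct.induction_on with
      | zero => simp
      | add s t hs ht =>
        simp only [map_add, LinearMap.add_apply, ← hs, ← ht]
        rfl
      | tmul x ψ =>
        rw [cphi_tmul, map_smul, hΘΞ, Psi_tmul, map_smul, map_smul, ← he x,
          AlgEquiv.symm_apply_apply]
        show φ x * (Ξ ψ) (Θ a) = (Ξ ψ) (Θ a) * φ x
        exact mul_comm _ _
    have h1 := hE (ϕ (tm p R 1))
    have h2 : cphi φ (ϕ (tm p R 1)) = φ := by
      apply WithConv.ofConv_injective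
      refine LinearMap.ext fun b => ?_
      show (cphi φ (ϕ (tm p R 1))) b = φ b
      rw [cphi_apply, hϕ]
      rfl
    rw [h2, hδ, hϕ', LinearMap.id_apply, ← he a, AlgEquiv.symm_apply_apply] at h1
    exact h1
  -- Step 7: the transpose of `Θ` is multiplicative
  have htr : ∀ φ : CartDual.D R A, trL (e : A →ₗ[R] A') (Ξ φ) = φ := by
    intro φ
    apply WithConv.ofConv_injective
    refine LinearMap.ext fun a => ?_
    exact hkey φ a
  have htrinj : Function.Injective (trL (R := R) (e : A →ₗ[R] A')) := by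
    intro φ' ψ' h
    apply WithConv.ofConv_injective
    refine LinearMap.ext fun a' => ?_
    obtain ⟨a, rfl⟩ := e.surjective a'
    exact congrArg (fun ρ : CartDual.D R A => ρ a) h
  have hΞtr : ∀ φ' : CartDual.D R A', Ξ (trL (e : A →ₗ[R] A') φ') = φ' :=
    fun φ' => htrinj (htr _)
  refine bialgEquiv_of_transpose e (fun φ' ψ' => ?_) ?_
  · conv_lhs => rw [← hΞtr φ', ← hΞtr ψ', ← map_mul, htr]
  · have : trL (e : A →ₗ[R] A') (Ξ 1) = 1 := htr 1
    rwa [map_one] at this

end general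

end Groth.Agent.Helper2.OT
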