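import Mathlib

/-!
# Truncated polynomial algebras and restricted monomials (helper2)
-/

set_option autoImplicit false
open MvPolynomial

namespace Groth.Agent.Helper2.HopfLib

section truncpoly

variable {R : Type*} [CommRing R] {A : Type*} [CommRing A] [Algebra R A] {n : ℕ}

/-- exponent vectors with all entries `≤ m` -/
abbrev RestrExp (n m : ℕ) : Set (Fin n →₀ ℕ) := {s | ∀ i, s i ≤ m}

variable (R) in
/-- the restricted monomials in `x` -/
noncomputable def monFam (m : ℕ) (x : Fin n → A) : RestrExp n m → A :=
  fun s => aeval (R := R) x (monomial s.1 (1 : R))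

lemma basisRestrictSupport_coe (S : Set (Fin n →₀ ℕ)) (s : S) :
    ((basisRestrictSupport R S) s : MvPolynomial (Fin n) R) = monomial s.1 1 := by
  have h : (basisRestrictSupport R S) s =
      ⟨monomial s.1 1, (monomial_mem_restrictSupport R).mpr (Or.inl s.2)⟩ := by
    apply (basisRestrictSupport R S).repr.injective
    rw [Module.Basis.repr_self]
    ext t
    show _ = coeff t.1 (monomial s.1 (1 : R))
    classical
    rw [coeff_monomial, Finsupp.single_apply]
    simp only [Subtype.ext_iff]
  rw [h]

lemma aeval_eq_linearCombination (m : ℕ) (x : Fin n → A)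
    (v : restrictSupport R (RestrExp n m)) :
    aeval x v.1 = Finsupp.linearCombination R (monFam R m x)
      ((basisRestrictSupport R (RestrExp n m)).repr v) := by
  have h1 := (basisRestrictSupport R (RestrExp n m)).linearCombination_repr v
  have h2 := congrArg (fun w => ((aeval x).toLinearMap ∘ₗ
    (restrictSupport R (RestrExp n m)).subtype) w) h1
  rw [Finsupp.apply_linearCombination] at h2
  rw [← show ((aeval x).toLinearMap ∘ₗ (restrictSupport R (RestrExp n m)).subtype) v =
    aeval x v.1 from rfl, ← h2]
  congr 2
  funext s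
  show aeval x ((basisRestrictSupport R (RestrExp n m)) s : MvPolynomial (Fin n) R) = _
  rw [basisRestrictSupport_coe]
  rfl

/-- every polynomial is restricted modulo the `p`-th powers of the variables -/
lemma exists_restr_sub_mem (p : ℕ) (hp : 0 < p) (f : MvPolynomial (Fin n) R) :
    ∃ v ∈ restrictSupport R (RestrExp n (p - 1)),
      f - v ∈ Ideal.span (Set.range fun i : Fin n => (X i : MvPolynomial (Fin n) R) ^ p) := by
  induction f using MvPolynomial.induction_on' with
  | monomial s c =>
    by_cases hs : ∀ i, s i ≤ p - 1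
    · exact ⟨monomial s c, (monomial_mem_restrictSupport R).mpr (Or.inl hs), by simp⟩
    · refine ⟨0, Submodule.zero_mem _, ?_⟩
      rw [sub_zero]
      simp only [not_forall, not_le] at hs
      obtain ⟨i, hi⟩ := hs
      have hpi : p ≤ s i := by omega
      have hs' : (s - Finsupp.single i p) + Finsupp.single i p = s := by
        refine Finsupp.ext (fun (j : Fin n) => ?_)
        by_cases hj : j = i
        · subst hj
          simp only [Finsupp.coe_add, Finsupp.coe_tsub, Pi.add_apply, Pi.sub_apply,
            Finsupp.single_eq_same]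
          omega
        · simp only [Finsupp.coe_add, Finsupp.coe_tsub, Pi.add_apply, Pi.sub_apply,
            Finsupp.single_eq_of_ne hj, Nat.sub_zero, Nat.add_zero]
      have h1 : monomial s c = monomial (s - Finsupp.single i p) c * (X i) ^ p := by
        rw [X_pow_eq_monomial, monomial_mul, mul_one, hs']
      rw [h1]
      exact Ideal.mul_mem_left _ _ (Ideal.subset_span ⟨i, rfl⟩)
  | add f g hf hg =>
    obtain ⟨v, hv, h1⟩ := hf
    obtain ⟨w, hw, h2⟩ := hg
    refine ⟨v + w, Submodule.add_mem _ hv hw, ?_⟩
    have : f + g - (v + w) = (f - v) + (g - w) := by ring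
    rw [this]
    exact Ideal.add_mem _ h1 h2

/-- an algebra with a basis of restricted monomials is a truncated polynomial algebra -/
theorem nonempty_algEquiv_truncPoly (p : ℕ) (hp : 0 < p) (x : Fin n → A) (hx : ∀ i, x i ^ p = 0)
    (hbij : Function.Bijective (Finsupp.linearCombination R (monFam R (p - 1) x))) :
    Nonempty (A ≃ₐ[R] (MvPolynomial (Fin n) R ⧸
      Ideal.span (Set.range fun i : Fin n => (X i : MvPolynomial (Fin n) R) ^ p))) := by
  have hJ : ∀ a ∈ Ideal.span (Set.range fun i : Fin n => (X i : MvPolynomial (Fin n) R) ^ p),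
      aeval x a = 0 := by
    intro a ha
    have : Ideal.span (Set.range fun i : Fin n => (X i : MvPolynomial (Fin n) R) ^ p) ≤
        RingHom.ker (aeval (R := R) x) := by
      rw [Ideal.span_le]
      rintro _ ⟨i, rfl⟩
      rw [SetLike.mem_coe, RingHom.mem_ker, map_pow, aeval_X, hx]
    exact this ha
  let Φ := Ideal.Quotient.liftₐ _ (aeval (R := R) x) hJ
  have hΦ : ∀ f, Φ (Ideal.Quotient.mk _ f) = aeval x f := fun f => rfl
  have hinj : Function.Injective Φ := by
    rw [injective_iff_map_eq_zero]
    intro q hq
    obtain ⟨f, rfl⟩ := Ideal.Quotient.mk_surjective q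
    rw [hΦ] at hq
    obtain ⟨v, hv, hfv⟩ := exists_restr_sub_mem (R := R) p hp f
    have h1 : aeval x v = 0 := by
      have := hJ _ hfv
      rw [map_sub, hq, zero_sub, neg_eq_zero] at this
      exact this
    have h2 := aeval_eq_linearCombination (R := R) (p - 1) x ⟨v, hv⟩
    rw [h1] at h2
    have h3 : (basisRestrictSupport R (RestrExp n (p - 1))).repr ⟨v, hv⟩ = 0 :=
      hbij.1 (by rw [← h2, map_zero])
    have h4 : (⟨v, hv⟩ : restrictSupport R (RestrExp n (p - 1))) = 0 := by
      rwa [LinearEquiv.map_eq_zero_iff] at h3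
    have h5 : v = 0 := congrArg Subtype.val h4
    rw [h5, sub_zero] at hfv
    exact Ideal.Quotient.eq_zero_iff_mem.mpr hfv
  have hsurj : Function.Surjective Φ := by
    intro a
    obtain ⟨l, rfl⟩ := hbij.2 a
    refine ⟨Ideal.Quotient.mk _
      (((basisRestrictSupport R (RestrExp n (p - 1))).repr.symm l :
        restrictSupport R (RestrExp n (p - 1))) : MvPolynomial (Fin n) R), ?_⟩
    rw [hΦ, aeval_eq_linearCombination (R := R) (p - 1) x, LinearEquiv.apply_symm_apply]
  exact ⟨(AlgEquiv.ofBijective Φ ⟨hinj, hsurj⟩).symm⟩

/-- the number of restricted exponent vectors -/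
lemma natCard_restrExp (n m : ℕ) : Nat.card (RestrExp n m) = (m + 1) ^ n := by
  have e : RestrExp n m ≃ (Fin n → Fin (m + 1)) :=
    { toFun := fun s i => ⟨s.1 i, Nat.lt_succ_of_le (s.2 i)⟩
      invFun := fun f => ⟨Finsupp.equivFunOnFinite.symm (fun i => (f i).1),
        fun i => Nat.le_of_lt_succ (f i).2⟩
      left_inv := by
        intro s
        apply Subtype.ext
        refine Finsupp.ext (fun i => ?_)
        rfl
      right_inv := by
        intro f
        funext i
        rfl }
  rw [Nat.card_congr e, Nat.card_fun, Nat.card_fin, Nat.card_fin]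

/-- the rank of an algebra with a basis of restricted monomials -/
theorem finrank_of_monFam_bijective [Nontrivial R] (m : ℕ) (x : Fin n → A)
    (hbij : Function.Bijective (Finsupp.linearCombination R (monFam R m x))) :
    Module.finrank R A = (m + 1) ^ n := by
  have b : Module.Basis (RestrExp n m) R A :=
    Module.Basis.ofRepr (LinearEquiv.ofBijective _ hbij).symm
  rw [Module.finrank_eq_nat_card_basis b, natCard_restrExp]

end truncpoly

end Groth.Agent.Helper2.HopfLib
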