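import Mathlib
import Groth.Agent.Lib.Helper2.Hopf.UnitComponent
import Groth.Agent.Lib.Helper7.Hensel.Local

set_option autoImplicit false

open scoped TensorProduct
open Coalgebra

namespace Groth.Agent.Helper2.HopfLib

universe u v w

section universal

variable {R : Type u} [CommRing R] {A : Type v} [CommRing A] [HopfAlgebra R A]
  {e : A} [IsLocalRing (A ⧸ Ideal.span ({1 - e} : Set A))]

/-- homomorphisms from the unit component to a finite étale group are trivial -/
theorem etale_hom_trivial_on_unitComponent (hε : Bialgebra.counitAlgHom R A e = 1)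
    {C : Type w} [CommRing C] [HopfAlgebra R C] [Algebra.FormallyUnramified R C]
    [Algebra.FiniteType R C] (φ : C →ₐc[R] A) :
    (Ideal.Quotient.mkₐ R (Ideal.span ({1 - e} : Set A))).comp (φ : C →ₐ[R] A) =
      (Algebra.ofId R (A ⧸ Ideal.span ({1 - e} : Set A))).comp (Bialgebra.counitAlgHom R C) := by
  have hker : RingHom.ker (aug0 hε) ≤
      IsLocalRing.maximalIdeal (A ⧸ Ideal.span ({1 - e} : Set A)) := by
    apply IsLocalRing.le_maximalIdeal
    intro h
    have h1 : (1 : A ⧸ Ideal.span ({1 - e} : Set A)) ∈ RingHom.ker (aug0 hε) := by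
      rw [h]; trivial
    rw [RingHom.mem_ker, map_one] at h1
    have : (1 : A ⧸ Ideal.span ({1 - e} : Set A)) = 0 := by
      rw [← (algebraMap R (A ⧸ Ideal.span ({1 - e} : Set A))).map_one, h1, map_zero]
    exact one_ne_zero this
  refine Groth.Agent.Helper7.Hensel.algHom_eq_of_formallyUnramified
    (IsLocalRing.maximalIdeal (A ⧸ Ideal.span ({1 - e} : Set A)))
    (le_of_eq (IsLocalRing.jacobson_eq_maximalIdeal ⊥ bot_ne_top).symm) _ _ (fun x => ?_)
  apply hker
  rw [RingHom.mem_ker, map_sub]
  simp only [AlgHom.comp_apply, Ideal.Quotient.mkₐ_eq_mk, aug0_mk, Algebra.ofId_apply,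
    AlgHom.commutes, Algebra.algebraMap_self, RingHom.id_apply]
  have h2 : Bialgebra.counitAlgHom R A ((φ : C →ₐ[R] A) x) = Bialgebra.counitAlgHom R C x :=
    CoalgHomClass.counit_comp_apply φ x
  rw [h2, sub_self]

end universal

end Groth.Agent.Helper2.HopfLib
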